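import Cfsg.Agent.PhanSU.AutTwo

/-!
Aligning the coordinates of consecutive standard unitary pairs.
-/

set_option autoImplicit false
set_option linter.style.haveILetI false

open scoped Classical

namespace Cfsg.Agent.PhanSU

open Cfsg.Agent.Classical.U Matrix

universe u v

noncomputable section

variable {F : Type u} [Field F] {m q : ℕ} {G : Type v} [Group G]

/-- A standard pair gives a homomorphism with central kernel. -/
theorem exists_psi {V A B : Subgroup G} (h : Cfsg.IsStandardUnitaryPair V A B F q) :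
    ∃ ψ : Cfsg.SU 3 F q →* G, ψ.ker ≤ Subgroup.center _ ∧ (ψ.comp e01).range = A ∧
      (ψ.comp e12).range = B ∧ ψ.range = V := by
  rcases h with ⟨ψ, hA, hB⟩ | ⟨ψ, hA, hB⟩
  · refine ⟨V.subtype.comp ψ.toMonoidHom, fun x hx => ?_, ?_, ?_, ?_⟩
    · have : ψ x = 1 := Subtype.ext hx
      rw [EmbeddingLike.map_eq_one_iff] at this
      rw [this]; exact one_mem _
    · rw [MonoidHom.range_comp, ← suBlock01]; exact hA
    · rw [MonoidHom.range_comp, ← suBlock12]; exact hB
    · rw [MonoidHom.range_comp, MonoidHom.range_eq_top.mpr ψ.surjective, ← MonoidHom.range_eq_map,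
        Subgroup.range_subtype]
  · refine ⟨V.subtype.comp (ψ.toMonoidHom.comp (QuotientGroup.mk' _)), fun x hx => ?_, ?_, ?_, ?_⟩
    · have : ψ (QuotientGroup.mk' (Subgroup.center (Cfsg.SU 3 F q)) x) = 1 := Subtype.ext hx
      rw [EmbeddingLike.map_eq_one_iff] at this
      exact (QuotientGroup.eq_one_iff x).mp this
    · rw [MonoidHom.range_comp, ← suBlock01]; exact hA
    · rw [MonoidHom.range_comp, ← suBlock12]; exact hB
    · rw [MonoidHom.range_comp, MonoidHom.range_eq_top.mpr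
        (show Function.Surjective (ψ.toMonoidHom.comp (QuotientGroup.mk' _)) from
          ψ.surjective.comp (QuotientGroup.mk'_surjective _)), ← MonoidHom.range_eq_map,
        Subgroup.range_subtype]

theorem sm_mul_apply (x y : Cfsg.SU 3 F q) (i j : Fin 3) :
    sm (x * y) i j = sm x i 0 * sm y 0 j + sm x i 1 * sm y 1 j + sm x i 2 * sm y 2 j := by
  rw [sm_mul, Matrix.mul_apply, Fin.sum_univ_three]

section

variable (hF : SqField F q) (hq : 2 ≤ q)
include hF

theorem e01_tor_conj {t : F} (ht : t ^ (q + 1) = 1) {d x x' : Cfsg.SU 2 F q}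
    (hd : sm d 0 0 = t ∧ sm d 0 1 = 0) (h0 : sm x' 0 0 = sm x 0 0)
    (h1 : sm x' 0 1 = t ^ q * sm x 0 1) : e01 d * e12 x = e12 x' * e01 d := by
  obtain ⟨d1, d2, -⟩ := su2_form hF d
  obtain ⟨a1, a2, -⟩ := su2_form hF x
  obtain ⟨b1, b2, -⟩ := su2_form hF x'
  rw [hd.1] at d1
  rw [hd.2, zero_pow hF.q_ne_zero, neg_zero] at d2
  rw [h0] at b1
  rw [h1, mul_pow, hF.pow_pow] at b2
  apply sm_ext
  rw [sm_mul, sm_mul, sm_e01, sm_e12, sm_e12, hd.1, hd.2, d1, d2, a1, a2, b1, b2, h0, h1]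
  rw [pow_succ'] at ht
  ext i j
  fin_cases i <;> fin_cases j <;> simp [Matrix.mul_apply, Fin.sum_univ_three] <;>
    first | ring1 | (linear_combination (sm x 0 1 ^ q) * ht) | (linear_combination (-(sm x 0 1 ^ q)) * ht)

theorem e12_tor_conj {t : F} (ht : t ^ (q + 1) = 1) {d x x' : Cfsg.SU 2 F q}
    (hd : sm d 0 0 = t ∧ sm d 0 1 = 0) (h0 : sm x' 0 0 = sm x 0 0)
    (h1 : sm x' 0 1 = t ^ q * sm x 0 1) : e12 d * e01 x = e01 x' * e12 d := by
  obtain ⟨d1, d2, -⟩ := su2_form hF d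
  obtain ⟨a1, a2, -⟩ := su2_form hF x
  obtain ⟨b1, b2, -⟩ := su2_form hF x'
  rw [hd.1] at d1
  rw [hd.2, zero_pow hF.q_ne_zero, neg_zero] at d2
  rw [h0] at b1
  rw [h1, mul_pow, hF.pow_pow] at b2
  apply sm_ext
  rw [sm_mul, sm_mul, sm_e12, sm_e01, sm_e01, hd.1, hd.2, d1, d2, a1, a2, b1, b2, h0, h1]
  rw [pow_succ'] at ht
  ext i j
  fin_cases i <;> fin_cases j <;> simp [Matrix.mul_apply, Fin.sum_univ_three] <;>
    first | ring1 | (linear_combination (sm x 0 1) * ht) | (linear_combination (-(sm x 0 1)) * ht)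

theorem exists_scaled {t : F} (ht : t ^ (q + 1) = 1) (x : Cfsg.SU 2 F q) :
    ∃ x' : Cfsg.SU 2 F q, sm x' 0 0 = sm x 0 0 ∧ sm x' 0 1 = t ^ q * sm x 0 1 := by
  obtain ⟨-, -, h⟩ := su2_form hF x
  obtain ⟨x', hx'⟩ := exists_su2 hF (a := sm x 0 0) (b := t ^ q * sm x 0 1) (by
    rw [mul_pow, hF.pow_pow]
    rw [pow_succ'] at ht
    linear_combination h + (sm x 0 1 * sm x 0 1 ^ q) * ht)
  exact ⟨x', by rw [hx']; rfl, by rw [hx']; rfl⟩

include hq

theorem e01_central {x : Cfsg.SU 2 F q} (h : e01 x ∈ Subgroup.center (Cfsg.SU 3 F q)) : x = 1 := by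
  rw [Subgroup.mem_center_iff] at h
  obtain ⟨t, ht, ht2⟩ := exists_norm_one_sq_ne hF hq
  obtain ⟨d, hd0, hd1⟩ := exists_tor hF ht
  obtain ⟨w, hw⟩ := exists_su2 hF (a := (0 : F)) (b := 1) (by simp)
  have k := congrArg (fun y => sm y 0 1) (h (e12 d))
  simp only [sm_mul_apply, sm_e01, sm_e12, hd0, hd1] at k
  simp at k
  have hb : sm x 0 1 = 0 := by
    by_contra hb
    have : (t - 1) * sm x 0 1 = 0 := by linear_combination -k
    exact ht2 (by rw [sub_eq_zero.mp ((mul_eq_zero.mp this).resolve_right hb), one_mul])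
  have k2 := congrArg (fun y => sm y 1 2) (h (e12 w))
  simp only [sm_mul_apply, sm_e01, sm_e12, hw] at k2
  simp at k2
  obtain ⟨a1, -, -⟩ := su2_form hF x
  refine su2_ext hF ?_ hb
  show sm x 0 0 = 1
  rw [← hF.pow_pow (sm x 0 0), ← a1, ← k2, one_pow]

theorem e12_central {x : Cfsg.SU 2 F q} (h : e12 x ∈ Subgroup.center (Cfsg.SU 3 F q)) : x = 1 := by
  rw [Subgroup.mem_center_iff] at h
  obtain ⟨t, ht, ht2⟩ := exists_norm_one_sq_ne hF hq
  obtain ⟨d, hd0, hd1⟩ := exists_tor hF ht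
  obtain ⟨w, hw⟩ := exists_su2 hF (a := (0 : F)) (b := 1) (by simp)
  obtain ⟨f1, -, -⟩ := su2_form hF d
  rw [hd0] at f1
  have k := congrArg (fun y => sm y 1 2) (h (e01 d))
  simp only [sm_mul_apply, sm_e01, sm_e12, hd0, hd1, f1] at k
  simp at k
  have hb : sm x 0 1 = 0 := by
    by_contra hb
    have h1 : (t ^ q - 1) * sm x 0 1 = 0 := by linear_combination k
    have h2 := sub_eq_zero.mp ((mul_eq_zero.mp h1).resolve_right hb)
    rw [pow_succ', h2, mul_one] at ht
    exact ht2 (by rw [ht, mul_one])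
  have k2 := congrArg (fun y => sm y 0 1) (h (e01 w))
  simp only [sm_mul_apply, sm_e01, sm_e12, hw] at k2
  simp at k2
  exact su2_ext hF k2 hb

theorem block_injective {ψ : Cfsg.SU 3 F q →* G} (hk : ψ.ker ≤ Subgroup.center _) :
    Function.Injective (ψ.comp e01) ∧ Function.Injective (ψ.comp e12) :=
  ⟨(injective_iff_map_eq_one _).mpr fun _ hx => e01_central hF hq (hk hx),
    (injective_iff_map_eq_one _).mpr fun _ hx => e12_central hF hq (hk hx)⟩

/-- The transition between two overlapping pairs respects the diagonal tori. -/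
theorem torus_of_overlap {ψ ψ' : Cfsg.SU 3 F q →* G} (hk : ψ.ker ≤ Subgroup.center _)
    (hk' : ψ'.ker ≤ Subgroup.center _) (α : MulAut (Cfsg.SU 2 F q))
    (hα : ∀ x, ψ' (e01 (α x)) = ψ (e12 x))
    (hcomm : ∀ a b, Commute (ψ (e01 a)) (ψ' (e12 b))) {x : Cfsg.SU 2 F q}
    (hx : sm x 0 1 = 0) : sm (α x) 0 1 = 0 := by
  obtain ⟨t, ht, ht2⟩ := exists_norm_one_sq_ne hF hq
  obtain ⟨d, hd⟩ := exists_tor hF ht
  obtain ⟨y', hy0, hy1⟩ := exists_scaled hF ht (α x)
  set y := α x with hy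
  -- the torus of the overlap is the centraliser of the outer torus
  have cen : ∀ z, (∀ {s : F}, s ^ (q + 1) = 1 → ∀ e : Cfsg.SU 2 F q,
      sm e 0 0 = s ∧ sm e 0 1 = 0 → Commute (ψ (e01 e)) (ψ (e12 z))) → sm z 0 1 = 0 := by
    intro z hz
    obtain ⟨z', hz0, hz1⟩ := exists_scaled hF ht z
    have h1 := congrArg ψ (e01_tor_conj hF ht hd hz0 hz1)
    rw [map_mul, map_mul, (hz ht d hd).eq] at h1
    have h2 := congrArg (fun w => sm w 0 1) ((block_injective hF hq hk).2 (mul_right_cancel h1))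
    rw [hz1] at h2
    by_contra hb
    have h3 : (t ^ q - 1) * sm z 0 1 = 0 := by linear_combination -h2
    have h4 := sub_eq_zero.mp ((mul_eq_zero.mp h3).resolve_right hb)
    rw [pow_succ', h4, mul_one] at ht
    exact ht2 (by rw [ht, mul_one])
  have base : ∀ {s : F}, s ^ (q + 1) = 1 → ∀ e : Cfsg.SU 2 F q,
      sm e 0 0 = s ∧ sm e 0 1 = 0 → Commute (ψ (e01 e)) (ψ (e12 x)) := fun hs e he => by
    show ψ (e01 e) * ψ (e12 x) = ψ (e12 x) * ψ (e01 e)
    rw [← map_mul, e01_tor_conj hF hs he rfl (by rw [hx, mul_zero]), map_mul]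
  have hX : ψ' (e01 y') = ψ' (e12 d) * ψ' (e01 y) * (ψ' (e12 d))⁻¹ := by
    rw [← map_mul, e12_tor_conj hF ht hd hy0 hy1, map_mul, mul_inv_cancel_right]
  have hz : sm (α.symm y') 0 1 = 0 := cen _ fun hs e he => by
    rw [← hα, α.apply_symm_apply, hX]
    refine ((hcomm e d).mul_right ?_).mul_right (hcomm e d).inv_right
    rw [hy, hα]
    exact base hs e he
  have hcm : x * α.symm y' = α.symm y' * x := by
    obtain ⟨-, x2, -⟩ := su2_form hF x
    obtain ⟨-, z2, -⟩ := su2_form hF (α.symm y')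
    rw [hx, zero_pow hF.q_ne_zero, neg_zero] at x2
    rw [hz, zero_pow hF.q_ne_zero, neg_zero] at z2
    apply sm_ext
    ext i j
    rw [sm_mul, sm_mul, Matrix.mul_apply, Matrix.mul_apply, Fin.sum_univ_two, Fin.sum_univ_two]
    fin_cases i <;> fin_cases j <;> simp [hx, hz, x2, z2, mul_comm]
  have h5 := congrArg (fun w => sm (α w) 0 0) hcm
  simp only [map_mul, α.apply_symm_apply, sm_mul, Matrix.mul_apply, Fin.sum_univ_two, ← hy] at h5
  rw [(su2_form hF y).2.1, (su2_form hF y').2.1, hy0, hy1, mul_pow, hF.pow_pow] at h5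
  by_contra hb
  have h6 : (t - t ^ q) * (sm y 0 1 * sm y 0 1 ^ q) = 0 := by linear_combination -h5
  have h7 := sub_eq_zero.mp ((mul_eq_zero.mp h6).resolve_right
    (mul_ne_zero hb (pow_ne_zero _ hb)))
  rw [pow_succ', ← h7] at ht
  exact ht2 ht

end

/-- Field automorphism followed by conjugation with a diagonal matrix of norm one. -/
def twist (hF : SqField F q) (δ : Fin m → F) (hδ : ∀ i, δ i * δ i ^ q = 1) (σ : F ≃+* F) :
    Cfsg.SU m F q →* Cfsg.SU m F q where
  toFun x := ⟨⟨Matrix.diagonal δ * (sm x).map σ * Matrix.diagonal (fun i => δ i ^ q), by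
      rw [Matrix.det_mul, Matrix.det_mul, show ((sm x).map σ) = (sm x).map σ.toRingHom from rfl,
        ← RingHom.mapMatrix_apply, ← RingHom.map_det, show (sm x).det = 1 from x.1.2, map_one,
        mul_one, Matrix.det_diagonal, Matrix.det_diagonal, ← Finset.prod_mul_distrib,
        Finset.prod_eq_one fun i _ => hδ i]⟩, fun u v => by
      show herm q ((Matrix.diagonal δ * (sm x).map σ * Matrix.diagonal (fun i => δ i ^ q)).mulVec u)
        ((Matrix.diagonal δ * (sm x).map σ * Matrix.diagonal (fun i => δ i ^ q)).mulVec v)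
        = herm q u v
      have e : ∀ w : Fin m → F,
          (Matrix.diagonal δ * (sm x).map σ * Matrix.diagonal (fun i => δ i ^ q)).mulVec w
          = fun i => δ i * σ ((sm x).mulVec (fun j => σ.symm (δ j ^ q * w j)) i) := fun w => by
        funext i
        simp [Matrix.mulVec, dotProduct, Matrix.mul_diagonal, Matrix.diagonal_mul, map_sum,
          Finset.mul_sum, mul_assoc]
      rw [e, e]
      have h1 := congrArg σ (sm_herm x (fun j => σ.symm (δ j ^ q * u j))
        (fun j => σ.symm (δ j ^ q * v j)))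
      simp only [herm_def, map_sum, map_mul, map_pow, RingEquiv.apply_symm_apply] at h1 ⊢
      have k1 : ∀ i (A B : F), δ i * A * (δ i * B) ^ q = A * B ^ q := fun i A B => by
        rw [mul_pow]; linear_combination (A * B ^ q) * hδ i
      have k2 : ∀ i (A B : F), δ i ^ q * A * (δ i ^ q * B) ^ q = A * B ^ q := fun i A B => by
        rw [mul_pow, hF.pow_pow]; linear_combination (A * B ^ q) * hδ i
      simp only [k1]
      simp only [k2] at h1
      exact h1⟩
  map_one' := sm_ext (by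
    show Matrix.diagonal δ * (1 : Matrix (Fin m) (Fin m) F).map σ
      * Matrix.diagonal (fun i => δ i ^ q) = 1
    rw [Matrix.map_one _ (map_zero σ) (map_one σ), mul_one, Matrix.diagonal_mul_diagonal]
    simp [hδ])
  map_mul' x y := sm_ext (by
    show Matrix.diagonal δ * (sm x * sm y).map σ * Matrix.diagonal (fun i => δ i ^ q) =
      Matrix.diagonal δ * (sm x).map σ * Matrix.diagonal (fun i => δ i ^ q) *
        (Matrix.diagonal δ * (sm y).map σ * Matrix.diagonal (fun i => δ i ^ q))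
    rw [show ((sm x * sm y).map σ) = (sm x).map σ * (sm y).map σ from Matrix.map_mul]
    have h : Matrix.diagonal (fun i => δ i ^ q) * Matrix.diagonal δ = 1 := by
      rw [Matrix.diagonal_mul_diagonal]
      simp [mul_comm, hδ]
    simp only [mul_assoc]
    rw [← mul_assoc (Matrix.diagonal (fun i => δ i ^ q)) (Matrix.diagonal δ), h, one_mul])

theorem sm_twist (hF : SqField F q) (δ : Fin m → F) (hδ : ∀ i, δ i * δ i ^ q = 1) (σ : F ≃+* F)
    (x : Cfsg.SU m F q) (i j : Fin m) :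
    sm (twist hF δ hδ σ x) i j = δ i * σ (sm x i j) * δ j ^ q := by
  show (Matrix.diagonal δ * (sm x).map σ * Matrix.diagonal (fun i => δ i ^ q)) i j = _
  simp [Matrix.mul_diagonal, Matrix.diagonal_mul]

theorem twist_bijective (hF : SqField F q) (δ : Fin m → F) (hδ : ∀ i, δ i * δ i ^ q = 1)
    (σ : F ≃+* F) : Function.Bijective (twist hF δ hδ σ) := by
  obtain ⟨hfin, -⟩ := id hF
  have : Finite (Cfsg.SU m F q) := inferInstance
  refine Finite.injective_iff_bijective.mp fun x y h => sm_ext (Matrix.ext fun i j => ?_)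
  have h1 := congrArg (fun w => sm w i j) h
  simp only [sm_twist] at h1
  have hne : ∀ k, δ k ≠ 0 := fun k e => by simpa [e] using hδ k
  exact σ.injective (mul_left_cancel₀ (hne i) (mul_right_cancel₀ (pow_ne_zero _ (hne j)) h1))

/-- One step of the alignment. -/
theorem align_step (hF : SqField F q) (hq : 2 ≤ q) {ψ ψ' : Cfsg.SU 3 F q →* G}
    (hk : ψ.ker ≤ Subgroup.center _) (hk' : ψ'.ker ≤ Subgroup.center _)
    (heq : (ψ.comp e12).range = (ψ'.comp e01).range)
    (hcomm : ∀ a b, Commute (ψ (e01 a)) (ψ' (e12 b))) :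
    ∃ χ : Cfsg.SU 3 F q →* G, χ.ker ≤ Subgroup.center _ ∧ χ.comp e01 = ψ.comp e12 ∧
      (χ.comp e12).range = (ψ'.comp e12).range ∧ χ.range = ψ'.range := by
  let α : MulAut (Cfsg.SU 2 F q) :=
    (MonoidHom.ofInjective (block_injective hF hq hk).2).trans
      ((MulEquiv.subgroupCongr heq).trans (MonoidHom.ofInjective (block_injective hF hq hk').1).symm)
  have hα : ∀ x, ψ' (e01 (α x)) = ψ (e12 x) := fun x => by
    have h := congrArg Subtype.val ((MonoidHom.ofInjective (block_injective hF hq hk').1).apply_symm_apply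
      ((MulEquiv.subgroupCongr heq) (MonoidHom.ofInjective (block_injective hF hq hk).2 x)))
    exact h
  obtain ⟨κ, σ, hκ, hσ⟩ := exists_torus_aut hF hq α fun x hx =>
    torus_of_overlap hF hq hk hk' α hα hcomm hx
  rw [pow_succ'] at hκ
  have hδ : ∀ i, (![κ, 1, 1] : Fin 3 → F) i * (![κ, 1, 1] : Fin 3 → F) i ^ q = 1 := fun i => by
    fin_cases i <;> simp [hκ]
  let β := twist hF ![κ, 1, 1] hδ σ
  let γ := twist hF (fun _ : Fin 2 => (1 : F)) (fun _ => by simp) σ
  have h1 : ∀ x, β (e01 x) = e01 (α x) := fun x => by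
    obtain ⟨a1, a2, -⟩ := su2_form hF x
    obtain ⟨b1, b2, -⟩ := su2_form hF (α x)
    obtain ⟨c0, c1⟩ := hσ x
    apply sm_ext
    ext i j
    rw [sm_twist, sm_e01, sm_e01, b1, b2, a1, a2, c0, c1, mul_pow, ← map_pow, ← map_pow]
    fin_cases i <;> fin_cases j <;> simp [map_neg] <;>
      first | ring1 | (linear_combination σ (sm x 0 0) * hκ)
  have h2 : ∀ x, β (e12 x) = e12 (γ x) := fun x => by
    apply sm_ext
    ext i j
    rw [sm_twist, sm_e12, sm_e12, sm_twist, sm_twist, sm_twist, sm_twist]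
    fin_cases i <;> fin_cases j <;> simp [hκ]
  refine ⟨ψ'.comp β, fun x hx => ?_, MonoidHom.ext fun x => ?_, ?_, ?_⟩
  · have hβx : β x ∈ Subgroup.center _ := hk' hx
    rw [Subgroup.mem_center_iff] at hβx ⊢
    intro g
    exact (twist_bijective hF ![κ, 1, 1] hδ σ).1 (by rw [map_mul, map_mul]; exact hβx (β g))
  · show ψ' (β (e01 x)) = ψ (e12 x)
    rw [h1, hα]
  · ext g
    constructor
    · rintro ⟨x, rfl⟩
      exact ⟨γ x, congrArg ψ' (h2 x).symm⟩
    · rintro ⟨x, rfl⟩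
      obtain ⟨y, hy⟩ := (twist_bijective hF (fun _ : Fin 2 => (1 : F)) (fun _ => by simp) σ).2 x
      exact ⟨y, congrArg ψ' ((h2 y).trans (congrArg e12 hy))⟩
  · rw [MonoidHom.range_comp, MonoidHom.range_eq_top.mpr (twist_bijective hF ![κ, 1, 1] hδ σ).2,
      ← MonoidHom.range_eq_map]

/-- The aligned family of homomorphisms. -/
theorem exists_aligned (hF : SqField F q) (hq : 2 ≤ q) (n : ℕ) (U : ℕ → Subgroup G)
    (V : ℕ → Subgroup G)
    (h1 : ∀ i j, i + 2 ≤ j → j < n → ∀ x ∈ U i, ∀ y ∈ U j, Commute x y)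
    (h2 : ∀ i, i + 1 < n → Cfsg.IsStandardUnitaryPair (V i) (U i) (U (i + 1)) F q) :
    ∃ ψ : ℕ → (Cfsg.SU 3 F q →* G), ∀ i, i + 1 < n →
      (ψ i).ker ≤ Subgroup.center _ ∧ ((ψ i).comp e01).range = U i ∧
      ((ψ i).comp e12).range = U (i + 1) ∧ (ψ i).range = V i ∧
      (1 ≤ i → (ψ i).comp e01 = (ψ (i - 1)).comp e12) := by
  suffices h : ∀ k, k + 1 ≤ n → ∃ ψ : ℕ → (Cfsg.SU 3 F q →* G), ∀ i, i < k →
      (ψ i).ker ≤ Subgroup.center _ ∧ ((ψ i).comp e01).range = U i ∧
      ((ψ i).comp e12).range = U (i + 1) ∧ (ψ i).range = V i ∧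
      (1 ≤ i → (ψ i).comp e01 = (ψ (i - 1)).comp e12) by
    by_cases hn : 1 ≤ n
    · obtain ⟨ψ, hψ⟩ := h (n - 1) (by omega)
      exact ⟨ψ, fun i hi => hψ i (by omega)⟩
    · exact ⟨fun _ => 1, fun i hi => absurd hi (by omega)⟩
  intro k
  induction k with
  | zero => exact fun _ => ⟨fun _ => 1, fun i hi => absurd hi (Nat.not_lt_zero i)⟩
  | succ k ih =>
    intro hk
    obtain ⟨ψ, hψ⟩ := ih (by omega)
    obtain ⟨χ, hc1, hc2, hc3, hc4⟩ := exists_psi (h2 k (by omega))
    obtain ⟨χ', hd1, hd2, hd3, hd4, hd5⟩ : ∃ χ' : Cfsg.SU 3 F q →* G,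
        χ'.ker ≤ Subgroup.center _ ∧ (χ'.comp e01).range = U k ∧
        (χ'.comp e12).range = U (k + 1) ∧ χ'.range = V k ∧
        (1 ≤ k → χ'.comp e01 = (ψ (k - 1)).comp e12) := by
      by_cases h0 : 1 ≤ k
      · obtain ⟨a1, a2, a3, -, -⟩ := hψ (k - 1) (by omega)
        rw [show k - 1 + 1 = k by omega] at a3
        obtain ⟨χ', b1, b2, b3, b4⟩ := align_step hF hq a1 hc1 (a3.trans hc2.symm) fun a b =>
          h1 (k - 1) (k + 1) (by omega) (by omega) _ (a2 ▸ ⟨a, rfl⟩) _ (hc3 ▸ ⟨b, rfl⟩)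
        exact ⟨χ', b1, b2 ▸ a3, b3.trans hc3, b4.trans hc4, fun _ => b2⟩
      · exact ⟨χ, hc1, hc2, hc3, hc4, fun h => absurd h h0⟩
    refine ⟨Function.update ψ k χ', fun i hi => ?_⟩
    by_cases he : i = k
    · subst he
      rw [Function.update_self]
      refine ⟨hd1, hd2, hd3, hd4, fun h => ?_⟩
      rw [Function.update_of_ne (by omega)]
      exact hd5 h
    · rw [Function.update_of_ne he]
      obtain ⟨a1, a2, a3, a4, a5⟩ := hψ i (by omega)
      refine ⟨a1, a2, a3, a4, fun h => ?_⟩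
      rw [Function.update_of_ne (by omega)]
      exact a5 h

end

end Cfsg.Agent.PhanSU
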