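import Cfsg.Agent.PhanSU.Geometry

/-!
Lifts of the small special unitary subgroups and their generation properties.
-/

set_option autoImplicit false
set_option linter.style.haveILetI false

open scoped Classical

namespace Cfsg.Agent.PhanSU

open Cfsg.Agent.Classical.U

universe u v

noncomputable section

variable {F : Type u} [Field F] {n q : ℕ} {H : Type v} [Group H]

/-- The coordinates of index at least `k`. -/
def tailT (n k : ℕ) : Finset (Fin (n + 1)) := Finset.univ.filter fun l => k ≤ (l : ℕ)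

/-- Two consecutive coordinates. -/
def pairT (n i : ℕ) : Finset (Fin (n + 1)) :=
  Finset.univ.filter fun l => (l : ℕ) = i ∨ (l : ℕ) = i + 1

/-- Three consecutive coordinates. -/
def tripT (n i : ℕ) : Finset (Fin (n + 1)) :=
  Finset.univ.filter fun l => i ≤ (l : ℕ) ∧ (l : ℕ) ≤ i + 2

theorem mem_tailT {k : ℕ} {l : Fin (n + 1)} : l ∈ tailT n k ↔ k ≤ (l : ℕ) := by simp [tailT]

theorem mem_pairT {i : ℕ} {l : Fin (n + 1)} :
    l ∈ pairT n i ↔ (l : ℕ) = i ∨ (l : ℕ) = i + 1 := by simp [pairT]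

theorem tailT_antitone {k k' : ℕ} (h : k ≤ k') : tailT n k' ⊆ tailT n k := fun l hl =>
  mem_tailT.mpr (h.trans (mem_tailT.mp hl))

theorem pairT_subset_tailT {k i : ℕ} (h : k ≤ i) : pairT n i ⊆ tailT n k := fun l hl =>
  mem_tailT.mpr (by rcases mem_pairT.mp hl with e | e <;> omega)

theorem card_tailT (k : ℕ) (hk : k ≤ n) : (tailT n k).card = n + 1 - k := by
  have : tailT n k = Finset.Ici (⟨k, by omega⟩ : Fin (n + 1)) := by
    ext l; simp [mem_tailT, Fin.le_iff_val_le_val]
  rw [this, Fin.card_Ici]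

theorem one_lt_card_pairT {i : ℕ} (hi : i < n) : 1 < (pairT n i).card :=
  Finset.one_lt_card.mpr ⟨⟨i, by omega⟩, mem_pairT.mpr (Or.inl rfl), ⟨i + 1, by omega⟩,
    mem_pairT.mpr (Or.inr rfl), fun e => by simpa using congrArg Fin.val e⟩

theorem one_lt_card_tailT {k : ℕ} (hk : k < n) : 1 < (tailT n k).card := by
  rw [card_tailT k hk.le]; omega

/-- The basis vector of index `k`. -/
def bas (F : Type u) [Field F] (n k : ℕ) : Fin (n + 1) → F :=
  if h : k < n + 1 then dd ⟨k, h⟩ else 0

theorem bas_eq {k : ℕ} (h : k ≤ n) : bas F n k = dd ⟨k, Nat.lt_succ_of_le h⟩ := dif_pos _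

theorem bas_mem_tail {j k : ℕ} (hk : k ≤ n) (h : j ≤ k) : bas F n k ∈ supp (tailT n j) := by
  rw [bas_eq hk]; exact dd_mem_supp (mem_tailT.mpr h)

theorem bas_mem_pair {i k : ℕ} (hk : k ≤ n) (h : k = i ∨ k = i + 1) :
    bas F n k ∈ supp (pairT n i) := by
  rw [bas_eq hk]; exact dd_mem_supp (mem_pairT.mpr h)

theorem bas_unit (hF : SqField F q) {k : ℕ} (hk : k ≤ n) :
    herm q (bas F n k) (bas F n k) = 1 := by
  rw [bas_eq hk]; exact dd_unit hF _

theorem herm_bas (hF : SqField F q) {k : ℕ} (hk : k ≤ n) (v : Fin (n + 1) → F) :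
    herm q v (bas F n k) = v ⟨k, Nat.lt_succ_of_le hk⟩ := by
  rw [bas_eq hk]; exact herm_dd hF _ v

theorem fix_bas {T : Finset (Fin (n + 1))} {g : Sug (n + 1) F q} (hg : g ∈ fixT T) {k : ℕ}
    (hk : k ≤ n) (h : (⟨k, Nat.lt_succ_of_le hk⟩ : Fin (n + 1)) ∉ T) :
    app g (bas F n k) = bas F n k := by
  rw [bas_eq hk]; exact hg _ h

/-- A subgroup of a product meeting the first factor trivially. -/
def Func {G : Type*} [Group G] (L : Subgroup (H × G)) : Prop := ∀ x ∈ L, x.2 = 1 → x = 1

theorem Func.eq {G : Type*} [Group G] {L : Subgroup (H × G)} (hL : Func L) {x y : H × G}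
    (hx : x ∈ L) (hy : y ∈ L) (h : x.2 = y.2) : x = y :=
  inv_mul_eq_one.mp (hL _ (L.mul_mem (L.inv_mem hx) hy) (by simp [h]))

theorem Func.mono {G : Type*} [Group G] {L L' : Subgroup (H × G)} (hL : Func L) (h : L' ≤ L) :
    Func L' :=
  fun x hx => hL x (h hx)

theorem commute_of_closure {G : Type*} [Group G] {s : Set G} {x : G}
    (h : ∀ y ∈ s, Commute x y) {y : G} (hy : y ∈ Subgroup.closure s) : Commute x y := by
  induction hy using Subgroup.closure_induction with
  | mem y hy => exact h y hy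
  | one => exact Commute.one_right x
  | mul a b _ _ ha hb => exact ha.mul_right hb
  | inv a _ ha => exact ha.inv_right

/-- The data of a Phan amalgam. -/
structure PData (F : Type u) [Field F] (q n : ℕ) (H : Type v) [Group H] where
  hF : SqField F q
  hq : 3 ≤ q
  two_le : 2 ≤ n
  GU : ℕ → Subgroup (H × Sug (n + 1) F q)
  GU_mem : ∀ i, i < n → ∀ x ∈ GU i, x.2 ∈ fixT (pairT n i)
  GU_lift : ∀ i, i < n → ∀ g ∈ (fixT (pairT n i) : Subgroup (Sug (n + 1) F q)),
    ∃ x ∈ GU i, x.2 = g
  far : ∀ i j, i + 2 ≤ j → j < n → ∀ x ∈ GU i, ∀ y ∈ GU j, Commute x y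
  adj : ∀ i, i + 1 < n → Func (GU i ⊔ GU (i + 1))

theorem exists_fixed_avoid (hF : SqField F q) (s : Finset F) (h : s.card + 1 < q) :
    ∃ t : F, t ^ q = t ∧ t ≠ 0 ∧ t ∉ s := by
  by_contra hcon
  push Not at hcon
  obtain ⟨hfin, -⟩ := id hF
  have h1 : Nat.card {c : F // c ^ (q - 1) = 1} ≤ Nat.card {c : F // c ∈ s} := by
    refine Nat.card_le_card_of_injective (fun c => ⟨c.1, ?_⟩) fun a b e =>
      Subtype.ext (congrArg Subtype.val e :)
    have hne : c.1 ≠ 0 := by
      intro e
      have := c.2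
      rw [e, zero_pow (by omega)] at this
      exact zero_ne_one this
    exact hcon c.1 ((hF.fixed_iff hne).2 c.2) hne
  rw [hF.card_fixed_units, Nat.card_eq_fintype_card, Fintype.card_coe] at h1
  omega

namespace PData

variable (D : PData F q n H)

/-- The subgroup generated by the lifts of index at least `k`. -/
def Lk (k : ℕ) : Subgroup (H × Sug (n + 1) F q) :=
  Subgroup.closure {x | ∃ i, k ≤ i ∧ i < n ∧ x ∈ D.GU i}

theorem GU_le_Lk {k i : ℕ} (h : k ≤ i) (hi : i < n) : D.GU i ≤ D.Lk k :=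
  fun _ hx => Subgroup.subset_closure ⟨i, h, hi, hx⟩

theorem Lk_antitone {k k' : ℕ} (h : k ≤ k') : D.Lk k' ≤ D.Lk k :=
  (Subgroup.closure_le _).mpr fun _ ⟨_, hj, hi, hx⟩ => D.GU_le_Lk (h.trans hj) hi hx

theorem snd_mem {k : ℕ} {x : H × Sug (n + 1) F q} (hx : x ∈ D.Lk k) :
    x.2 ∈ fixT (tailT n k) := by
  suffices h : D.Lk k ≤ (fixT (tailT n k)).comap (MonoidHom.snd H (Sug (n + 1) F q)) from h hx
  exact (Subgroup.closure_le _).mpr fun y ⟨i, hki, hi, hy⟩ =>
    fixT_mono (pairT_subset_tailT hki) (D.GU_mem i hi y hy)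

/-- The properties established by induction. -/
structure Good (k : ℕ) : Prop where
  func : Func (D.Lk k)
  surj : ∀ g ∈ (fixT (tailT n k) : Subgroup (Sug (n + 1) F q)), ∃ x ∈ D.Lk k, x.2 = g

theorem funcU {i : ℕ} (hi : i < n) : Func (D.GU i) := by
  by_cases h : i + 1 < n
  · exact (D.adj i h).mono le_sup_left
  · have h2 := D.two_le
    have := (D.adj (i - 1) (by omega)).mono (le_sup_right (a := D.GU (i - 1)))
    rwa [show i - 1 + 1 = i by omega] at this

theorem good_last : D.Good (n - 1) := by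
  have h2 := D.two_le
  have hle : D.Lk (n - 1) ≤ D.GU (n - 1) := (Subgroup.closure_le _).mpr fun x ⟨i, h, hi, hx⟩ => by
    obtain rfl : i = n - 1 := by omega
    exact hx
  have hT : tailT n (n - 1) = pairT n (n - 1) := by
    ext l; rw [mem_tailT, mem_pairT]; omega
  refine ⟨(D.funcU (by omega)).mono hle, fun g hg => ?_⟩
  obtain ⟨x, hx, he⟩ := D.GU_lift (n - 1) (by omega) g (hT ▸ hg)
  exact ⟨x, D.GU_le_Lk le_rfl (by omega) hx, he⟩

variable {k : ℕ}

theorem exists_plane_lift (hk : k < n) {v : Fin (n + 1) → F} (hv : v ∈ supp (pairT n k))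
    (h1 : herm q v v = 1) : ∃ s ∈ D.GU k, app s.2 (bas F n k) = v := by
  obtain ⟨g, hg, he⟩ := exists_fixT_map D.hF (one_lt_card_pairT hk)
    (bas_mem_pair hk.le (Or.inl rfl)) hv (bas_unit D.hF hk.le) h1
  obtain ⟨x, hx, rfl⟩ := D.GU_lift k hk g hg
  exact ⟨x, hx, he⟩

theorem exists_tail_lift {j : ℕ} (hj : j < n) (good : D.Good j) {v : Fin (n + 1) → F}
    (hv : v ∈ supp (tailT n j)) (h1 : herm q v v = 1) :
    ∃ g ∈ D.Lk j, app g.2 (bas F n j) = v := by
  obtain ⟨g, hg, he⟩ := exists_fixT_map D.hF (one_lt_card_tailT hj)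
    (bas_mem_tail hj.le le_rfl) hv (bas_unit D.hF hj.le) h1
  obtain ⟨x, hx, rfl⟩ := good.surj g hg
  exact ⟨x, hx, he⟩

end PData

/-- The part of a vector off the basis vector of index `k`. -/
def offPart (n k : ℕ) (v : Fin (n + 1) → F) : Fin (n + 1) → F :=
  if h : k < n + 1 then v - v ⟨k, h⟩ • bas F n k else v

theorem offPart_eq {k : ℕ} (hk : k ≤ n) (v : Fin (n + 1) → F) :
    offPart n k v = v - v ⟨k, Nat.lt_succ_of_le hk⟩ • bas F n k := dif_pos _

theorem offPart_mem {k : ℕ} (hk : k ≤ n) {v : Fin (n + 1) → F} (hv : v ∈ supp (tailT n k)) :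
    offPart n k v ∈ supp (tailT n (k + 1)) := by
  intro l hl
  rw [mem_tailT, not_le] at hl
  rw [offPart_eq hk, bas_eq hk]
  by_cases h : (l : ℕ) = k
  · have hl' : l = ⟨k, Nat.lt_succ_of_le hk⟩ := Fin.ext h
    subst hl'
    simp [dd_self]
  · have hne : l ≠ ⟨k, Nat.lt_succ_of_le hk⟩ := fun e => h (by rw [e])
    simp [dd_ne hne, hv l (by rw [mem_tailT]; omega)]

theorem offPart_eq' (hF : SqField F q) {k : ℕ} (hk : k ≤ n) (v : Fin (n + 1) → F) :
    offPart n k v = v - herm q v (bas F n k) • bas F n k := by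
  rw [offPart_eq hk, herm_bas hF hk]

section

variable (hF : SqField F q) {k : ℕ} (hk : k < n)
include hF hk

theorem herm_bas_tail {v : Fin (n + 1) → F} (hv : v ∈ supp (tailT n (k + 1))) :
    herm q v (bas F n k) = 0 ∧ herm q (bas F n k) v = 0 := by
  have h : herm q v (bas F n k) = 0 := by
    rw [herm_bas hF hk.le]
    exact hv _ (by simp [mem_tailT])
  exact ⟨h, herm_comm_zero hF h⟩

theorem herm_decomp {u v : Fin (n + 1) → F} (hu : u ∈ supp (tailT n k))
    (hv : v ∈ supp (tailT n k)) :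
    herm q u v = herm q u (bas F n k) * herm q v (bas F n k) ^ q
      + herm q (offPart n k u) (offPart n k v) := by
  have h1 := (herm_bas_tail hF hk (offPart_mem hk.le hv)).2
  have h2 := (herm_bas_tail hF hk (offPart_mem hk.le hu)).1
  have eu : u = herm q u (bas F n k) • bas F n k + offPart n k u := by
    rw [offPart_eq hk.le, herm_bas hF hk.le, add_sub_cancel]
  have ev : v = herm q v (bas F n k) • bas F n k + offPart n k v := by
    rw [offPart_eq hk.le, herm_bas hF hk.le, add_sub_cancel]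
  conv_lhs => rw [eu, ev]
  simp only [herm_add_left, hF.herm_add_right, herm_smul_left, herm_smul_right, h1, h2,
    bas_unit hF hk.le, mul_zero, add_zero, zero_add, mul_one]
  ring

/-- From an anisotropic vector of the smaller space to a generic unit orthogonal to a given unit
of isotropic offset. -/
theorem exists_generic_perp (hq : 3 ≤ q) {v : Fin (n + 1) → F} (hv : v ∈ supp (tailT n k))
    (hv1 : herm q v v = 1) (hvA : herm q (offPart n k v) (offPart n k v) = 0)
    (P : Finset (Fin (n + 1) → F)) (hPw : ∀ p ∈ P, herm q (offPart n k v) p = 0)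
    (hPe : ∀ p ∈ P, p ∈ supp (tailT n (k + 1)))
    {y0 : Fin (n + 1) → F} (hy : y0 ∈ supp (tailT n (k + 1))) (hy0 : herm q y0 y0 ≠ 0)
    (hyP : ∀ p ∈ P, herm q y0 p = 0) :
    ∃ u ∈ supp (tailT n k), herm q u u = 1 ∧ herm q u v = 0 ∧ (∀ p ∈ P, herm q u p = 0) ∧
      herm q (offPart n k u) (offPart n k u) ≠ 0 := by
  set w := offPart n k v with hw
  have hwW : w ∈ supp (tailT n (k + 1)) := offPart_mem hk.le hv
  set x := herm q v (bas F n k) with hxdef
  have hxx : x * x ^ q = 1 := by
    have := herm_decomp hF hk hv hv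
    rw [hv1, hvA, add_zero] at this
    exact this.symm
  -- adjust so that the value of the form on the completed vector is nonzero
  obtain ⟨y, hyW, hyn, hyd, hyP'⟩ : ∃ y ∈ supp (tailT n (k + 1)), herm q y y ≠ 0 ∧
      herm q y y + herm q y w ^ (q + 1) ≠ 0 ∧ ∀ p ∈ P, herm q y p = 0 := by
    by_cases hd : herm q y0 y0 + herm q y0 w ^ (q + 1) = 0
    swap
    · exact ⟨y0, hy, hy0, hd, hyP⟩
    set δ := herm q y0 w with hδ
    have hδ0 : δ ≠ 0 := by
      intro e
      rw [e, zero_pow (Nat.succ_ne_zero q), add_zero] at hd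
      exact hy0 hd
    obtain ⟨t, ht, ht0, hts⟩ := exists_fixed_avoid hF {-(δ ^ (q + 1))}
      (by rw [Finset.card_singleton]; omega)
    rw [Finset.mem_singleton] at hts
    obtain ⟨r, hr⟩ := hF.exists_trace (c := t - herm q y0 y0) (by rw [hF.sub_pow, ht, hF.herm_symm])
    set y := y0 + (r / δ ^ q) • w with hydef
    have e1 : herm q y w = δ := by
      rw [hydef, herm_add_left, herm_smul_left, hvA, mul_zero, add_zero]
    have e2 : herm q y y = t := by
      have h2 : herm q w y0 = δ ^ q := by rw [← hF.herm_symm, ← hδ]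
      simp only [hydef, herm_add_left, hF.herm_add_right, herm_smul_left, herm_smul_right, hvA,
        ← hδ, h2, div_pow, hF.pow_pow, mul_zero, add_zero]
      rw [div_mul_cancel₀ _ hδ0, div_mul_cancel₀ _ (pow_ne_zero _ hδ0)]
      linear_combination hr
    refine ⟨y, (supp _).add_mem hy ((supp _).smul_mem _ hwW), e2 ▸ ht0, ?_, fun p hp => ?_⟩
    · rw [e1, e2]
      exact fun e => hts (eq_neg_of_add_eq_zero_left e)
    · rw [hydef, herm_add_left, herm_smul_left, hPw p hp, hyP p hp, mul_zero, add_zero]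
  set z := (-(x * herm q y w)) • bas F n k + y with hz
  have hzk : z ∈ supp (tailT n k) :=
    (supp _).add_mem ((supp _).smul_mem _ (bas_mem_tail hk.le le_rfl))
      (supp_mono (tailT_antitone k.le_succ) hyW)
  have hy1 := herm_bas_tail hF hk hyW
  have hzv : herm q z v = 0 := by
    rw [herm_decomp hF hk hzk hv, hz, offPart_eq' hF hk.le, herm_add_left,
      herm_smul_left, bas_unit hF hk.le, hy1.1, add_zero, mul_one, add_sub_cancel_left, ← hxdef,
      ← hw]
    linear_combination (-herm q y w) * hxx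
  have hzz : herm q z z = herm q y y + herm q y w ^ (q + 1) := by
    simp only [hz, herm_add_left, hF.herm_add_right, herm_smul_left, herm_smul_right, hy1.1,
      hy1.2, bas_unit hF hk.le, mul_zero, add_zero, zero_add, mul_one]
    rw [hF.neg_pow, mul_pow, pow_succ]
    linear_combination (herm q y w * herm q y w ^ q) * hxx
  obtain ⟨c, hc, hc1⟩ := exists_scale hF (z := z) (hzz ▸ hyd)
  refine ⟨c • z, (supp _).smul_mem c hzk, hc1, by rw [herm_smul_left, hzv, mul_zero],
    fun p hp => ?_, ?_⟩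
  · rw [herm_smul_left, hz, herm_add_left, herm_smul_left, hyP' p hp, add_zero,
      (herm_bas_tail hF hk (hPe p hp)).2, mul_zero, mul_zero]
  · have hoff : offPart n k (c • z) = c • y := by
      rw [offPart_eq' hF hk.le, hz, herm_smul_left, herm_add_left,
        herm_smul_left, bas_unit hF hk.le, hy1.1, add_zero, mul_one]
      module
    rw [hoff, herm_smul_left, herm_smul_right]
    exact mul_ne_zero hc (mul_ne_zero (pow_ne_zero _ hc) hyn)

end

namespace PData

variable (D : PData F q n H) {k : ℕ}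

/-- The generic units: those in the planes of the first vector and a nondegenerate complement. -/
def IsA (n k q : ℕ) (v : Fin (n + 1) → F) : Prop :=
  offPart n k v = 0 ∨ herm q (offPart n k v) (offPart n k v) ≠ 0

theorem exists_rep (hk : k + 1 < n) (good : D.Good (k + 1)) {v : Fin (n + 1) → F}
    (hv : v ∈ supp (tailT n k)) (hv1 : herm q v v = 1) (hA : IsA n k q v) :
    ∃ g ∈ D.Lk (k + 1), ∃ s ∈ D.GU k, app (g * s).2 (bas F n k) = v := by
  have hk' : k < n := by omega
  set x := herm q v (bas F n k) with hx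
  have hdec := herm_decomp D.hF hk' hv hv
  have hvk : v = x • bas F n k + offPart n k v := by
    rw [offPart_eq hk'.le, hx, herm_bas D.hF hk'.le, add_sub_cancel]
  rcases hA with h0 | hne
  · rw [hv1, h0, herm_zero_left, add_zero, ← hx] at hdec
    obtain ⟨s, hs, hse⟩ := D.exists_plane_lift hk' (v := x • bas F n k)
      ((supp _).smul_mem x (bas_mem_pair hk'.le (Or.inl rfl)))
      (by rw [herm_smul_left, herm_smul_right, bas_unit D.hF hk'.le, mul_one, ← hdec])
    refine ⟨1, one_mem _, s, hs, ?_⟩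
    rw [one_mul, hse]
    conv_rhs => rw [hvk, h0, add_zero]
  · set w := offPart n k v with hw
    obtain ⟨c, hc, hc1⟩ := exists_scale D.hF hne
    obtain ⟨g, hg, hge⟩ := D.exists_tail_lift hk good
      ((supp _).smul_mem c (offPart_mem hk'.le hv)) hc1
    have he1 := herm_bas_tail D.hF hk' (bas_mem_tail (F := F) (j := k + 1) hk.le le_rfl)
    obtain ⟨s, hs, hse⟩ := D.exists_plane_lift hk'
      (v := x • bas F n k + c⁻¹ • bas F n (k + 1))
      ((supp _).add_mem ((supp _).smul_mem x (bas_mem_pair hk'.le (Or.inl rfl)))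
        ((supp _).smul_mem _ (bas_mem_pair hk.le (Or.inr rfl)))) (by
      have hcc : c⁻¹ * c⁻¹ ^ q = herm q w w := by
        rw [herm_smul_left, herm_smul_right] at hc1
        rw [inv_pow, ← mul_inv]
        exact inv_eq_of_mul_eq_one_right (by linear_combination hc1)
      simp only [herm_add_left, D.hF.herm_add_right, herm_smul_left, herm_smul_right,
        bas_unit D.hF hk'.le, bas_unit D.hF hk.le, he1.1, he1.2, mul_zero, add_zero, zero_add,
        mul_one]
      rw [hv1, ← hx] at hdec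
      linear_combination (-1 : F) * hdec + hcc)
    refine ⟨g, hg, s, hs, ?_⟩
    have hfix : app g.2 (bas F n k) = bas F n k :=
      fix_bas (D.snd_mem hg) hk'.le (by simp [mem_tailT])
    rw [Prod.snd_mul, app_mul, hse, app_add, app_smul, app_smul, hfix, hge, smul_smul,
      inv_mul_cancel₀ hc, one_smul]
    exact hvk.symm

theorem exists_lift_unit (hk : k + 1 < n) (good : D.Good (k + 1)) {v : Fin (n + 1) → F}
    (hv : v ∈ supp (tailT n k)) (hv1 : herm q v v = 1) :
    ∃ x ∈ D.Lk k, app x.2 (bas F n k) = v := by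
  have hk' : k < n := by omega
  have key : ∀ u ∈ supp (tailT n k), herm q u u = 1 → IsA n k q u →
      ∃ x ∈ D.Lk k, app x.2 (bas F n k) = u := fun u hu hu1 hA => by
    obtain ⟨g, hg, s, hs, he⟩ := D.exists_rep hk good hu hu1 hA
    exact ⟨g * s, mul_mem (D.Lk_antitone k.le_succ hg) (D.GU_le_Lk le_rfl hk' hs), he⟩
  by_cases hA : IsA n k q v
  · exact key v hv hv1 hA
  rw [IsA, not_or, not_not] at hA
  obtain ⟨u, hu, hu1, huv, -, huA⟩ := exists_generic_perp D.hF hk' D.hq hv hv1 hA.2 ∅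
    (fun p hp => absurd hp (Finset.notMem_empty p))
    (fun p hp => absurd hp (Finset.notMem_empty p)) (bas_mem_tail hk.le le_rfl)
    (by rw [bas_unit D.hF hk.le]; exact one_ne_zero) (fun p hp => absurd hp (Finset.notMem_empty p))
  obtain ⟨x, hx, hxe⟩ := key u hu hu1 (Or.inr huA)
  have hx2 := D.snd_mem hx
  set v' := app x.2⁻¹ v with hv'
  have hv'k : v' ∈ supp (tailT n k) := app_mem_supp D.hF (inv_mem hx2) hv
  have hv'e : herm q v' (bas F n k) = 0 := by
    rw [hv', ← app_herm x.2, app_app_inv, hxe]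
    exact herm_comm_zero D.hF huv
  have hv'W : v' ∈ supp (tailT n (k + 1)) := by
    have h := offPart_mem hk'.le hv'k
    rwa [offPart_eq' D.hF hk'.le, hv'e, zero_smul, sub_zero] at h
  obtain ⟨g, hg, hge⟩ := D.exists_tail_lift hk good hv'W (by rw [hv', app_herm]; exact hv1)
  obtain ⟨s, hs, hse⟩ := D.exists_plane_lift hk' (bas_mem_pair hk.le (Or.inr rfl))
    (bas_unit D.hF hk.le)
  refine ⟨x * g * s, mul_mem (mul_mem hx (D.Lk_antitone k.le_succ hg))
    (D.GU_le_Lk le_rfl hk' hs), ?_⟩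
  rw [Prod.snd_mul, Prod.snd_mul, app_mul, app_mul, hse, hge, hv', app_app_inv]

theorem surj_of_good (hk : k + 1 < n) (good : D.Good (k + 1)) :
    ∀ g ∈ (fixT (tailT n k) : Subgroup (Sug (n + 1) F q)), ∃ x ∈ D.Lk k, x.2 = g := by
  intro g hg
  have hk' : k < n := by omega
  obtain ⟨x, hx, hxe⟩ := D.exists_lift_unit hk good (app_mem_supp D.hF hg (bas_mem_tail hk'.le le_rfl))
    (by rw [app_herm]; exact bas_unit D.hF hk'.le)
  have h : x.2⁻¹ * g ∈ fixT (tailT n (k + 1)) := by
    intro l hl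
    rw [mem_tailT, not_le] at hl
    by_cases hlk : (l : ℕ) = k
    · have : dd l = bas F n k := by rw [bas_eq hk'.le]; congr 1; exact Fin.ext hlk
      rw [app_mul, this, ← hxe, app_inv_app]
    · exact mem_fixT.mp (mul_mem (inv_mem (D.snd_mem hx)) hg) l (by rw [mem_tailT]; omega)
  obtain ⟨y, hy, hye⟩ := good.surj _ h
  exact ⟨x * y, mul_mem hx (D.Lk_antitone k.le_succ hy), by rw [Prod.snd_mul, hye]; group⟩

theorem good_pair : D.Good (n - 2) := by
  have h2 := D.two_le
  have h1 : n - 2 + 1 = n - 1 := by omega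
  refine ⟨(D.adj (n - 2) (by omega)).mono ?_,
    D.surj_of_good (by omega) (h1 ▸ D.good_last)⟩
  refine (Subgroup.closure_le _).mpr fun x ⟨i, h, hi, hx⟩ => ?_
  by_cases he : i = n - 2
  · subst he; exact Subgroup.mem_sup_left hx
  · obtain rfl : i = n - 2 + 1 := by omega
    exact Subgroup.mem_sup_right hx

end PData

end

end Cfsg.Agent.PhanSU
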