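import Cfsg.Agent.PhanSU.Blocks
import Cfsg.Agent.AutPSL.Main
import Cfsg.Agent.Classical.UTrans
import Cfsg.Agent.Classical.UTwo

/-!
Automorphisms of the two-dimensional special unitary group normalising the diagonal torus.
-/

set_option autoImplicit false
set_option linter.style.haveILetI false

open scoped Classical

namespace Cfsg.Agent.PhanSU

open Cfsg.Agent.Classical.U Matrix

universe u

noncomputable section

variable {F : Type u} [Field F] {q : ℕ}

section

variable (hF : SqField F q)
include hF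

/-- The `q`-power map as a ring homomorphism. -/
theorem exists_frob : ∃ σ : F →+* F, ∀ x, σ x = x ^ q := by
  obtain ⟨p, k, hp, hcp, hpk⟩ := hF.exists_char
  have : Fact p.Prime := ⟨hp⟩
  exact ⟨iterateFrobenius F p k, fun x => by simp [iterateFrobenius_def, hpk]⟩

omit hF in
theorem sm_herm {m : ℕ} (x : Cfsg.SU m F q) (u v : Fin m → F) :
    herm q ((sm x).mulVec u) ((sm x).mulVec v) = herm q u v := x.2 u v

/-- The shape of the elements of the two-dimensional group. -/
theorem su2_form (x : Cfsg.SU 2 F q) :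
    sm x 1 1 = sm x 0 0 ^ q ∧ sm x 1 0 = -(sm x 0 1 ^ q) ∧
      sm x 0 0 * sm x 0 0 ^ q + sm x 0 1 * sm x 0 1 ^ q = 1 := by
  have hd : sm x 0 0 * sm x 1 1 - sm x 0 1 * sm x 1 0 = 1 :=
    (Matrix.det_fin_two _).symm.trans x.1.2
  have h00 : sm x 0 0 * sm x 0 0 ^ q + sm x 1 0 * sm x 1 0 ^ q = 1 := by
    simpa [Matrix.mulVec, dotProduct, Fin.sum_univ_two, herm_def, hF.q_ne_zero] using
      sm_herm x ![1, 0] ![1, 0]
  have h01 : sm x 0 1 * sm x 0 0 ^ q + sm x 1 1 * sm x 1 0 ^ q = 0 := by
    simpa [Matrix.mulVec, dotProduct, Fin.sum_univ_two, herm_def, hF.q_ne_zero] using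
      sm_herm x ![0, 1] ![1, 0]
  have e1 : sm x 1 1 = sm x 0 0 ^ q := by
    linear_combination (sm x 0 0 ^ q) * hd - (sm x 1 1) * h00 + (sm x 1 0) * h01
  have e2 : sm x 1 0 ^ q = -sm x 0 1 := by
    linear_combination (sm x 0 0) * h01 - (sm x 1 0 ^ q) * hd - (sm x 0 1) * h00
  have e3 : sm x 1 0 = -(sm x 0 1 ^ q) := by rw [← hF.pow_pow (sm x 1 0), e2, hF.neg_pow]
  refine ⟨e1, e3, ?_⟩
  linear_combination hd - (sm x 0 0) * e1 + (sm x 0 1) * e3

theorem su2_ext {x y : Cfsg.SU 2 F q} (h0 : sm x 0 0 = sm y 0 0) (h1 : sm x 0 1 = sm y 0 1) :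
    x = y := by
  obtain ⟨a1, a2, -⟩ := su2_form hF x
  obtain ⟨b1, b2, -⟩ := su2_form hF y
  apply sm_ext
  ext i j
  fin_cases i <;> fin_cases j
  · exact h0
  · exact h1
  · exact a2.trans (h1 ▸ b2.symm)
  · exact a1.trans (h0 ▸ b1.symm)

/-- The element with a given first row. -/
theorem exists_su2 {a b : F} (h : a * a ^ q + b * b ^ q = 1) :
    ∃ x : Cfsg.SU 2 F q, sm x = !![a, b; -(b ^ q), a ^ q] := by
  refine ⟨⟨⟨!![a, b; -(b ^ q), a ^ q], by rw [Matrix.det_fin_two_of]; linear_combination h⟩,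
    fun u v => ?_⟩, rfl⟩
  show herm q ((!![a, b; -(b ^ q), a ^ q]).mulVec u) ((!![a, b; -(b ^ q), a ^ q]).mulVec v)
    = herm q u v
  simp only [herm_def, Matrix.mulVec, dotProduct, Fin.sum_univ_two, Matrix.of_apply,
    Matrix.cons_val_zero, Matrix.cons_val_one, hF.add_pow, mul_pow, hF.neg_pow, hF.pow_pow]
  linear_combination (u 0 * v 0 ^ q + u 1 * v 1 ^ q) * h

theorem exists_tor {t : F} (ht : t ^ (q + 1) = 1) :
    ∃ d : Cfsg.SU 2 F q, sm d 0 0 = t ∧ sm d 0 1 = 0 := by
  obtain ⟨d, hd⟩ := exists_su2 hF (a := t) (b := 0)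
    (by rw [zero_mul, add_zero, ← pow_succ']; exact ht)
  exact ⟨d, by rw [hd]; rfl, by rw [hd]; rfl⟩

/-- A norm one element whose square is not one. -/
theorem exists_norm_one_sq_ne (hq : 2 ≤ q) : ∃ t : F, t ^ (q + 1) = 1 ∧ t * t ≠ 1 := by
  by_contra hcon
  push Not at hcon
  obtain ⟨hfin, -⟩ := id hF
  have h1 : Nat.card {x : F // x ^ (q + 1) = 1} ≤ Nat.card ({1, -1} : Finset F) := by
    refine Nat.card_le_card_of_injective (fun x => ⟨x.1, ?_⟩) fun a b e =>
      Subtype.ext (congrArg Subtype.val e :)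
    have h := hcon x.1 x.2
    rcases mul_self_eq_one_iff.mp h with h | h <;> simp [h]
  rw [hF.card_norm_one, Nat.card_eq_fintype_card, Fintype.card_coe] at h1
  have := Finset.card_le_two (a := (1 : F)) (b := -1)
  omega

theorem exists_fixed_subfield :
    ∃ K : Subfield F, Nat.card K = q ∧ ∀ x, x ∈ K ↔ x ^ q = x := by
  obtain ⟨σ, hσ⟩ := exists_frob hF
  refine ⟨RingHom.eqLocusField σ (RingHom.id F), ?_, fun x => ?_⟩
  · obtain ⟨hfin, -⟩ := id hF
    have e : {x : F // x ∈ RingHom.eqLocusField σ (RingHom.id F)} ≃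
        Option {c : F // c ^ (q - 1) = 1} :=
      { toFun := fun x => if h : x.1 = 0 then none else some ⟨x.1, (hF.fixed_iff h).1 (by
          rw [← hσ]; exact x.2)⟩
        invFun := fun o => o.elim ⟨0, zero_mem _⟩ fun c => ⟨c.1, by
          have hne : c.1 ≠ 0 := by
            intro e
            have := c.2
            rw [e, zero_pow (by have := hF.one_lt; omega)] at this
            exact zero_ne_one this
          show σ c.1 = c.1
          rw [hσ]; exact (hF.fixed_iff hne).2 c.2⟩
        left_inv := fun x => by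
          by_cases h : x.1 = 0
          · simp only [h, dite_true, Option.elim_none]; exact Subtype.ext h.symm
          · simp only [h, dite_false, Option.elim_some]
        right_inv := fun o => by
          rcases o with _ | c
          · simp
          · have hne : c.1 ≠ 0 := by
              intro e
              have := c.2
              rw [e, zero_pow (by have := hF.one_lt; omega)] at this
              exact zero_ne_one this
            simp [hne] }
    rw [Nat.card_congr e, Finite.card_option, hF.card_fixed_units]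
    have := hF.one_lt
    omega
  · show σ x = x ↔ _
    rw [hσ]

/-- The two-dimensional group as a conjugate of the special linear group of the fixed field. -/
theorem exists_su2_sl2 {K : Subfield F} (hK : ∀ x, x ∈ K ↔ x ^ q = x) :
    ∃ (P : Matrix (Fin 2) (Fin 2) F) (e : Matrix.SpecialLinearGroup (Fin 2) K ≃* Cfsg.SU 2 F q),
      IsUnit P.det ∧ ∀ m, sm (e m) * P = P * m.1.map K.subtype := by
  obtain ⟨σ, hσ⟩ := exists_frob hF
  obtain ⟨θ, c, hp0, hθ⟩ := exists_std_pair hF 0
  obtain ⟨d, hd, hdq⟩ := hF.exists_skew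
  set e : Fin 2 → F := Pi.single 0 1 + θ • Pi.single 1 1
  set f : Fin 2 → F := (-d) • (Pi.single 0 1 + c • e)
  have hef : herm q e f = d := by
    rw [show f = (-d) • (Pi.single 0 1 + c • e) from rfl, herm_smul_right, hp0.2.2, mul_one,
      hF.neg_pow, hdq, neg_neg]
  have hfe : herm q f e = -d := by rw [← hF.herm_symm, hef, hdq]
  have hff : herm q f f = 0 := by
    rw [show f = (-d) • (Pi.single 0 1 + c • e) from rfl, herm_smul_left, herm_smul_right, hp0.2.1]
    ring
  let P : Matrix (Fin 2) (Fin 2) F := Matrix.of fun i j => (![e, f] j) i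
  let J : Matrix (Fin 2) (Fin 2) F := !![0, 1; -1, 0]
  have hP : Pᵀ * P.map σ = d • J := by
    have entry : ∀ i j, (Pᵀ * P.map σ) i j = herm q (![e, f] i) (![e, f] j) := fun i j => by
      simp [P, Matrix.mul_apply, herm_def, hσ]
    ext i j
    rw [entry]
    fin_cases i <;> fin_cases j <;> simp [J, hef, hfe, hff, hp0.1]
  have hPdet : P.det ≠ 0 := by
    intro h0
    have h := congrArg Matrix.det hP
    rw [Matrix.det_mul, Matrix.det_transpose, h0, zero_mul, Matrix.det_smul] at h
    simp [J, Matrix.det_fin_two] at h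
    exact hd (eq_zero_of_pow_eq_zero h.symm)
  have hu : IsUnit P.det := Ne.isUnit hPdet
  have mem : ∀ g : Matrix.SpecialLinearGroup (Fin 2) F,
      g ∈ Cfsg.SU 2 F q ↔ g.1ᵀ * g.1.map σ = 1 := by
    intro g
    constructor
    · intro hg
      ext i j
      have h1 : herm q ((g.1).mulVec (Pi.single i 1)) ((g.1).mulVec (Pi.single j 1)) =
          herm q (Pi.single i (1 : F)) (Pi.single j 1) := hg _ _
      rw [herm_single_one _ hF.q_ne_zero] at h1
      simpa [Matrix.mul_apply, herm_def, hσ, Matrix.one_apply, Pi.single_apply, eq_comm] using h1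
    · intro h u v
      change herm q (g.1.mulVec u) (g.1.mulVec v) = herm q u v
      have e1 : ∀ a b : Fin 2 → F, herm q a b = a ⬝ᵥ (σ ∘ b) := fun a b => by
        simp [herm_def, dotProduct, hσ]
      have e2 : σ ∘ g.1.mulVec v = (g.1.map σ).mulVec (σ ∘ v) := by
        funext i; exact RingHom.map_mulVec σ g.1 v i
      rw [e1, e1, e2, ← Matrix.vecMul_transpose, ← Matrix.dotProduct_mulVec, Matrix.mulVec_mulVec,
        h, Matrix.one_mulVec]
  have hJ : ∀ M : Matrix (Fin 2) (Fin 2) F, Mᵀ * J * M = M.det • J := fun M => by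
    ext i j
    fin_cases i <;> fin_cases j <;> simp [J, Matrix.mul_apply, Matrix.det_fin_two] <;> ring
  let ι := K.subtype
  let φ : Matrix.SpecialLinearGroup (Fin 2) K →* Matrix.SpecialLinearGroup (Fin 2) F :=
    { toFun := fun m => ⟨P * m.1.map ι * P⁻¹, by
        rw [Matrix.det_conj ((Matrix.isUnit_iff_isUnit_det _).2 hu), ← RingHom.mapMatrix_apply,
          ← RingHom.map_det, m.2, map_one]⟩
      map_one' := Subtype.ext (by
        simp [Matrix.map_one, Matrix.mul_nonsing_inv _ hu])
      map_mul' := fun a b => Subtype.ext (by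
        change P * (a.1 * b.1).map ι * P⁻¹ = (P * a.1.map ι * P⁻¹) * (P * b.1.map ι * P⁻¹)
        rw [Matrix.map_mul, Matrix.mul_assoc (P * a.1.map ι), ← Matrix.mul_assoc P⁻¹,
          ← Matrix.mul_assoc P⁻¹, Matrix.nonsing_inv_mul _ hu, Matrix.one_mul]
        simp [Matrix.mul_assoc]) }
  have hback : ∀ m, (φ m).1 * P = P * m.1.map ι := fun m => by
    show P * m.1.map ι * P⁻¹ * P = _
    rw [Matrix.mul_assoc, Matrix.nonsing_inv_mul _ hu, Matrix.mul_one]
  have hφ : Function.Injective φ := by
    intro a b h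
    have h' := hback a
    rw [h, hback b] at h'
    have h2 := congrArg (fun M => P⁻¹ * M) h'
    simp only [← Matrix.mul_assoc, Matrix.nonsing_inv_mul _ hu, Matrix.one_mul] at h2
    exact Subtype.ext (Matrix.map_injective ι.injective h2.symm)
  have hrange : φ.range = Cfsg.SU 2 F q := by
    ext g
    rw [mem]
    set M := P⁻¹ * g.1 * P with hM
    have hgM : g.1 = P * M * P⁻¹ := by
      rw [hM]
      simp only [Matrix.mul_assoc, Matrix.mul_nonsing_inv _ hu, Matrix.mul_one]
      rw [← Matrix.mul_assoc, Matrix.mul_nonsing_inv _ hu, Matrix.one_mul]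
    have hPM : P * M = g.1 * P := by
      rw [hgM, Matrix.mul_assoc, Matrix.nonsing_inv_mul _ hu, Matrix.mul_one]
    have hMdet : M.det = 1 := by
      rw [hM, Matrix.det_mul, Matrix.det_mul, Matrix.det_nonsing_inv, g.2, mul_one,
        Ring.inverse_mul_cancel _ hu]
    have hu1 : IsUnit Pᵀ.det := by rwa [Matrix.det_transpose]
    have hu2 : IsUnit (P.map σ).det := by
      rw [← RingHom.mapMatrix_apply, ← RingHom.map_det]; exact hu.map σ
    have key : g.1ᵀ * g.1.map σ = 1 ↔ M.map σ = M := by
      have e1 : g.1ᵀ * g.1.map σ = 1 ↔ (P * M)ᵀ * (P * M).map σ = Pᵀ * P.map σ := by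
        rw [hPM, Matrix.transpose_mul, Matrix.map_mul, Matrix.mul_assoc,
          ← Matrix.mul_assoc g.1ᵀ]
        constructor
        · intro h; rw [h, Matrix.one_mul]
        · intro h
          have h2 := congrArg (fun X => Pᵀ⁻¹ * X * (P.map σ)⁻¹) h
          simp only [Matrix.mul_assoc, Matrix.mul_nonsing_inv _ hu2, Matrix.mul_one,
            Matrix.nonsing_inv_mul _ hu1] at h2
          rw [← Matrix.mul_assoc Pᵀ⁻¹, Matrix.nonsing_inv_mul _ hu1, Matrix.one_mul] at h2
          exact h2
      rw [e1, Matrix.transpose_mul, Matrix.map_mul, Matrix.mul_assoc, ← Matrix.mul_assoc Pᵀ, hP,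
        Matrix.smul_mul, Matrix.mul_smul, (smul_right_injective _ hd).eq_iff, ← Matrix.mul_assoc]
      have hMJ := hJ M
      rw [hMdet, one_smul] at hMJ
      constructor
      · intro h
        have h3 : Mᵀ * J * M.map σ = Mᵀ * J * M := h.trans hMJ.symm
        have hu3 : IsUnit (Mᵀ * J).det := by
          rw [Matrix.det_mul, Matrix.det_transpose, hMdet, one_mul]
          simp [J, Matrix.det_fin_two]
        have h4 := congrArg (fun X => (Mᵀ * J)⁻¹ * X) h3
        simp only [← Matrix.mul_assoc, Matrix.nonsing_inv_mul _ hu3, Matrix.one_mul] at h4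
        exact h4
      · intro h
        rw [h, hMJ]
    rw [key]
    constructor
    · rintro ⟨m, rfl⟩
      have : M = m.1.map ι := by
        rw [hM, Matrix.mul_assoc, hback, ← Matrix.mul_assoc, Matrix.nonsing_inv_mul _ hu,
          Matrix.one_mul]
      rw [this]
      ext i j
      simp only [Matrix.map_apply, hσ]
      exact (hK _).1 (m.1 i j).2
    · intro h
      have hent : ∀ i j, M i j ∈ K := fun i j => (hK _).2 (by
        have := congrFun (congrFun h i) j
        rwa [Matrix.map_apply, hσ] at this)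
      have hmM : (Matrix.of fun i j => (⟨M i j, hent i j⟩ : K)).map ι = M := by ext i j; rfl
      refine ⟨⟨Matrix.of fun i j => (⟨M i j, hent i j⟩ : K), ι.injective ?_⟩, Subtype.ext ?_⟩
      · rw [RingHom.map_det, RingHom.mapMatrix_apply, hmM, hMdet, map_one]
      · change P * _ * P⁻¹ = g.1
        rw [hmM, hgM]
  exact ⟨P, (MonoidHom.ofInjective hφ).trans (MulEquiv.subgroupCongr hrange), hu, hback⟩

omit hF in
/-- An automorphism of the subfield extends to the field. -/
theorem exists_extend [Finite F] (K : Subfield F) (τ : K ≃+* K) :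
    ∃ σ : F ≃+* F, ∀ x : K, σ x = τ x := by
  obtain ⟨p, hp⟩ := CharP.exists F
  haveI : Fact p.Prime := ⟨CharP.char_is_prime F p⟩
  haveI : CharP K p := K.subtype.charP K.subtype.injective p
  letI : Algebra (ZMod p) F := ZMod.algebra F p
  letI : Algebra (ZMod p) K := ZMod.algebra K p
  haveI : @IsScalarTower (ZMod p) K F Algebra.toSMul Algebra.toSMul Algebra.toSMul :=
    IsScalarTower.of_algebraMap_eq' (Subsingleton.elim _ _)
  let τ' : K ≃ₐ[ZMod p] K := AlgEquiv.ofRingEquiv (f := τ) fun x =>
    RingHom.congr_fun (Subsingleton.elim (τ.toRingHom.comp (algebraMap (ZMod p) K))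
      (algebraMap (ZMod p) K)) x
  exact ⟨(τ'.liftNormal F).toRingEquiv, fun x => τ'.liftNormal_commutes F x⟩

/-- An automorphism is conjugation composed with a field automorphism. -/
theorem exists_conj_two (α : MulAut (Cfsg.SU 2 F q)) :
    ∃ (M : Matrix (Fin 2) (Fin 2) F) (σ : F ≃+* F), M.det ≠ 0 ∧
      ∀ x, sm (α x) * M = M * (sm x).map σ := by
  obtain ⟨hfin, -⟩ := id hF
  obtain ⟨K, hcard, hK⟩ := exists_fixed_subfield hF
  obtain ⟨P, e, hu, he⟩ := exists_su2_sl2 hF hK
  let α' : MulAut (Matrix.SpecialLinearGroup (Fin 2) K) := e.trans (α.trans e.symm)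
  obtain ⟨g, τ, hg⟩ := AutPSL.exists_decomp_two (AutPSL.pslAut α')
  let γ : MulAut (Matrix.SpecialLinearGroup (Fin 2) K) := AutPSL.slConj g * AutPSL.slField τ
  have hcen : ∀ m, γ m⁻¹ * α' m ∈ Subgroup.center (Matrix.SpecialLinearGroup (Fin 2) K) :=
    fun m => by
      have h := congrArg (fun β : MulAut _ => β (QuotientGroup.mk m)) hg
      rw [map_inv]
      exact QuotientGroup.eq.mp (h.symm : (QuotientGroup.mk (γ m) :
        Matrix.ProjectiveSpecialLinearGroup (Fin 2) K) = QuotientGroup.mk (α' m))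
  let z : Matrix.SpecialLinearGroup (Fin 2) K →*
      Subgroup.center (Matrix.SpecialLinearGroup (Fin 2) K) :=
    MonoidHom.mk' (fun m => ⟨γ m⁻¹ * α' m, hcen m⟩) fun a b => by
      apply Subtype.ext
      show γ (a * b)⁻¹ * α' (a * b) = (γ a⁻¹ * α' a) * (γ b⁻¹ * α' b)
      rw [_root_.mul_inv_rev, map_mul, map_mul, mul_assoc, ← mul_assoc (γ a⁻¹),
        ← mul_assoc, Subgroup.mem_center_iff.mp (hcen a) (γ b⁻¹), mul_assoc]
  have hz : ∀ m, α' m = γ m := by
    have h1 : ∀ m, z m = 1 := by
      haveI : Nontrivial (Fin 2) := inferInstance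
      intro m
      induction m using Cfsg.Agent.Linear.transvection_induction with
      | hmul a b ha hb => rw [map_mul, ha, hb, one_mul]
      | htransvec i j hij c =>
        obtain ⟨p, hp⟩ := CharP.exists K
        haveI : Fact p.Prime := ⟨CharP.char_is_prime K p⟩
        have hpow : ∀ (k : ℕ) (c : K), SpecialLinearGroup.transvection hij c ^ k
            = SpecialLinearGroup.transvection hij (k * c) := by
          intro k c
          induction k with
          | zero => simp [SpecialLinearGroup.transvection_coeff_zero]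
          | succ k ih =>
            rw [pow_succ, ih, ← SpecialLinearGroup.transvection_add]
            push_cast; ring_nf
        set y := z (SpecialLinearGroup.transvection hij c)
        have hyp : y ^ p = 1 := by
          rw [← map_pow, hpow, CharP.cast_eq_zero, zero_mul,
            SpecialLinearGroup.transvection_coeff_zero, map_one]
        obtain ⟨r, hr, hre⟩ := Matrix.SpecialLinearGroup.mem_center_iff.mp y.2
        rw [Fintype.card_fin] at hr
        have hr1 : r = 1 := by
          rcases (CharP.char_is_prime K p).eq_two_or_odd' with rfl | hodd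
          · have h : (r - 1) ^ 2 = 0 := by
              have h2 : (2 : K) = 0 := CharP.cast_eq_zero K 2
              linear_combination hr + (1 - r) * h2
            exact sub_eq_zero.mp (pow_eq_zero_iff (by norm_num) |>.mp h)
          · have hrp : r ^ p = 1 := by
              have := congrArg (fun w : Subgroup.center (Matrix.SpecialLinearGroup (Fin 2) K) =>
                (w.1.1) 0 0) hyp
              simp only [SubmonoidClass.coe_pow, Matrix.SpecialLinearGroup.coe_pow, ← hre,
                scalar_apply, OneMemClass.coe_one, Matrix.SpecialLinearGroup.coe_one,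
                Matrix.one_apply_eq, Matrix.diagonal_pow, Pi.pow_apply, Matrix.diagonal_apply_eq] at this
              exact this
            obtain ⟨k, rfl⟩ := hodd
            rwa [pow_succ, pow_mul, hr, one_pow, one_mul] at hrp
        apply Subtype.ext
        apply Subtype.ext
        rw [← hre, hr1, map_one]
        rfl
    intro m
    have h2 : γ m⁻¹ * α' m = 1 := congrArg Subtype.val (h1 m)
    rw [map_inv] at h2
    exact (inv_mul_eq_one.mp h2).symm
  obtain ⟨σ, hσ⟩ := exists_extend K τ
  let ι := K.subtype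
  let Pσ := P.map σ
  have huσ : IsUnit Pσ.det := by
    rw [show Pσ = P.map σ.toRingHom from rfl, ← RingHom.mapMatrix_apply, ← RingHom.map_det]
    exact hu.map _
  refine ⟨P * (g : Matrix (Fin 2) (Fin 2) K).map ι * Pσ⁻¹, σ, ?_, fun x => ?_⟩
  · rw [Matrix.det_mul, Matrix.det_mul, ← RingHom.mapMatrix_apply, ← RingHom.map_det]
    exact mul_ne_zero (mul_ne_zero hu.ne_zero ((map_ne_zero ι).mpr
      ((Matrix.isUnit_iff_isUnit_det _).mp g.isUnit).ne_zero))
      (Matrix.isUnit_nonsing_inv_det _ huσ).ne_zero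
  · obtain ⟨m, rfl⟩ := e.surjective x
    have hx : sm (α (e m)) * P = P * (γ m).1.map ι := by
      rw [← hz, ← he]
      simp [α']
    have hγ : (γ m).1.map ι * (g : Matrix (Fin 2) (Fin 2) K).map ι
        = (g : Matrix (Fin 2) (Fin 2) K).map ι * (m.1.map ι).map σ := by
      rw [show (γ m).1 = (g : Matrix (Fin 2) (Fin 2) K) * m.1.map τ *
          ((g⁻¹ : GL (Fin 2) K) : Matrix (Fin 2) (Fin 2) K) from rfl, ← Matrix.map_mul,
        Matrix.mul_assoc, ← Units.val_mul, inv_mul_cancel, Units.val_one, Matrix.mul_one,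
        Matrix.map_mul]
      congr 1
      ext i j
      exact (hσ (m.1 i j)).symm
    have hσx : (sm (e m)).map σ = Pσ * (m.1.map ι).map σ * Pσ⁻¹ := by
      have h := congrArg (fun X : Matrix (Fin 2) (Fin 2) F => X.map σ.toRingHom) (he m)
      simp only [Matrix.map_mul] at h
      change (sm (e m)).map σ * Pσ = Pσ * (m.1.map ι).map σ at h
      rw [← h, Matrix.mul_assoc, Matrix.mul_nonsing_inv _ huσ, Matrix.mul_one]
    rw [hσx, ← Matrix.mul_assoc, ← Matrix.mul_assoc, hx, ← Matrix.mul_assoc, ← Matrix.mul_assoc]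
    rw [Matrix.mul_assoc P (Matrix.map (γ m).1 ι), hγ]
    simp only [Matrix.mul_assoc]
    rw [← Matrix.mul_assoc Pσ⁻¹ Pσ, Matrix.nonsing_inv_mul _ huσ, Matrix.one_mul]

/-- An automorphism mapping the diagonal torus into itself is a field automorphism followed by
a scaling of the off-diagonal entry. -/
theorem exists_torus_aut (hq : 2 ≤ q) (α : MulAut (Cfsg.SU 2 F q))
    (hT : ∀ x, sm x 0 1 = 0 → sm (α x) 0 1 = 0) :
    ∃ (κ : F) (σ : F ≃+* F), κ ^ (q + 1) = 1 ∧
      ∀ x, sm (α x) 0 0 = σ (sm x 0 0) ∧ sm (α x) 0 1 = κ * σ (sm x 0 1) := by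
  obtain ⟨M, σ, hdet, hM⟩ := exists_conj_two hF α
  have ent : ∀ x i j, sm (α x) i 0 * M 0 j + sm (α x) i 1 * M 1 j
      = M i 0 * σ (sm x 0 j) + M i 1 * σ (sm x 1 j) := fun x i j => by
    have := congrFun (congrFun (hM x) i) j
    simpa [Matrix.mul_apply, Fin.sum_univ_two] using this
  obtain ⟨t, ht, ht2⟩ := exists_norm_one_sq_ne hF hq
  obtain ⟨d, hd0, hd1⟩ := exists_tor hF ht
  obtain ⟨f1, f2, -⟩ := su2_form hF d
  rw [hd0] at f1
  rw [hd1, zero_pow hF.q_ne_zero, neg_zero] at f2
  set τ := sm (α d) 0 0 with hτ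
  obtain ⟨g1, g2, -⟩ := su2_form hF (α d)
  rw [← hτ] at g1
  rw [hT d hd1, zero_pow hF.q_ne_zero, neg_zero] at g2
  have c00 : M 0 0 * (τ - σ t) = 0 := by
    have := ent d 0 0
    rw [hT d hd1, hd0, f2, map_zero, ← hτ] at this
    linear_combination this
  have c01 : M 0 1 * (τ - σ (t ^ q)) = 0 := by
    have := ent d 0 1
    rw [hT d hd1, hd1, f1, map_zero, ← hτ] at this
    linear_combination this
  have c10 : M 1 0 * (τ ^ q - σ t) = 0 := by
    have := ent d 1 0
    rw [g1, g2, hd0, f2, map_zero] at this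
    linear_combination this
  have c11 : M 1 1 * (τ ^ q - σ (t ^ q)) = 0 := by
    have := ent d 1 1
    rw [g1, g2, hd1, f1, map_zero] at this
    linear_combination this
  have htq : σ t ≠ σ (t ^ q) := fun e => ht2 (by
    have := σ.injective e
    calc t * t = t * t ^ q := by rw [← this]
      _ = 1 := by rw [← pow_succ']; exact ht)
  rw [Matrix.det_fin_two] at hdet
  have fin : ∀ (κ : F) (σ' : F ≃+* F),
      (∀ x, sm (α x) 0 0 = σ' (sm x 0 0) ∧ sm (α x) 0 1 = κ * σ' (sm x 0 1)) →
      ∃ (κ : F) (σ : F ≃+* F), κ ^ (q + 1) = 1 ∧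
        ∀ x, sm (α x) 0 0 = σ (sm x 0 0) ∧ sm (α x) 0 1 = κ * σ (sm x 0 1) := by
    intro κ σ' h
    refine ⟨κ, σ', ?_, h⟩
    obtain ⟨w, hw⟩ := exists_su2 hF (a := (0 : F)) (b := 1) (by simp)
    obtain ⟨h1, h2⟩ := h w
    have h0 := (su2_form hF (α w)).2.2
    rw [h1, h2, show sm w 0 0 = 0 by rw [hw]; rfl, show sm w 0 1 = 1 by rw [hw]; rfl, map_zero,
      map_one, zero_mul, zero_add, mul_one] at h0
    rwa [pow_succ']
  by_cases h : M 0 0 = 0
  · have h01 : M 0 1 ≠ 0 := fun e => hdet (by rw [h, e]; ring)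
    have h10 : M 1 0 ≠ 0 := fun e => hdet (by rw [h, e]; ring)
    have eτ : τ = σ (t ^ q) := sub_eq_zero.mp ((mul_eq_zero.mp c01).resolve_left h01)
    have h11 : M 1 1 = 0 := (mul_eq_zero.mp c11).resolve_right fun e => by
      have e2 := sub_eq_zero.mp ((mul_eq_zero.mp c10).resolve_left h10)
      exact htq (e2.symm.trans (sub_eq_zero.mp e))
    obtain ⟨φ, hφ⟩ := exists_frob hF
    have hbij : Function.Bijective φ := ⟨φ.injective, fun x => ⟨x ^ q, by rw [hφ, hF.pow_pow]⟩⟩
    refine fin (-(M 0 1 / M 1 0)) ((RingEquiv.ofBijective φ hbij).trans σ) fun x => ?_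
    obtain ⟨x1, x2, -⟩ := su2_form hF x
    have a := ent x 0 1
    have b := ent x 0 0
    rw [h, h11, x1] at a
    rw [h, x2, map_neg] at b
    refine ⟨?_, ?_⟩
    · show _ = σ (φ _)
      rw [hφ]
      exact mul_right_cancel₀ h01 (by linear_combination a)
    · show _ = -(M 0 1 / M 1 0) * σ (φ _)
      rw [hφ]
      field_simp
      linear_combination b
  · have eτ : τ = σ t := sub_eq_zero.mp ((mul_eq_zero.mp c00).resolve_left h)
    have h01 : M 0 1 = 0 := (mul_eq_zero.mp c01).resolve_right fun e =>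
      htq (eτ.symm.trans (sub_eq_zero.mp e))
    have h11 : M 1 1 ≠ 0 := fun e => hdet (by rw [h01, e]; ring)
    have h10 : M 1 0 = 0 := (mul_eq_zero.mp c10).resolve_right fun e => by
      have e2 := sub_eq_zero.mp ((mul_eq_zero.mp c11).resolve_left h11)
      exact htq ((sub_eq_zero.mp e).symm.trans e2)
    refine fin (M 0 0 / M 1 1) σ fun x => ?_
    have a := ent x 0 0
    have b := ent x 0 1
    rw [h01, h10] at a
    rw [h01] at b
    refine ⟨mul_right_cancel₀ h (by linear_combination a), ?_⟩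
    field_simp
    linear_combination b

end

end

end Cfsg.Agent.PhanSU
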