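import Cfsg.Agent.PhanSU.Geometry
import Cfsg.Prelude.Def_PhanSystems

/-!
Block embeddings between special unitary matrix groups.
-/

set_option autoImplicit false
set_option linter.style.haveILetI false

open scoped Classical

namespace Cfsg.Agent.PhanSU

open Cfsg.Agent.Classical.U Matrix

universe u

noncomputable section

variable {F : Type u} [Field F] {k m p q : ℕ}

/-- The underlying matrix of an element of the special unitary group. -/
abbrev sm (x : Cfsg.SU m F q) : Matrix (Fin m) (Fin m) F := x.1.1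

theorem sm_ext {x y : Cfsg.SU m F q} (h : sm x = sm y) : x = y := Subtype.ext (Subtype.ext h)

theorem sm_mul (x y : Cfsg.SU m F q) : sm (x * y) = sm x * sm y := rfl

theorem sm_one : sm (1 : Cfsg.SU m F q) = 1 := rfl

theorem app_suEquiv (x : Cfsg.SU m F q) (v : Fin m → F) :
    app (suEquiv m F q x) v = (sm x).mulVec v := rfl

/-- The coordinates of a block and the others. -/
def blockEquiv {f : Fin k → Fin m} (hf : Function.Injective f) :
    Fin k ⊕ {l : Fin m // l ∉ Set.range f} ≃ Fin m :=
  (Equiv.sumCongr (Equiv.ofInjective f hf) (Equiv.refl _)).trans (Equiv.sumCompl _)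

section

variable {f : Fin k → Fin m} (hf : Function.Injective f)

theorem blockEquiv_inl (i : Fin k) : blockEquiv hf (Sum.inl i) = f i := rfl

theorem blockEquiv_inr (l : {l : Fin m // l ∉ Set.range f}) :
    blockEquiv hf (Sum.inr l) = l.1 := rfl

/-- A matrix placed on a block of coordinates. -/
def bmat (A : Matrix (Fin k) (Fin k) F) : Matrix (Fin m) (Fin m) F :=
  Matrix.reindex (blockEquiv hf) (blockEquiv hf) (Matrix.fromBlocks A 0 0 1)

theorem bmat_block (A : Matrix (Fin k) (Fin k) F) (i j : Fin k) :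
    bmat hf A (f i) (f j) = A i j := by
  rw [← blockEquiv_inl hf i, ← blockEquiv_inl hf j]
  simp only [bmat, Matrix.reindex_apply, Matrix.submatrix_apply, Equiv.symm_apply_apply,
    Matrix.fromBlocks_apply₁₁]

theorem bmat_off (A : Matrix (Fin k) (Fin k) F) {l l' : Fin m}
    (h : l ∉ Set.range f ∨ l' ∉ Set.range f) :
    bmat hf A l l' = (1 : Matrix (Fin m) (Fin m) F) l l' := by
  obtain ⟨a, rfl⟩ := (blockEquiv hf).surjective l
  obtain ⟨b, rfl⟩ := (blockEquiv hf).surjective l'
  simp only [bmat, Matrix.reindex_apply, Matrix.submatrix_apply, Equiv.symm_apply_apply]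
  rcases a with i | a <;> rcases b with j | b
  · rcases h with h | h
    · exact absurd ⟨i, rfl⟩ h
    · exact absurd ⟨j, rfl⟩ h
  all_goals simp [Matrix.one_apply]

theorem bmat_eq {M : Matrix (Fin m) (Fin m) F}
    (h : ∀ l l', l ∉ Set.range f ∨ l' ∉ Set.range f → M l l' = (1 : Matrix (Fin m) (Fin m) F) l l') :
    bmat hf (M.submatrix f f) = M := by
  ext l l'
  by_cases h1 : l ∈ Set.range f ∧ l' ∈ Set.range f
  · obtain ⟨⟨i, rfl⟩, j, rfl⟩ := h1
    rw [bmat_block, Matrix.submatrix_apply]
  · rw [not_and_or] at h1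
    rw [bmat_off hf _ h1, h l l' h1]

theorem bmat_one : bmat hf (1 : Matrix (Fin k) (Fin k) F) = 1 := by
  simp [bmat, Matrix.fromBlocks_one]

theorem bmat_mul (A B : Matrix (Fin k) (Fin k) F) :
    bmat hf (A * B) = bmat hf A * bmat hf B := by
  simp [bmat, Matrix.reindex_apply, Matrix.submatrix_mul_equiv, Matrix.fromBlocks_multiply]

theorem det_bmat (A : Matrix (Fin k) (Fin k) F) : (bmat hf A).det = A.det := by
  rw [bmat, Matrix.det_reindex_self, Matrix.det_fromBlocks_zero₂₁, Matrix.det_one, mul_one]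

theorem bmat_mulVec_block (A : Matrix (Fin k) (Fin k) F) (v : Fin m → F) (i : Fin k) :
    (bmat hf A).mulVec v (f i) = A.mulVec (v ∘ f) i := by
  simp only [Matrix.mulVec, dotProduct]
  rw [← (blockEquiv hf).sum_comp, Fintype.sum_sum_type,
    Finset.sum_eq_zero (s := (Finset.univ : Finset {l : Fin m // l ∉ Set.range f}))
      (fun l _ => ?_), add_zero]
  · exact Finset.sum_congr rfl fun j _ => by simp [blockEquiv_inl, bmat_block]
  · rw [blockEquiv_inr, bmat_off hf A (Or.inr l.2), Matrix.one_apply_ne (fun e => l.2 ⟨i, e⟩),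
      zero_mul]

theorem bmat_mulVec_off (A : Matrix (Fin k) (Fin k) F) (v : Fin m → F) {l : Fin m}
    (hl : l ∉ Set.range f) : (bmat hf A).mulVec v l = v l := by
  simp only [Matrix.mulVec, dotProduct]
  rw [Finset.sum_congr rfl (fun j _ => by rw [bmat_off hf A (Or.inl hl)])]
  simp [Matrix.one_apply]

include hf in
theorem herm_split (u v : Fin m → F) :
    herm q u v = herm q (u ∘ f) (v ∘ f)
      + ∑ l : {l : Fin m // l ∉ Set.range f}, u l.1 * v l.1 ^ q := by
  rw [herm_def, herm_def, ← (blockEquiv hf).sum_comp, Fintype.sum_sum_type]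
  rfl

theorem bmat_preserves (A : Cfsg.SU k F q) (u v : Fin m → F) :
    herm q ((bmat hf (sm A)).mulVec u) ((bmat hf (sm A)).mulVec v) = herm q u v := by
  rw [herm_split hf, herm_split hf u v]
  congr 1
  · rw [show (bmat hf (sm A)).mulVec u ∘ f = (sm A).mulVec (u ∘ f) from
        funext fun i => bmat_mulVec_block hf _ u i,
      show (bmat hf (sm A)).mulVec v ∘ f = (sm A).mulVec (v ∘ f) from
        funext fun i => bmat_mulVec_block hf _ v i]
    exact A.2 (u ∘ f) (v ∘ f)
  · exact Finset.sum_congr rfl fun l _ => by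
      rw [bmat_mulVec_off hf _ _ l.2, bmat_mulVec_off hf _ _ l.2]

/-- The block embedding of special unitary groups. -/
def emb : Cfsg.SU k F q →* Cfsg.SU m F q where
  toFun A := ⟨⟨bmat hf (sm A), by rw [det_bmat]; exact A.1.2⟩, fun u v => bmat_preserves hf A u v⟩
  map_one' := sm_ext (bmat_one hf)
  map_mul' A B := sm_ext (bmat_mul hf (sm A) (sm B))

theorem sm_emb (A : Cfsg.SU k F q) : sm (emb hf A) = bmat hf (sm A) := rfl

theorem emb_injective : Function.Injective (emb (F := F) (q := q) hf) := fun A B h => by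
  apply sm_ext
  ext i j
  rw [← bmat_block hf (sm A) i j, ← bmat_block hf (sm B) i j, ← sm_emb, ← sm_emb, h]

theorem emb_comp {g : Fin p → Fin k} (hg : Function.Injective g) (A : Cfsg.SU p F q) :
    emb hf (emb hg A) = emb (hf.comp hg) A := by
  apply sm_ext
  rw [sm_emb, sm_emb, sm_emb]
  ext l l'
  by_cases h1 : l ∈ Set.range f ∧ l' ∈ Set.range f
  · obtain ⟨⟨i, rfl⟩, j, rfl⟩ := h1
    rw [bmat_block]
    by_cases h2 : i ∈ Set.range g ∧ j ∈ Set.range g
    · obtain ⟨⟨a, rfl⟩, b, rfl⟩ := h2
      rw [bmat_block, show f (g a) = (f ∘ g) a from rfl, show f (g b) = (f ∘ g) b from rfl,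
        bmat_block]
    · rw [not_and_or] at h2
      rw [bmat_off hg _ h2, bmat_off (hf.comp hg) _ (h2.imp
        (fun h ⟨a, ha⟩ => h ⟨a, hf ha⟩) (fun h ⟨a, ha⟩ => h ⟨a, hf ha⟩))]
      simp [Matrix.one_apply, hf.eq_iff]
  · rw [not_and_or] at h1
    rw [bmat_off hf _ h1, bmat_off (hf.comp hg) _ (h1.imp
      (fun h ⟨a, ha⟩ => h ⟨g a, ha⟩) (fun h ⟨a, ha⟩ => h ⟨g a, ha⟩))]

theorem emb_congr {g : Fin k → Fin m} (hg : Function.Injective g) (h : f = g)
    (A : Cfsg.SU k F q) : emb hf A = emb hg A := by subst h; rfl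

theorem mem_range_emb {x : Cfsg.SU m F q}
    (h : ∀ l l', l ∉ Set.range f ∨ l' ∉ Set.range f →
      sm x l l' = (1 : Matrix (Fin m) (Fin m) F) l l') :
    x ∈ (emb (F := F) (q := q) hf).range := by
  have hM := bmat_eq hf h
  have hdet : ((sm x).submatrix f f).det = 1 := by
    rw [← det_bmat hf, hM]; exact x.1.2
  refine ⟨⟨⟨(sm x).submatrix f f, hdet⟩, fun u v => ?_⟩, sm_ext hM⟩
  show herm q (((sm x).submatrix f f).mulVec u) (((sm x).submatrix f f).mulVec v) = herm q u v
  set u' := Function.extend f u 0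
  set v' := Function.extend f v 0
  have key : herm q ((sm x).mulVec u') ((sm x).mulVec v') = herm q u' v' := x.2 u' v'
  rw [← hM, herm_split hf, herm_split hf u' v'] at key
  have e1 : ∀ w : Fin k → F, Function.extend f w 0 ∘ f = w := fun w => funext fun i => by
    simp [hf.extend_apply]
  rw [show (bmat hf ((sm x).submatrix f f)).mulVec u' ∘ f = ((sm x).submatrix f f).mulVec u from
      funext fun i => by rw [Function.comp_apply, bmat_mulVec_block, e1],
    show (bmat hf ((sm x).submatrix f f)).mulVec v' ∘ f = ((sm x).submatrix f f).mulVec v from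
      funext fun i => by rw [Function.comp_apply, bmat_mulVec_block, e1],
    e1 u, e1 v,
    Finset.sum_congr rfl (fun l _ => by rw [bmat_mulVec_off hf _ _ l.2, bmat_mulVec_off hf _ _ l.2])]
    at key
  exact add_right_cancel key

theorem emb_off (A : Cfsg.SU k F q) {l l' : Fin m} (h : l ∉ Set.range f ∨ l' ∉ Set.range f) :
    sm (emb hf A) l l' = (1 : Matrix (Fin m) (Fin m) F) l l' := bmat_off hf _ h

theorem suBlock_eq_range : Cfsg.suBlock m F q (Set.range f) = (emb (F := F) (q := q) hf).range := by
  refine le_antisymm ((Subgroup.closure_le _).mpr fun x hx => mem_range_emb hf fun l l' h => ?_) ?_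
  · rcases h with h | h
    · obtain ⟨h1, h2⟩ := hx l h
      by_cases e : l' = l
      · subst e; rw [Matrix.one_apply_eq]; exact h1
      · rw [Matrix.one_apply_ne (Ne.symm e)]; exact (h2 l' e).1
    · obtain ⟨h1, h2⟩ := hx l' h
      by_cases e : l = l'
      · subst e; rw [Matrix.one_apply_eq]; exact h1
      · rw [Matrix.one_apply_ne e]; exact (h2 l e).2
  · rintro _ ⟨A, rfl⟩
    refine Subgroup.subset_closure fun l hl => ⟨?_, fun l' hne => ⟨?_, ?_⟩⟩
    · exact (emb_off hf A (Or.inl hl)).trans (Matrix.one_apply_eq l)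
    · exact (emb_off hf A (Or.inl hl)).trans (Matrix.one_apply_ne (Ne.symm hne))
    · exact (emb_off hf A (Or.inr hl)).trans (Matrix.one_apply_ne hne)

/-- A block as a subgroup of the working group. -/
def embS : Cfsg.SU k F q →* Sug m F q := (suEquiv m F q).toMonoidHom.comp (emb hf)

theorem embS_injective : Function.Injective (embS (F := F) (q := q) hf) :=
  (suEquiv m F q).injective.comp (emb_injective hf)

theorem range_embS (hF : SqField F q) :
    (embS (F := F) (q := q) hf).range = fixT (Finset.univ.image f) := by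
  have hT : ∀ l, l ∉ Finset.univ.image f ↔ l ∉ Set.range f := fun l => by simp
  ext g
  constructor
  · rintro ⟨A, rfl⟩ l hl
    rw [hT] at hl
    show app (suEquiv m F q (emb hf A)) (dd l) = dd l
    rw [app_suEquiv, dd, Matrix.mulVec_single_one]
    funext j
    rw [Matrix.col_apply, emb_off hf A (Or.inr hl)]
    simp [Matrix.one_apply, Pi.single_apply]
  · intro hg
    obtain ⟨x, rfl⟩ := (suEquiv m F q).surjective g
    obtain ⟨A, hA⟩ := mem_range_emb hf (x := x) fun l l' h => by
      have e : app (suEquiv m F q x) (dd l') l = sm x l l' := by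
        rw [app_suEquiv, dd, Matrix.mulVec_single_one, Matrix.col_apply]
      rw [← e]
      rcases h with h | h
      · rw [app_coord_of_fix hF (hg l ((hT l).mpr h))]
        simp [dd, Matrix.one_apply, Pi.single_apply]
      · rw [hg l' ((hT l').mpr h)]
        simp [dd, Matrix.one_apply, Pi.single_apply]
    exact ⟨A, congrArg (suEquiv m F q) hA⟩

end

/-- The first block in dimension three. -/
theorem injective01 : Function.Injective (![0, 1] : Fin 2 → Fin 3) := by decide

/-- The second block in dimension three. -/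
theorem injective12 : Function.Injective (![1, 2] : Fin 2 → Fin 3) := by decide

/-- The embedding into the first block. -/
def e01 : Cfsg.SU 2 F q →* Cfsg.SU 3 F q := emb injective01

/-- The embedding into the second block. -/
def e12 : Cfsg.SU 2 F q →* Cfsg.SU 3 F q := emb injective12

theorem suBlock01 : Cfsg.suBlock 3 F q {0, 1} = (e01 (F := F) (q := q)).range := by
  rw [e01, ← suBlock_eq_range]
  congr 1
  ext i
  fin_cases i <;> simp

theorem suBlock12 : Cfsg.suBlock 3 F q {1, 2} = (e12 (F := F) (q := q)).range := by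
  rw [e12, ← suBlock_eq_range]
  congr 1
  ext i
  fin_cases i <;> simp

theorem e01_injective : Function.Injective (e01 (F := F) (q := q)) := emb_injective _

theorem e12_injective : Function.Injective (e12 (F := F) (q := q)) := emb_injective _

theorem sm_e01 (A : Cfsg.SU 2 F q) :
    sm (e01 A) = !![sm A 0 0, sm A 0 1, 0; sm A 1 0, sm A 1 1, 0; 0, 0, 1] := by
  have h2 : (2 : Fin 3) ∉ Set.range (![0, 1] : Fin 2 → Fin 3) := by simp
  have b : ∀ i j, sm (e01 A) (![0, 1] i) (![0, 1] j) = sm A i j := bmat_block injective01 _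
  ext i j
  fin_cases i <;> fin_cases j
  · exact b 0 0
  · exact b 0 1
  · exact emb_off injective01 A (Or.inr h2)
  · exact b 1 0
  · exact b 1 1
  · exact emb_off injective01 A (Or.inr h2)
  all_goals exact emb_off injective01 A (Or.inl h2)

theorem sm_e12 (A : Cfsg.SU 2 F q) :
    sm (e12 A) = !![1, 0, 0; 0, sm A 0 0, sm A 0 1; 0, sm A 1 0, sm A 1 1] := by
  have h0 : (0 : Fin 3) ∉ Set.range (![1, 2] : Fin 2 → Fin 3) := by simp
  have b : ∀ i j, sm (e12 A) (![1, 2] i) (![1, 2] j) = sm A i j := bmat_block injective12 _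
  ext i j
  fin_cases i <;> fin_cases j
  · exact emb_off injective12 A (Or.inl h0)
  · exact emb_off injective12 A (Or.inl h0)
  · exact emb_off injective12 A (Or.inl h0)
  · exact emb_off injective12 A (Or.inr h0)
  · exact b 0 0
  · exact b 0 1
  · exact emb_off injective12 A (Or.inr h0)
  · exact b 1 0
  · exact b 1 1

end

end Cfsg.Agent.PhanSU
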