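import Cfsg.Agent.PhanSU.CoverEnd

/-!
The special unitary group as the universal completion of its Phan amalgam.
-/

set_option autoImplicit false
set_option linter.style.haveILetI false

open scoped Classical

namespace Cfsg.Agent.PhanSU

open Cfsg.Agent.Classical.U

universe u v

variable {F : Type u} [Field F] {n q : ℕ} {H : Type v} [Group H]

theorem PData.good_all (D : PData F q n H) (base : 3 ≤ n → 4 ≤ q ∨ (q = 3 ∧ ∀ x ∈ D.Lk (n - 3), x.2 = 1 → x ^ 3 = 1 →
      (∀ h ∈ D.Lk (n - 2), Commute x h) → x = 1)) :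
    ∀ j k : ℕ, k < n → k + j + 1 = n → D.Good k := by
  intro j
  induction j using Nat.strong_induction_on with
  | _ j ih =>
    intro k hk hkj
    have h2 := D.two_le
    by_cases h0 : j = 0
    · have := D.good_last
      rwa [show n - 1 = k by omega] at this
    by_cases h1 : j = 1
    · have := D.good_pair
      rwa [show n - 2 = k by omega] at this
    by_cases hj : j = 2
    · have hk3 : n - 3 = k := by omega
      have hk2 : n - 2 = k + 1 := by omega
      exact Ctx.good_step
        { D := D, k := k, hk := by omega, good1 := ih 1 (by omega) (k + 1) (by omega) (by omega)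
          good2 := ih 0 (by omega) (k + 2) (by omega) (by omega)
          big := Or.inr (by have hb := base (by omega); rw [hk2, hk3] at hb; exact hb) }
    · exact Ctx.good_step
        { D := D, k := k, hk := by omega
          good1 := ih (j - 1) (by omega) (k + 1) (by omega) (by omega)
          good2 := ih (j - 2) (by omega) (k + 2) (by omega) (by omega)
          big := Or.inl (by omega) }

theorem fixT_tail_zero : (fixT (tailT n 0) : Subgroup (Sug (n + 1) F q)) = ⊤ :=
  top_unique fun g _ l hl => absurd (mem_tailT.mpr (Nat.zero_le _)) hl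

/-- Surjectivity of the unrestricted lifts gives a homomorphism. -/
theorem PData.exists_hom (D : PData F q n H) (base : 3 ≤ n → 4 ≤ q ∨ (q = 3 ∧ ∀ x ∈ D.Lk (n - 3), x.2 = 1 → x ^ 3 = 1 →
      (∀ h ∈ D.Lk (n - 2), Commute x h) → x = 1)) :
    ∃ Φ : Sug (n + 1) F q →* H, ∀ i, i < n → ∀ x ∈ D.GU i, Φ x.2 = x.1 := by
  have h2 := D.two_le
  have hg := D.good_all base (n - 1) 0 (by omega) (by omega)
  have hsurj : ∀ g : Sug (n + 1) F q, ∃ x ∈ D.Lk 0, x.2 = g := fun g =>
    hg.surj g (by rw [fixT_tail_zero]; exact Subgroup.mem_top g)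
  choose lift hlift hsnd using hsurj
  have hmul : ∀ a b, (lift (a * b)).1 = (lift a).1 * (lift b).1 := fun a b => by
    rw [hg.func.eq (hlift (a * b)) (mul_mem (hlift a) (hlift b))
      (by rw [Prod.snd_mul, hsnd, hsnd, hsnd]), Prod.fst_mul]
  refine ⟨MonoidHom.mk' (fun g => (lift g).1) hmul, fun i hi x hx => ?_⟩
  simp [hg.func.eq (hlift x.2) (D.GU_le_Lk (Nat.zero_le i) hi hx) (hsnd x.2)]

end Cfsg.Agent.PhanSU
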