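import Cfsg.Agent.PhanSU.Align
import Cfsg.Agent.PhanSU.Main

/-!
From an aligned family of standard pairs to a homomorphism from the special unitary group.
-/

set_option autoImplicit false
set_option linter.style.haveILetI false

open scoped Classical

namespace Cfsg.Agent.PhanSU

open Cfsg.Agent.Classical.U Matrix

universe u v

noncomputable section

variable {F : Type u} [Field F] {n q : ℕ} {G : Type v} [Group G]

/-- Consecutive coordinates. -/
def seg {k : ℕ} (i : ℕ) (h : i + k ≤ n + 1) : Fin k → Fin (n + 1) :=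
  fun j => ⟨i + j, by omega⟩

theorem seg_injective {k i : ℕ} (h : i + k ≤ n + 1) : Function.Injective (seg (n := n) i h) :=
  fun a b e => Fin.ext (by simpa [seg] using congrArg Fin.val e)

theorem image_seg_two {i : ℕ} (h : i + 2 ≤ n + 1) :
    Finset.univ.image (seg (n := n) i h) = pairT n i := by
  ext l
  simp only [Finset.mem_image, Finset.mem_univ, true_and, mem_pairT, seg]
  constructor
  · rintro ⟨j, rfl⟩
    show i + (j : ℕ) = i ∨ i + (j : ℕ) = i + 1
    omega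
  · rintro (e | e)
    · exact ⟨0, Fin.ext (by simp [e])⟩
    · exact ⟨1, Fin.ext (by simp [e])⟩

theorem embS_trip01 {i : ℕ} (h : i + 3 ≤ n + 1) (x : Cfsg.SU 2 F q) :
    embS (seg_injective h) (e01 x)
      = embS (seg_injective (k := 2) (n := n) (i := i) (by omega)) x := by
  show suEquiv _ _ _ (emb _ (emb _ x)) = suEquiv _ _ _ (emb _ x)
  rw [emb_comp, emb_congr _ (seg_injective (n := n) (i := i) (k := 2) (by omega))
    (funext fun j => Fin.ext (by fin_cases j <;> simp [seg]))]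

theorem embS_trip12 {i : ℕ} (h : i + 3 ≤ n + 1) (x : Cfsg.SU 2 F q) :
    embS (seg_injective h) (e12 x)
      = embS (seg_injective (k := 2) (n := n) (i := i + 1) (by omega)) x := by
  show suEquiv _ _ _ (emb _ (emb _ x)) = suEquiv _ _ _ (emb _ x)
  rw [emb_comp, emb_congr _ (seg_injective (n := n) (i := i + 1) (k := 2) (by omega))
    (funext fun j => Fin.ext (by fin_cases j <;> simp [seg] <;> omega))]

/-- An aligned family with commuting distant parts. -/
structure Aligned (F : Type u) [Field F] (q n : ℕ) (G : Type v) [Group G] where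
  hF : SqField F q
  hq : 3 ≤ q
  two_le : 2 ≤ n
  φ : ℕ → (Cfsg.SU 2 F q →* G)
  ψ : ℕ → (Cfsg.SU 3 F q →* G)
  h01 : ∀ i, i + 1 < n → (ψ i).comp e01 = φ i
  h12 : ∀ i, i + 1 < n → (ψ i).comp e12 = φ (i + 1)
  far : ∀ i j, i + 2 ≤ j → j < n → ∀ x y, Commute (φ i x) (φ j y)

namespace Aligned

variable (A : Aligned F q n G)

/-- The lift subgroups. -/
def gu (i : ℕ) : Subgroup (G × Sug (n + 1) F q) :=
  if h : i < n then
    ((A.φ i).prod (embS (seg_injective (k := 2) (n := n) (i := i) (by omega)))).range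
  else ⊥

theorem mem_gu {i : ℕ} (hi : i < n) {x : G × Sug (n + 1) F q} :
    x ∈ A.gu i ↔ ∃ a, (A.φ i a, embS (seg_injective (k := 2) (n := n) (i := i) (by omega)) a) = x := by
  rw [gu, dif_pos hi]
  exact Iff.rfl

theorem gu_le {i : ℕ} (hi : i + 1 < n) :
    A.gu i ⊔ A.gu (i + 1) ≤ ((A.ψ i).prod (embS (seg_injective (k := 3) (n := n) (i := i) (by omega)))).range := by
  refine sup_le (fun x hx => ?_) (fun x hx => ?_)
  · obtain ⟨a, rfl⟩ := (A.mem_gu (by omega)).1 hx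
    exact ⟨e01 a, Prod.ext (DFunLike.congr_fun (A.h01 i hi) a) (embS_trip01 _ a)⟩
  · obtain ⟨a, rfl⟩ := (A.mem_gu hi).1 hx
    exact ⟨e12 a, Prod.ext (DFunLike.congr_fun (A.h12 i hi) a) (embS_trip12 _ a)⟩

/-- The amalgam data. -/
def pdata : PData F q n G where
  hF := A.hF
  hq := A.hq
  two_le := A.two_le
  GU := A.gu
  GU_mem i hi x hx := by
    obtain ⟨a, rfl⟩ := (A.mem_gu hi).1 hx
    rw [← image_seg_two (i := i) (by omega), ← range_embS (seg_injective _) A.hF]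
    exact ⟨a, rfl⟩
  GU_lift i hi g hg := by
    rw [← image_seg_two (i := i) (by omega), ← range_embS (seg_injective _) A.hF] at hg
    obtain ⟨a, rfl⟩ := hg
    exact ⟨_, (A.mem_gu hi).2 ⟨a, rfl⟩, rfl⟩
  far i j hij hj x hx y hy := by
    obtain ⟨a, rfl⟩ := (A.mem_gu (by omega)).1 hx
    obtain ⟨b, rfl⟩ := (A.mem_gu hj).1 hy
    refine Prod.ext (A.far i j hij hj a b) (commute_fixT A.hF (T := pairT n i) (T' := pairT n j) ?_ ?_ ?_)
    · refine Finset.disjoint_left.mpr fun l hl hl' => ?_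
      rw [mem_pairT] at hl hl'
      omega
    · rw [← image_seg_two (i := i) (by omega), ← range_embS (seg_injective _) A.hF]; exact ⟨a, rfl⟩
    · rw [← image_seg_two (i := j) (by omega), ← range_embS (seg_injective _) A.hF]; exact ⟨b, rfl⟩
  adj i hi x hx h2 := by
    obtain ⟨y, rfl⟩ := A.gu_le hi hx
    have : y = 1 := embS_injective _ (h2.trans (map_one _).symm)
    rw [this, map_one]

theorem exists_hom (base : 3 ≤ n → 4 ≤ q ∨ (q = 3 ∧ ∀ x ∈ A.pdata.Lk (n - 3), x.2 = 1 → x ^ 3 = 1 →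
      (∀ h ∈ A.pdata.Lk (n - 2), Commute x h) → x = 1)) :
    ∃ f : Cfsg.SU (n + 1) F q →* G, ∀ i, i < n → ∀ a, A.φ i a ∈ f.range := by
  obtain ⟨Φ, hΦ⟩ := A.pdata.exists_hom base
  refine ⟨Φ.comp (suEquiv (n + 1) F q).toMonoidHom, fun i hi a => ?_⟩
  rw [MonoidHom.range_comp, MonoidHom.range_eq_top.mpr (suEquiv (n + 1) F q).surjective,
    ← MonoidHom.range_eq_map]
  exact ⟨_, hΦ i hi _ ((A.mem_gu hi).2 ⟨a, rfl⟩)⟩

end Aligned

/-- The two blocks generate the three-dimensional group. -/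
theorem blocks_generate (hF : SqField F q) (hq : 3 ≤ q) :
    (e01 (F := F) (q := q)).range ⊔ (e12 (F := F) (q := q)).range = ⊤ := by
  let A : Aligned F q 2 PUnit.{1} :=
    { hF := hF, hq := hq, two_le := le_rfl, φ := fun _ => 1, ψ := fun _ => 1
      h01 := fun _ _ => rfl, h12 := fun _ _ => rfl, far := fun _ _ _ _ _ _ => rfl }
  refine top_unique fun g _ => ?_
  obtain ⟨x, hx, hxe⟩ := (A.pdata.good_pair).surj (suEquiv 3 F q g)
    (show suEquiv 3 F q g ∈ fixT (tailT 2 0) by rw [fixT_tail_zero]; exact Subgroup.mem_top _)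
  have h0 : (seg (n := 2) (k := 2) 0 (by omega)) = ![0, 1] :=
    funext fun j => by fin_cases j <;> rfl
  have h1 : (seg (n := 2) (k := 2) 1 (by omega)) = ![1, 2] :=
    funext fun j => by fin_cases j <;> rfl
  suffices h : A.pdata.Lk 0 ≤ (((e01 (F := F) (q := q)).range ⊔ e12.range).map
      (suEquiv 3 F q).toMonoidHom).comap (MonoidHom.snd _ _) by
    obtain ⟨z, hz, hze⟩ := h hx
    obtain rfl : z = g := (suEquiv 3 F q).injective (hze.trans hxe)
    exact hz
  refine (Subgroup.closure_le _).mpr fun y ⟨i, _, hi, hy⟩ => ?_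
  obtain ⟨a, rfl⟩ := (A.mem_gu hi).1 hy
  interval_cases i
  · exact ⟨e01 a, Subgroup.mem_sup_left ⟨a, rfl⟩,
      congrArg (suEquiv 3 F q) (emb_congr injective01 _ h0.symm a)⟩
  · exact ⟨e12 a, Subgroup.mem_sup_right ⟨a, rfl⟩,
      congrArg (suEquiv 3 F q) (emb_congr injective12 _ h1.symm a)⟩

/-- A weak Phan system gives aligned data. -/
theorem exists_system (hF : SqField F q) (hq : 3 ≤ q) (hn : 2 ≤ n) (U V : ℕ → Subgroup G)
    (h1 : ∀ i j, i + 2 ≤ j → j < n → ∀ x ∈ U i, ∀ y ∈ U j, Commute x y)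
    (h2 : ∀ i, i + 1 < n → Cfsg.IsStandardUnitaryPair (V i) (U i) (U (i + 1)) F q) :
    ∃ A : Aligned F q n G, (∀ i, i < n → (A.φ i).range = U i) ∧
      (∀ i, i + 1 < n → ((A.ψ i).range = V i ∧ (A.ψ i).ker ≤ Subgroup.center _) ∧
        V i ≤ U i ⊔ U (i + 1)) := by
  obtain ⟨ψ, hψ⟩ := exists_aligned hF (by omega) n U V h1 h2
  let φ : ℕ → (Cfsg.SU 2 F q →* G) := fun i =>
    if i + 1 < n then (ψ i).comp e01 else (ψ (i - 1)).comp e12
  have hr : ∀ i, i < n → (φ i).range = U i := fun i hi => by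
    by_cases h : i + 1 < n
    · show (ite _ _ _ : Cfsg.SU 2 F q →* G).range = _
      rw [if_pos h]; exact (hψ i h).2.1
    · show (ite _ _ _ : Cfsg.SU 2 F q →* G).range = _
      rw [if_neg h]
      have := (hψ (i - 1) (by omega)).2.2.1
      rwa [show i - 1 + 1 = i by omega] at this
  refine ⟨{ hF := hF, hq := hq, two_le := hn, φ := φ, ψ := ψ
            h01 := fun i hi => (if_pos hi).symm
            h12 := fun i hi => ?_
            far := fun i j hij hj x y => h1 i j hij hj _ ((hr i (by omega)).le ⟨x, rfl⟩) _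
              ((hr j hj).le ⟨y, rfl⟩) }, hr, fun i hi => ⟨⟨(hψ i hi).2.2.2.1, (hψ i hi).1⟩, ?_⟩⟩
  · show (ψ i).comp e12 = if i + 1 + 1 < n then (ψ (i + 1)).comp e01 else (ψ (i + 1 - 1)).comp e12
    by_cases h : i + 1 + 1 < n
    · rw [if_pos h, (hψ (i + 1) h).2.2.2.2 (by omega), Nat.add_sub_cancel]
    · rw [if_neg h, Nat.add_sub_cancel]
  · obtain ⟨-, a2, a3, a4, -⟩ := hψ i hi
    rw [← a2, ← a3, ← a4, MonoidHom.range_eq_map, ← blocks_generate hF hq, Subgroup.map_sup,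
      ← MonoidHom.range_comp, ← MonoidHom.range_comp]

/-- Families indexed by `Fin n` as sequences. -/
def ext0 (U : Fin n → Subgroup G) (i : ℕ) : Subgroup G := if h : i < n then U ⟨i, h⟩ else ⊥

/-- Pairs indexed by `Fin n` as sequences. -/
def ext2 (V : Fin n → Fin n → Subgroup G) (i : ℕ) : Subgroup G :=
  if h : i + 1 < n then V ⟨i, by omega⟩ ⟨i + 1, h⟩ else ⊥

/-- The statement-shaped version. -/
theorem weak_phan_system (hF : SqField F q) (hq : 3 ≤ q) (hn : 2 ≤ n)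
    (U : Fin n → Subgroup G) (V : Fin n → Fin n → Subgroup G)
    (h1 : ∀ i j : Fin n, (i : ℕ) + 2 ≤ j → ∀ x ∈ U i, ∀ y ∈ U j, x * y = y * x)
    (h2 : ∀ i j : Fin n, (i : ℕ) + 1 = j → Cfsg.IsStandardUnitaryPair (V i j) (U i) (U j) F q)
    (hgen : (⨆ i, U i) ⊔ (⨆ (i : Fin n) (j : Fin n) (_ : (i : ℕ) + 1 = j), V i j) = ⊤) :
    ∃ A : Aligned F q n G, (∀ i, i + 1 < n → (A.ψ i).range = ext2 V i ∧
      (A.ψ i).ker ≤ Subgroup.center _) ∧
      ((3 ≤ n → 4 ≤ q ∨ (q = 3 ∧ ∀ x ∈ A.pdata.Lk (n - 3), x.2 = 1 → x ^ 3 = 1 →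
          (∀ h ∈ A.pdata.Lk (n - 2), Commute x h) → x = 1)) →
        ∃ f : ↥(Cfsg.SU (n + 1) F q) →* G, Function.Surjective f) := by
  obtain ⟨A, hA1, hA2⟩ := exists_system hF hq hn (ext0 U) (ext2 V)
    (fun i j hij hj x hx y hy => by
      rw [ext0, dif_pos (show i < n by omega)] at hx
      rw [ext0, dif_pos hj] at hy
      exact h1 ⟨i, by omega⟩ ⟨j, hj⟩ hij x hx y hy)
    (fun i hi => by
      rw [ext2, dif_pos hi, ext0, dif_pos (show i < n by omega), ext0, dif_pos hi]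
      exact h2 _ _ rfl)
  refine ⟨A, fun i hi => (hA2 i hi).1, fun base => ?_⟩
  obtain ⟨f, hf⟩ := A.exists_hom base
  refine ⟨f, MonoidHom.range_eq_top.mp (top_unique (hgen ▸ ?_))⟩
  have hU : ∀ i : Fin n, U i ≤ f.range := fun i x hx => by
    have hxi : x ∈ (A.φ i).range := by rw [hA1 i i.2, ext0, dif_pos i.2]; exact hx
    obtain ⟨a, rfl⟩ := hxi
    exact hf i i.2 a
  refine sup_le (iSup_le hU) (iSup_le fun i => iSup_le fun j => iSup_le fun hij => ?_)
  have h := (hA2 i (hij ▸ j.2)).2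
  rw [ext2, dif_pos (hij ▸ j.2), ext0, dif_pos i.2, ext0, dif_pos (hij ▸ j.2)] at h
  rw [show j = ⟨(i : ℕ) + 1, hij ▸ j.2⟩ from Fin.ext hij.symm]
  exact h.trans (sup_le (hU _) (hU _))

end

end Cfsg.Agent.PhanSU
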