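import Cfsg.Agent.PhanSU.Amalgam

/-!
The induction step: the orthogonality graph of units has no proper cover of the given kind.
-/

set_option autoImplicit false
set_option linter.style.haveILetI false

open scoped Classical

namespace Cfsg.Agent.PhanSU

open Cfsg.Agent.Classical.U

universe u v

noncomputable section

variable {F : Type u} [Field F] {n q : ℕ} {H : Type v} [Group H]

/-- The situation of the induction step. -/
structure Ctx (F : Type u) [Field F] (q n : ℕ) (H : Type v) [Group H] where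
  D : PData F q n H
  k : ℕ
  hk : k + 3 ≤ n
  good1 : D.Good (k + 1)
  good2 : D.Good (k + 2)
  big : k + 4 ≤ n ∨ 4 ≤ q ∨ (q = 3 ∧ ∀ x ∈ D.Lk k, x.2 = 1 → x ^ 3 = 1 →
    (∀ h ∈ D.Lk (k + 1), Commute x h) → x = 1)

namespace Ctx

variable (C : Ctx F q n H)

theorem lt0 : C.k < n := by have := C.hk; omega
theorem lt1 : C.k + 1 < n := by have := C.hk; omega
theorem le2 : C.k + 2 ≤ n := by have := C.hk; omega
theorem lt2 : C.k + 2 < n := by have := C.hk; omega

/-- The base vector. -/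
abbrev e : Fin (n + 1) → F := bas F n C.k

/-- The second vector. -/
abbrev e1 : Fin (n + 1) → F := bas F n (C.k + 1)

/-- The third vector. -/
abbrev e2 : Fin (n + 1) → F := bas F n (C.k + 2)

/-- The stabiliser from the smaller rank. -/
abbrev L1 : Subgroup (H × Sug (n + 1) F q) := C.D.Lk (C.k + 1)

/-- The ambient lift group. -/
abbrev L0 : Subgroup (H × Sug (n + 1) F q) := C.D.Lk C.k

/-- The first rank two piece. -/
abbrev P01 : Subgroup (H × Sug (n + 1) F q) := C.D.GU C.k ⊔ C.D.GU (C.k + 1)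

/-- The cosets. -/
abbrev Q : Type _ := (H × Sug (n + 1) F q) ⧸ C.L1

/-- Units of the space of the step. -/
def Unit' (v : Fin (n + 1) → F) : Prop := v ∈ supp (tailT n C.k) ∧ herm q v v = 1

/-- Units of the smaller space. -/
def UnitW (v : Fin (n + 1) → F) : Prop := v ∈ supp (tailT n (C.k + 1)) ∧ herm q v v = 1

theorem UnitW.unit {C : Ctx F q n H} {v : Fin (n + 1) → F} (h : C.UnitW v) : C.Unit' v :=
  ⟨supp_mono (tailT_antitone C.k.le_succ) h.1, h.2⟩

theorem L1_le : C.L1 ≤ C.L0 := C.D.Lk_antitone C.k.le_succ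

theorem GU0_le : C.D.GU C.k ≤ C.L0 := C.D.GU_le_Lk le_rfl C.lt0

theorem GU1_le : C.D.GU (C.k + 1) ≤ C.L1 := C.D.GU_le_Lk le_rfl C.lt1

theorem P01_le : C.P01 ≤ C.L0 := sup_le C.GU0_le (C.GU1_le.trans C.L1_le)

theorem L1_fix {g : H × Sug (n + 1) F q} (hg : g ∈ C.L1) : app g.2 C.e = C.e :=
  fix_bas (C.D.snd_mem hg) C.lt0.le (by simp [mem_tailT])

theorem GU1_fix {t : H × Sug (n + 1) F q} (ht : t ∈ C.D.GU (C.k + 1)) : app t.2 C.e = C.e :=
  C.L1_fix (C.GU1_le ht)

theorem GU0_fix_e2 {s : H × Sug (n + 1) F q} (hs : s ∈ C.D.GU C.k) : app s.2 C.e2 = C.e2 :=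
  fix_bas (C.D.GU_mem _ C.lt0 s hs) C.le2 (by simp [mem_pairT])

theorem L2_comm {g s : H × Sug (n + 1) F q} (hg : g ∈ C.D.Lk (C.k + 2))
    (hs : s ∈ C.D.GU C.k) : Commute s g :=
  commute_of_closure (fun y hy => by
    obtain ⟨i, hi, hin, hy⟩ := hy
    exact C.D.far C.k i hi hin s hs y hy) hg

theorem P01_coset {x y : H × Sug (n + 1) F q} (hx : x ∈ C.P01) (hy : y ∈ C.P01)
    (h : app x.2 C.e = app y.2 C.e) : (QuotientGroup.mk x : C.Q) = QuotientGroup.mk y := by
  refine QuotientGroup.eq.mpr ?_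
  have hm : x⁻¹ * y ∈ C.P01 := mul_mem (inv_mem hx) hy
  have htrip : C.P01 ≤ (fixT (tripT n C.k)).comap (MonoidHom.snd H (Sug (n + 1) F q)) := by
    refine sup_le (fun z hz => ?_) (fun z hz => ?_)
    · exact fixT_mono (fun l hl => by
        rcases mem_pairT.mp hl with e | e <;> simp [tripT] <;> omega) (C.D.GU_mem _ C.lt0 z hz)
    · exact fixT_mono (fun l hl => by
        rcases mem_pairT.mp hl with e | e <;> simp [tripT] <;> omega) (C.D.GU_mem _ C.lt1 z hz)
  have he : app (x⁻¹ * y).2 C.e = C.e := by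
    rw [Prod.snd_mul, Prod.snd_inv, app_mul, ← h, app_inv_app]
  have hp : (x⁻¹ * y).2 ∈ fixT (pairT n (C.k + 1)) := by
    intro l hl
    by_cases hlk : (l : ℕ) = C.k
    · have e1 : dd l = C.e := by
        rw [Ctx.e, bas_eq C.lt0.le]; congr 1; exact Fin.ext hlk
      rw [e1]; exact he
    · exact htrip hm l (by
        rw [mem_pairT] at hl
        simp [tripT]
        omega)
  obtain ⟨t, ht, hte⟩ := C.D.GU_lift _ C.lt1 _ hp
  rw [(C.D.adj C.k C.lt1).eq hm (Subgroup.mem_sup_right ht) hte.symm]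
  exact C.GU1_le ht

theorem mem_L2_of_fix {h : H × Sug (n + 1) F q} (hh : h ∈ C.L1) (he : app h.2 C.e1 = C.e1) :
    h ∈ C.D.Lk (C.k + 2) := by
  have hm : h.2 ∈ fixT (tailT n (C.k + 2)) := by
    intro l hl
    rw [mem_tailT, not_le] at hl
    by_cases hlk : (l : ℕ) = C.k + 1
    · have e1 : dd l = C.e1 := by
        rw [Ctx.e1, bas_eq C.lt1.le]; congr 1; exact Fin.ext hlk
      rw [e1]; exact he
    · exact mem_fixT.mp (C.D.snd_mem hh) l (by rw [mem_tailT]; omega)
  obtain ⟨y, hy, hye⟩ := C.good2.surj _ hm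
  rw [C.good1.func.eq hh (C.D.Lk_antitone (Nat.le_succ _) hy) hye.symm]
  exact hy

theorem pair_decomp {v : Fin (n + 1) → F} (hv : v ∈ supp (pairT n C.k)) :
    v = herm q v C.e • C.e + herm q v C.e1 • C.e1 := by
  rw [Ctx.e, Ctx.e1, herm_bas C.D.hF C.lt0.le, herm_bas C.D.hF C.lt1.le, bas_eq C.lt0.le,
    bas_eq C.lt1.le]
  funext l
  by_cases h0 : (l : ℕ) = C.k
  · have hl : l = ⟨C.k, Nat.lt_succ_of_le C.lt0.le⟩ := Fin.ext h0
    subst hl
    simp [dd]
  by_cases h1 : (l : ℕ) = C.k + 1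
  · have hl : l = ⟨C.k + 1, Nat.lt_succ_of_le C.lt1.le⟩ := Fin.ext h1
    subst hl
    simp [dd]
  rw [hv l (by rw [mem_pairT]; omega)]
  simp [dd, Pi.single_apply, Fin.ext_iff, h0, h1]

theorem pair_perp {v : Fin (n + 1) → F} (hv : v ∈ supp (pairT n C.k))
    (h : herm q v C.e = 0) : v ∈ supp (pairT n (C.k + 1)) := by
  rw [C.pair_decomp hv, h, zero_smul, zero_add]
  exact (supp _).smul_mem _ (bas_mem_pair C.lt1.le (Or.inl rfl))

/-- An element moving the base vector to the next one. -/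
def wh : H × Sug (n + 1) F q :=
  Classical.choose (C.D.exists_plane_lift C.lt0 (bas_mem_pair C.lt1.le (Or.inr rfl))
    (bas_unit C.D.hF C.lt1.le))

theorem wh_mem : C.wh ∈ C.D.GU C.k :=
  (Classical.choose_spec (C.D.exists_plane_lift C.lt0 (bas_mem_pair C.lt1.le (Or.inr rfl))
    (bas_unit C.D.hF C.lt1.le))).1

theorem wh_e : app C.wh.2 C.e = C.e1 :=
  (Classical.choose_spec (C.D.exists_plane_lift C.lt0 (bas_mem_pair C.lt1.le (Or.inr rfl))
    (bas_unit C.D.hF C.lt1.le))).2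

theorem wh_mem_P01 : C.wh ∈ C.P01 := Subgroup.mem_sup_left C.wh_mem

theorem wh_mem_L0 : C.wh ∈ C.L0 := C.GU0_le C.wh_mem

theorem mk_mul_L1 (x : H × Sug (n + 1) F q) {y : H × Sug (n + 1) F q} (hy : y ∈ C.L1) :
    (QuotientGroup.mk (x * y) : C.Q) = QuotientGroup.mk x :=
  QuotientGroup.mk_mul_of_mem x hy

/-- The vector of a coset. -/
def prj : C.Q → (Fin (n + 1) → F) :=
  Quotient.lift (fun x : H × Sug (n + 1) F q => app x.2 C.e) fun a b h => by
    have hab : a⁻¹ * b ∈ C.L1 := QuotientGroup.leftRel_apply.mp h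
    have hf := C.L1_fix hab
    rw [Prod.snd_mul, Prod.snd_inv, app_mul] at hf
    have := congrArg (app a.2) hf
    rw [app_app_inv] at this
    exact this.symm

theorem prj_mk (x : H × Sug (n + 1) F q) : C.prj (QuotientGroup.mk x) = app x.2 C.e := rfl

theorem prj_smul (x : H × Sug (n + 1) F q) (c : C.Q) : C.prj (x • c) = app x.2 (C.prj c) := by
  induction c using QuotientGroup.induction_on with
  | _ y => rw [MulAction.Quotient.smul_coe, smul_eq_mul, prj_mk, prj_mk, Prod.snd_mul, app_mul]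

/-- Adjacency of cosets. -/
def Adj (c c' : C.Q) : Prop :=
  ∃ x ∈ C.L0, c = QuotientGroup.mk x ∧ c' = QuotientGroup.mk (x * C.wh)

theorem Adj.smul {C : Ctx F q n H} {c c' : C.Q} (h : C.Adj c c') {x : H × Sug (n + 1) F q}
    (hx : x ∈ C.L0) : C.Adj (x • c) (x • c') := by
  obtain ⟨y, hy, rfl, rfl⟩ := h
  exact ⟨x * y, mul_mem hx hy, rfl, by
    rw [MulAction.Quotient.smul_coe, smul_eq_mul, mul_assoc]⟩

theorem adj_P01 {x y : H × Sug (n + 1) F q} (hx : x ∈ C.P01) (hy : y ∈ C.P01)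
    (h : app y.2 C.e = app x.2 C.e1) : C.Adj (QuotientGroup.mk x) (QuotientGroup.mk y) :=
  ⟨x, C.P01_le hx, rfl, C.P01_coset hy (mul_mem hx C.wh_mem_P01)
    (by rw [h, Prod.snd_mul, app_mul, C.wh_e])⟩

theorem adj_unique {c c1 c2 : C.Q} (h1 : C.Adj c c1) (h2 : C.Adj c c2)
    (hp : C.prj c1 = C.prj c2) : c1 = c2 := by
  obtain ⟨x, hx, rfl, rfl⟩ := h1
  obtain ⟨y, hy, hxy, rfl⟩ := h2
  have hh : x⁻¹ * y ∈ C.L1 := QuotientGroup.eq.mp hxy
  have he : app (x⁻¹ * y).2 C.e1 = C.e1 := by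
    rw [prj_mk, prj_mk, Prod.snd_mul, Prod.snd_mul, app_mul, app_mul, C.wh_e] at hp
    rw [Prod.snd_mul, Prod.snd_inv, app_mul, ← hp, app_inv_app]
  have hc := C.L2_comm (C.mem_L2_of_fix hh he) C.wh_mem
  rw [show y * C.wh = x * ((x⁻¹ * y) * C.wh) by group, ← hc.eq, ← mul_assoc,
    C.mk_mul_L1 _ hh]

theorem adj_symm {c c' : C.Q} (h : C.Adj c c') : C.Adj c' c := by
  obtain ⟨x, hx, rfl, rfl⟩ := h
  have hz : app C.wh.2⁻¹ C.e ∈ supp (pairT n (C.k + 1)) := by
    refine C.pair_perp (app_mem_supp C.D.hF (inv_mem (C.D.GU_mem _ C.lt0 _ C.wh_mem))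
      (bas_mem_pair C.lt0.le (Or.inl rfl))) ?_
    rw [← app_herm C.wh.2, app_app_inv, C.wh_e]
    exact (herm_bas_tail C.D.hF C.lt0 (bas_mem_tail C.lt1.le le_rfl)).2
  obtain ⟨t, ht, hte⟩ := C.D.exists_plane_lift C.lt1 hz
    (by rw [app_herm]; exact bas_unit C.D.hF C.lt0.le)
  have h1 : C.Adj (QuotientGroup.mk (C.wh * t)) (QuotientGroup.mk 1) :=
    C.adj_P01 (mul_mem C.wh_mem_P01 (Subgroup.mem_sup_right ht)) (one_mem _)
      (by rw [Prod.snd_mul, app_mul, show app t.2 C.e1 = _ from hte, app_app_inv]; rfl)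
  have h2 := h1.smul hx
  rwa [MulAction.Quotient.smul_coe, MulAction.Quotient.smul_coe, smul_eq_mul, smul_eq_mul,
    mul_one, ← mul_assoc, C.mk_mul_L1 _ (C.GU1_le ht)] at h2

theorem adj_exists {c c0 : C.Q} (h : C.Adj c c0) {u : Fin (n + 1) → F} (hu : C.Unit' u)
    (hperp : herm q u (C.prj c) = 0) : ∃ c', C.Adj c c' ∧ C.prj c' = u := by
  obtain ⟨x, hx, rfl, -⟩ := h
  rw [prj_mk] at hperp
  have hW : app x.2⁻¹ u ∈ supp (tailT n (C.k + 1)) := by
    have h1 := offPart_mem C.lt0.le (app_mem_supp C.D.hF (inv_mem (C.D.snd_mem hx)) hu.1)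
    have h2 : herm q (app x.2⁻¹ u) (bas F n C.k) = 0 := by
      rw [← app_herm x.2, app_app_inv]; exact hperp
    rwa [offPart_eq' C.D.hF C.lt0.le, h2, zero_smul, sub_zero] at h1
  obtain ⟨g, hg, hge⟩ := C.D.exists_tail_lift C.lt1 C.good1 hW (by rw [app_herm]; exact hu.2)
  refine ⟨QuotientGroup.mk (x * g * C.wh),
    ⟨x * g, mul_mem hx (C.L1_le hg), (C.mk_mul_L1 x hg).symm, rfl⟩, ?_⟩
  rw [prj_mk, Prod.snd_mul, Prod.snd_mul, app_mul, app_mul, C.wh_e,
    show app g.2 C.e1 = _ from hge, app_app_inv]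

theorem adj_tri {c c1 c2 : C.Q} (h1 : C.Adj c c1) (h2 : C.Adj c c2)
    (hp : herm q (C.prj c2) (C.prj c1) = 0) : C.Adj c1 c2 := by
  obtain ⟨x, hx, rfl, rfl⟩ := h1
  obtain ⟨y, hy, hxy, rfl⟩ := h2
  set h := x⁻¹ * y with hh'
  have hh : h ∈ C.L1 := QuotientGroup.eq.mp hxy
  set u := app h.2 C.e1 with hu
  have hu1 : herm q u u = 1 := by rw [hu, app_herm]; exact bas_unit C.D.hF C.lt1.le
  have huW : u ∈ supp (tailT n (C.k + 1)) :=
    app_mem_supp C.D.hF (C.D.snd_mem hh) (bas_mem_tail C.lt1.le le_rfl)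
  have hue : herm q u C.e1 = 0 := by
    rw [prj_mk, prj_mk, Prod.snd_mul, Prod.snd_mul, app_mul, app_mul, C.wh_e] at hp
    rw [hu, hh', Prod.snd_mul, Prod.snd_inv, app_mul, ← app_herm x.2, app_app_inv]
    exact hp
  have huW2 : u ∈ supp (tailT n (C.k + 1 + 1)) := by
    have h3 := offPart_mem C.lt1.le huW
    rwa [offPart_eq' C.D.hF C.lt1.le, show herm q u (bas F n (C.k + 1)) = 0 from hue, zero_smul,
      sub_zero] at h3
  obtain ⟨g, hg, hge⟩ := C.D.exists_tail_lift C.lt2 C.good2 huW2 hu1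
  obtain ⟨t, ht, hte⟩ := C.D.exists_plane_lift C.lt1
    (bas_mem_pair C.le2 (Or.inr rfl)) (bas_unit C.D.hF C.le2)
  have hg1 : g ∈ C.L1 := C.D.Lk_antitone (Nat.le_succ _) hg
  -- the second coset in standard form
  have e2' : (QuotientGroup.mk (h * C.wh) : C.Q) = QuotientGroup.mk (g * t * C.wh) := by
    refine C.adj_unique (c := QuotientGroup.mk 1)
      ⟨h, C.L1_le hh, by simpa using (C.mk_mul_L1 1 hh).symm, rfl⟩
      ⟨g * t, C.L1_le (mul_mem hg1 (C.GU1_le ht)),
        by simpa using (C.mk_mul_L1 1 (mul_mem hg1 (C.GU1_le ht))).symm, rfl⟩ ?_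
    simp only [prj_mk, Prod.snd_mul, app_mul, C.wh_e]
    rw [show app t.2 C.e1 = C.e2 from hte, show app g.2 C.e2 = u from hge, hu, hh', Prod.snd_mul,
      app_mul]
  have base : C.Adj (QuotientGroup.mk C.wh) (QuotientGroup.mk (t * C.wh)) := by
    have h3 := C.adj_P01 (x := C.wh * t) (y := t * C.wh)
      (mul_mem C.wh_mem_P01 (Subgroup.mem_sup_right ht))
      (mul_mem (Subgroup.mem_sup_right ht) C.wh_mem_P01)
      (by rw [Prod.snd_mul, Prod.snd_mul, app_mul, app_mul, C.wh_e,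
        show app t.2 C.e1 = C.e2 from hte, C.GU0_fix_e2 C.wh_mem])
    rwa [C.mk_mul_L1 _ (C.GU1_le ht)] at h3
  have h4 := base.smul (mul_mem hx (C.L1_le hg1))
  rw [MulAction.Quotient.smul_coe, MulAction.Quotient.smul_coe, smul_eq_mul, smul_eq_mul] at h4
  have e1' : (QuotientGroup.mk (x * g * C.wh) : C.Q) = QuotientGroup.mk (x * C.wh) := by
    rw [mul_assoc, ← (C.L2_comm hg C.wh_mem).eq, ← mul_assoc, C.mk_mul_L1 _ hg1]
  have e2'' : (QuotientGroup.mk (y * C.wh) : C.Q) = QuotientGroup.mk (x * g * (t * C.wh)) := by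
    have := congrArg (fun c : C.Q => x • c) e2'
    simp only [MulAction.Quotient.smul_coe, smul_eq_mul] at this
    rw [show y * C.wh = x * (h * C.wh) by rw [hh']; group, this]
    simp [mul_assoc]
  rw [e2'', ← e1']
  exact h4

theorem conj_mem {s : H × Sug (n + 1) F q} (hs : s ∈ C.D.GU C.k)
    (hsd : app s.2 C.e = herm q (app s.2 C.e) C.e • C.e) {h : H × Sug (n + 1) F q}
    (hh : h ∈ C.L1) : s⁻¹ * h * s ∈ C.L1 := by
  induction hh using Subgroup.closure_induction with
  | mem y hy =>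
    obtain ⟨i, hi, hin, hy⟩ := hy
    by_cases h1 : i = C.k + 1
    · subst h1
      have hc := C.P01_coset (x := s) (y := y * s) (Subgroup.mem_sup_left hs)
        (mul_mem (Subgroup.mem_sup_right hy) (Subgroup.mem_sup_left hs))
        (by rw [Prod.snd_mul, app_mul, hsd, app_smul, C.GU1_fix hy])
      have := QuotientGroup.eq.mp hc
      rwa [← mul_assoc] at this
    · have hc := C.D.far C.k i (by omega) hin s hs y hy
      rw [mul_assoc, ← hc.eq, inv_mul_cancel_left]
      exact C.D.GU_le_Lk hi hin hy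
  | one => simp
  | mul a b _ _ ha hb =>
    rw [show s⁻¹ * (a * b) * s = (s⁻¹ * a * s) * (s⁻¹ * b * s) by group]
    exact mul_mem ha hb
  | inv a _ ha =>
    rw [show s⁻¹ * a⁻¹ * s = (s⁻¹ * a * s)⁻¹ by group]
    exact inv_mem ha

theorem rep_wd {g g' s s' : H × Sug (n + 1) F q} (hg : g ∈ C.L1) (hg' : g' ∈ C.L1)
    (hs : s ∈ C.D.GU C.k) (hs' : s' ∈ C.D.GU C.k)
    (h : app (g * s).2 C.e = app (g' * s').2 C.e) :
    (QuotientGroup.mk (g * s) : C.Q) = QuotientGroup.mk (g' * s') := by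
  set k' := g⁻¹ * g' with hk'
  have hk1 : k' ∈ C.L1 := mul_mem (inv_mem hg) hg'
  have hmov : app k'.2 (app s'.2 C.e) = app s.2 C.e := by
    rw [Prod.snd_mul, Prod.snd_mul, app_mul, app_mul] at h
    rw [hk', Prod.snd_mul, Prod.snd_inv, app_mul, ← h, app_inv_app]
  have hm : ∀ {z : H × Sug (n + 1) F q}, z ∈ C.D.GU C.k →
      app z.2 C.e ∈ supp (pairT n C.k) := fun hz =>
    app_mem_supp C.D.hF (C.D.GU_mem _ C.lt0 _ hz) (bas_mem_pair C.lt0.le (Or.inl rfl))
  have d1 := C.pair_decomp (hm hs)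
  have d2 := C.pair_decomp (hm hs')
  set a := herm q (app s.2 C.e) C.e with ha
  set b := herm q (app s.2 C.e) C.e1 with hb
  set b' := herm q (app s'.2 C.e) C.e1 with hb'
  have haa : herm q (app s'.2 C.e) C.e = a := by
    rw [ha, ← hmov]
    conv_rhs => arg 3; rw [← C.L1_fix hk1]
    rw [app_herm]
  rw [haa] at d2
  rw [d1, d2, app_add, app_smul, app_smul, C.L1_fix hk1, add_right_inj] at hmov
  by_cases hb0 : b' = 0
  · have hb00 : b = 0 := by
      rw [hb0, zero_smul, eq_comm, smul_eq_zero] at hmov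
      exact hmov.resolve_right (unit_ne_zero C.D.hF (bas_unit C.D.hF C.lt1.le))
    rw [hb0, zero_smul, add_zero] at d2
    rw [hb00, zero_smul, add_zero] at d1
    have hsd : app s.2 C.e = herm q (app s.2 C.e) C.e • C.e := d1
    have hss : (QuotientGroup.mk s' : C.Q) = QuotientGroup.mk s :=
      C.P01_coset (Subgroup.mem_sup_left hs') (Subgroup.mem_sup_left hs) (d2.trans d1.symm)
    have := congrArg (fun c : C.Q => g' • c) hss
    simp only [MulAction.Quotient.smul_coe, smul_eq_mul] at this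
    rw [this, show g' * s = g * s * (s⁻¹ * k' * s) by rw [hk']; group,
      C.mk_mul_L1 _ (C.conj_mem hs hsd hk1)]
  · have hlam : app k'.2 C.e1 = (b / b') • C.e1 := by
      rw [div_eq_inv_mul, mul_smul, ← hmov, smul_smul, inv_mul_cancel₀ hb0, one_smul]
    have hn : herm q ((b / b') • C.e1) ((b / b') • C.e1) = 1 := by
      rw [← hlam, app_herm]; exact bas_unit C.D.hF C.lt1.le
    obtain ⟨t, ht, hte⟩ := C.D.exists_plane_lift C.lt1
      ((supp _).smul_mem (b / b') (bas_mem_pair C.lt1.le (Or.inl rfl))) hn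
    have hte' : app t.2 C.e1 = (b / b') • C.e1 := hte
    set h' := t⁻¹ * k' with hh'
    have hh1 : h' ∈ C.L1 := mul_mem (inv_mem (C.GU1_le ht)) hk1
    have hhe : app h'.2 C.e1 = C.e1 := by
      rw [hh', Prod.snd_mul, app_mul, hlam, ← hte', Prod.snd_inv, app_inv_app]
    have hc := C.L2_comm (C.mem_L2_of_fix hh1 hhe) hs'
    have hts : (QuotientGroup.mk (t * s') : C.Q) = QuotientGroup.mk s := by
      refine C.P01_coset (mul_mem (Subgroup.mem_sup_right ht) (Subgroup.mem_sup_left hs'))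
        (Subgroup.mem_sup_left hs) ?_
      rw [Prod.snd_mul, app_mul, d2, d1, app_add, app_smul, app_smul, C.GU1_fix ht, hte',
        smul_smul, mul_div_cancel₀ _ hb0]
    have := congrArg (fun c : C.Q => g • c) hts
    simp only [MulAction.Quotient.smul_coe, smul_eq_mul] at this
    rw [← this, show g' * s' = g * t * (h' * s') by rw [hh', hk']; group, ← hc.eq,
      show g * t * (s' * h') = g * (t * s') * h' by group, C.mk_mul_L1 _ hh1]

/-- The coset attached to a generic unit. -/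
def gA (v : Fin (n + 1) → F) : C.Q :=
  if h : C.Unit' v ∧ PData.IsA n C.k q v then
    QuotientGroup.mk (Classical.choose (C.D.exists_rep C.lt1 C.good1 h.1.1 h.1.2 h.2) *
      Classical.choose (Classical.choose_spec
        (C.D.exists_rep C.lt1 C.good1 h.1.1 h.1.2 h.2)).2)
  else QuotientGroup.mk 1

theorem gA_eq {v : Fin (n + 1) → F} (hv : C.Unit' v) (hA : PData.IsA n C.k q v)
    {g s : H × Sug (n + 1) F q} (hg : g ∈ C.L1) (hs : s ∈ C.D.GU C.k)
    (he : app (g * s).2 C.e = v) : C.gA v = QuotientGroup.mk (g * s) := by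
  rw [gA, dif_pos ⟨hv, hA⟩]
  have h1 := Classical.choose_spec (C.D.exists_rep C.lt1 C.good1 hv.1 hv.2 hA)
  have h2 := Classical.choose_spec h1.2
  exact C.rep_wd h1.1 hg h2.1 hs (h2.2.trans he.symm)

theorem gA_prj {v : Fin (n + 1) → F} (hv : C.Unit' v) (hA : PData.IsA n C.k q v) :
    C.prj (C.gA v) = v := by
  obtain ⟨g, hg, s, hs, he⟩ := C.D.exists_rep C.lt1 C.good1 hv.1 hv.2 hA
  rw [C.gA_eq hv hA hg hs he, prj_mk]
  exact he

theorem off_unitW {a : Fin (n + 1) → F} (ha : C.UnitW a) : offPart n C.k a = a := by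
  rw [offPart_eq' C.D.hF C.lt0.le, (herm_bas_tail C.D.hF C.lt0 ha.1).1, zero_smul, sub_zero]

theorem unitW_isA {a : Fin (n + 1) → F} (ha : C.UnitW a) : PData.IsA n C.k q a :=
  Or.inr (by rw [C.off_unitW ha, ha.2]; exact one_ne_zero)

theorem edge_W {v a : Fin (n + 1) → F} (hv : C.Unit' v) (hA : PData.IsA n C.k q v)
    (ha : C.UnitW a) (h : herm q v a = 0) : C.Adj (C.gA v) (C.gA a) := by
  obtain ⟨g, hg, s, hs, he⟩ := C.D.exists_rep C.lt1 C.good1 hv.1 hv.2 hA
  set a' := app g.2⁻¹ a with ha'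
  have ha'W : a' ∈ supp (tailT n (C.k + 1)) :=
    app_mem_supp C.D.hF (inv_mem (C.D.snd_mem hg)) ha.1
  have ha'1 : herm q a' a' = 1 := by rw [ha', app_herm]; exact ha.2
  have hse : app s.2 C.e ∈ supp (pairT n C.k) :=
    app_mem_supp C.D.hF (C.D.GU_mem _ C.lt0 _ hs) (bas_mem_pair C.lt0.le (Or.inl rfl))
  have d1 := C.pair_decomp hse
  have hperp : herm q (app s.2 C.e) a' = 0 := by
    rw [ha', ← app_herm g.2, app_app_inv, ← app_mul, ← Prod.snd_mul, he]
    exact h
  by_cases hb : herm q (app s.2 C.e) C.e1 = 0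
  · rw [hb, zero_smul, add_zero] at d1
    obtain ⟨g1, hg1, hg1e⟩ := C.D.exists_tail_lift C.lt1 C.good1 ha'W ha'1
    have ea : C.gA a = QuotientGroup.mk (g * g1 * C.wh) :=
      C.gA_eq ha.unit (C.unitW_isA ha) (mul_mem hg hg1) C.wh_mem (by
        rw [Prod.snd_mul, Prod.snd_mul, app_mul, app_mul, C.wh_e,
          show app g1.2 C.e1 = a' from hg1e, ha', app_app_inv])
    have ev : C.gA v = QuotientGroup.mk (g * g1 * s) :=
      C.gA_eq hv hA (mul_mem hg hg1) hs (by
        have hfix1 : app g1.2 (app s.2 C.e) = app s.2 C.e := by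
          rw [d1, app_smul, C.L1_fix hg1]
        rw [Prod.snd_mul, Prod.snd_mul, app_mul, app_mul, hfix1, ← app_mul, ← Prod.snd_mul, he])
    have hz : app s.2⁻¹ C.e1 ∈ supp (pairT n (C.k + 1)) := by
      refine C.pair_perp (app_mem_supp C.D.hF (inv_mem (C.D.GU_mem _ C.lt0 _ hs))
        (bas_mem_pair C.lt1.le (Or.inr rfl))) ?_
      rw [← app_herm s.2, app_app_inv]
      exact herm_comm_zero C.D.hF hb
    obtain ⟨t, ht, hte⟩ := C.D.exists_plane_lift C.lt1 hz
      (by rw [app_herm]; exact bas_unit C.D.hF C.lt1.le)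
    have base : C.Adj (QuotientGroup.mk s) (QuotientGroup.mk C.wh) := by
      have h3 := C.adj_P01 (x := s * t) (y := C.wh)
        (mul_mem (Subgroup.mem_sup_left hs) (Subgroup.mem_sup_right ht)) C.wh_mem_P01
        (by rw [Prod.snd_mul, app_mul, show app t.2 C.e1 = _ from hte, app_app_inv, C.wh_e])
      rwa [C.mk_mul_L1 _ (C.GU1_le ht)] at h3
    have h4 := base.smul (C.L1_le (mul_mem hg hg1))
    rw [MulAction.Quotient.smul_coe, MulAction.Quotient.smul_coe, smul_eq_mul, smul_eq_mul] at h4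
    rwa [ea, ev]
  · have hae : herm q a' C.e1 = 0 := by
      apply herm_comm_zero C.D.hF
      have h1 : herm q C.e a' = 0 := (herm_bas_tail C.D.hF C.lt0 ha'W).2
      rw [d1, herm_add_left, herm_smul_left, herm_smul_left, h1, mul_zero, zero_add] at hperp
      exact (mul_eq_zero.mp hperp).resolve_left hb
    have ha'2 : a' ∈ supp (tailT n (C.k + 1 + 1)) := by
      have h3 := offPart_mem C.lt1.le ha'W
      rwa [offPart_eq' C.D.hF C.lt1.le, show herm q a' (bas F n (C.k + 1)) = 0 from hae, zero_smul,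
        sub_zero] at h3
    obtain ⟨g2, hg2, hg2e⟩ := C.D.exists_tail_lift C.lt2 C.good2 ha'2 ha'1
    obtain ⟨t, ht, hte⟩ := C.D.exists_plane_lift C.lt1
      (bas_mem_pair C.le2 (Or.inr rfl)) (bas_unit C.D.hF C.le2)
    have hg21 : g2 ∈ C.L1 := C.D.Lk_antitone (Nat.le_succ _) hg2
    have ea : C.gA a = QuotientGroup.mk (g * g2 * t * C.wh) :=
      C.gA_eq ha.unit (C.unitW_isA ha) (mul_mem (mul_mem hg hg21) (C.GU1_le ht)) C.wh_mem (by
        rw [Prod.snd_mul, Prod.snd_mul, Prod.snd_mul, app_mul, app_mul, app_mul, C.wh_e,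
          show app t.2 C.e1 = C.e2 from hte, show app g2.2 C.e2 = a' from hg2e, ha', app_app_inv])
    have ev : C.gA v = QuotientGroup.mk (g * g2 * s) :=
      C.gA_eq hv hA (mul_mem hg hg21) hs (by
        rw [mul_assoc, ← (C.L2_comm hg2 hs).eq, ← mul_assoc, Prod.snd_mul, app_mul,
          C.L1_fix hg21, he])
    have base : C.Adj (QuotientGroup.mk s) (QuotientGroup.mk (t * C.wh)) := by
      have h3 := C.adj_P01 (x := s * t) (y := t * C.wh)
        (mul_mem (Subgroup.mem_sup_left hs) (Subgroup.mem_sup_right ht))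
        (mul_mem (Subgroup.mem_sup_right ht) C.wh_mem_P01)
        (by rw [Prod.snd_mul, Prod.snd_mul, app_mul, app_mul, C.wh_e,
          show app t.2 C.e1 = C.e2 from hte, C.GU0_fix_e2 hs])
      rwa [C.mk_mul_L1 _ (C.GU1_le ht)] at h3
    have h4 := base.smul (C.L1_le (mul_mem hg hg21))
    rw [MulAction.Quotient.smul_coe, MulAction.Quotient.smul_coe, smul_eq_mul, smul_eq_mul] at h4
    rw [ea, ev, mul_assoc (g * g2) t C.wh]
    exact h4

theorem edge_witness {u u' a : Fin (n + 1) → F} (hu : C.Unit' u) (hA : PData.IsA n C.k q u)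
    (hu' : C.Unit' u') (hA' : PData.IsA n C.k q u') (ha : C.UnitW a) (h : herm q u a = 0)
    (h' : herm q u' a = 0) (huu : herm q u' u = 0) : C.Adj (C.gA u) (C.gA u') :=
  C.adj_tri (C.adj_symm (C.edge_W hu hA ha h)) (C.adj_symm (C.edge_W hu' hA' ha h'))
    (by rw [C.gA_prj hu' hA', C.gA_prj hu hA]; exact huu)

/-- Two neighbours give the same lift of a unit. -/
def Link (v u u' : Fin (n + 1) → F) : Prop :=
  ∀ c, C.Adj (C.gA u) c → C.prj c = v → C.Adj (C.gA u') c

theorem link_of_edge {v u u' : Fin (n + 1) → F} (hu' : C.Unit' u')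
    (hA' : PData.IsA n C.k q u') (he : C.Adj (C.gA u) (C.gA u')) (h : herm q v u' = 0) :
    C.Link v u u' := fun c hc hp =>
  C.adj_tri he hc (by rw [hp, C.gA_prj hu' hA']; exact h)

theorem Link.trans {C : Ctx F q n H} {v a b c : Fin (n + 1) → F} (h1 : C.Link v a b)
    (h2 : C.Link v b c) : C.Link v a c := fun d hd hp => h2 d (h1 d hd hp) hp

/-- A unit of the smaller space orthogonal to a given unit. -/
def Good' (v a : Fin (n + 1) → F) : Prop := C.UnitW a ∧ herm q a v = 0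

theorem herm_W {v a : Fin (n + 1) → F} (hv : v ∈ supp (tailT n C.k))
    (ha : a ∈ supp (tailT n (C.k + 1))) : herm q a v = herm q a (offPart n C.k v) := by
  conv_lhs => rw [herm_decomp C.D.hF C.lt0 (supp_mono (tailT_antitone C.k.le_succ) ha) hv]
  rw [(herm_bas_tail C.D.hF C.lt0 ha).1, zero_mul, zero_add, offPart_eq' C.D.hF C.lt0.le a,
    (herm_bas_tail C.D.hF C.lt0 ha).1, zero_smul, sub_zero]

theorem link_generic {v a a' : Fin (n + 1) → F} (hv : C.Unit' v)
    (hw : herm q (offPart n C.k v) (offPart n C.k v) = 0) (ha : C.Good' v a) (ha' : C.Good' v a')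
    {y : Fin (n + 1) → F} (hy : C.UnitW y) (hya : herm q y a = 0) (hya' : herm q y a' = 0) :
    C.Link v a a' := by
  have hwa : ∀ b, C.Good' v b → herm q (offPart n C.k v) b = 0 := fun b hb =>
    herm_comm_zero C.D.hF (by rw [← C.herm_W hv.1 hb.1.1]; exact hb.2)
  obtain ⟨u, hu, hu1, huv, huP, huA⟩ := exists_generic_perp C.D.hF C.lt0 C.D.hq hv.1 hv.2 hw
    {a, a'} (fun p hp => by
      rcases Finset.mem_insert.mp hp with h | h
      · rw [h]; exact hwa a ha
      · rw [Finset.mem_singleton.mp h]; exact hwa a' ha')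
    (fun p hp => by
      rcases Finset.mem_insert.mp hp with h | h
      · rw [h]; exact ha.1.1
      · rw [Finset.mem_singleton.mp h]; exact ha'.1.1)
    hy.1 (by rw [hy.2]; exact one_ne_zero) (fun p hp => by
      rcases Finset.mem_insert.mp hp with h | h
      · rw [h]; exact hya
      · rw [Finset.mem_singleton.mp h]; exact hya')
  have h1 : herm q u a = 0 := huP a (Finset.mem_insert_self _ _)
  have h2 : herm q u a' = 0 := huP a' (Finset.mem_insert_of_mem (Finset.mem_singleton_self _))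
  have hU : C.Unit' u := ⟨hu, hu1⟩
  exact (C.link_of_edge hU (Or.inr huA) (C.adj_symm (C.edge_W hU (Or.inr huA) ha.1 h1))
    (herm_comm_zero C.D.hF huv)).trans
    (C.link_of_edge ha'.1.unit (C.unitW_isA ha'.1) (C.edge_W hU (Or.inr huA) ha'.1 h2)
      (herm_comm_zero C.D.hF ha'.2))

theorem unit_e : C.Unit' C.e := ⟨bas_mem_tail C.lt0.le le_rfl, bas_unit C.D.hF C.lt0.le⟩

theorem e_isA : PData.IsA n C.k q C.e :=
  Or.inl (by
    rw [offPart_eq' C.D.hF C.lt0.le, bas_unit C.D.hF C.lt0.le, one_smul, sub_self])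

theorem unit_app {x : H × Sug (n + 1) F q} (hx : x ∈ C.L0) {v : Fin (n + 1) → F}
    (hv : C.Unit' v) : C.Unit' (app x.2 v) :=
  ⟨app_mem_supp C.D.hF (C.D.snd_mem hx) hv.1, by rw [app_herm]; exact hv.2⟩

/-- Two neighbours of a generic vertex give the same lift of a unit on a nondegenerate line with
it. -/
theorem adj_square {c c1 c2 c3 : C.Q} (h1 : C.Adj c c1) (h3 : C.Adj c c3) (h12 : C.Adj c1 c2)
    (hU : C.Unit' (C.prj c2)) (hp : herm q (C.prj c2) (C.prj c3) = 0)
    (hn : herm q (C.prj c2) (C.prj c) ^ (q + 1) ≠ 1) : C.Adj c3 c2 := by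
  obtain ⟨x, hx, hcx, hc1⟩ := h1
  have hxe : app x.2 C.e = C.prj c := by rw [hcx, prj_mk]
  have hxi : x⁻¹ ∈ C.L0 := inv_mem hx
  have hback : x⁻¹ • c = QuotientGroup.mk 1 := by
    rw [hcx, MulAction.Quotient.smul_coe, smul_eq_mul, inv_mul_cancel]
  -- neighbours of the base vertex are the standard ones
  have nb : ∀ d, C.Adj c d → C.UnitW (C.prj (x⁻¹ • d)) ∧ x⁻¹ • d = C.gA (C.prj (x⁻¹ • d)) := by
    intro d hd
    have hd' := hd.smul hxi
    rw [hback] at hd'
    set a := C.prj (x⁻¹ • d) with ha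
    obtain ⟨y, hy, hy1, hy2⟩ := hd'
    have hW : C.UnitW a := by
      have hye : app y.2 C.e = C.e := by rw [← prj_mk, ← hy1, prj_mk]; rfl
      have hmem : a ∈ supp (tailT n C.k) ∧ herm q a a = 1 ∧ herm q a C.e = 0 := by
        rw [ha, hy2, prj_mk, Prod.snd_mul, app_mul, C.wh_e]
        refine ⟨app_mem_supp C.D.hF (C.D.snd_mem hy) (bas_mem_tail C.lt1.le C.k.le_succ),
          by rw [app_herm]; exact bas_unit C.D.hF C.lt1.le, ?_⟩
        conv_lhs => arg 3; rw [← hye]
        rw [app_herm]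
        exact (herm_bas_tail C.D.hF C.lt0 (bas_mem_tail C.lt1.le le_rfl)).1
      have h2 := offPart_mem C.lt0.le hmem.1
      rw [offPart_eq' C.D.hF C.lt0.le, show herm q a (bas F n C.k) = 0 from hmem.2.2, zero_smul,
        sub_zero] at h2
      exact ⟨h2, hmem.2.1⟩
    refine ⟨hW, C.adj_unique (c := QuotientGroup.mk 1) ⟨y, hy, hy1, hy2⟩ ?_ ?_⟩
    · rw [← one_mul (1 : H × Sug (n + 1) F q),
        ← C.gA_eq C.unit_e C.e_isA (one_mem _) (one_mem _) (by simp)]
      exact C.edge_W C.unit_e C.e_isA hW (herm_bas_tail C.D.hF C.lt0 hW.1).2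
    · rw [C.gA_prj hW.unit (C.unitW_isA hW)]
  obtain ⟨hW1, e1⟩ := nb c1 ⟨x, hx, hcx, hc1⟩
  obtain ⟨hW3, e3⟩ := nb c3 h3
  set u0 := C.prj (x⁻¹ • c2) with hu0
  have hu0eq : u0 = app x.2⁻¹ (C.prj c2) := by rw [hu0, C.prj_smul, Prod.snd_inv]
  have hU0 : C.Unit' u0 := by rw [hu0eq]; exact C.unit_app hxi hU
  have hA0 : PData.IsA n C.k q u0 := by
    refine Or.inr fun h0 => hn ?_
    have hd := herm_decomp C.D.hF C.lt0 hU0.1 hU0.1
    rw [hU0.2, h0, add_zero, ← pow_succ'] at hd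
    rw [← app_herm x.2⁻¹, ← hxe, app_inv_app, ← hu0eq]
    exact hd.symm
  have hperp3 : herm q u0 (C.prj (x⁻¹ • c3)) = 0 := by
    rw [hu0eq, C.prj_smul, Prod.snd_inv, app_herm]; exact hp
  have hperp1 : herm q u0 (C.prj (x⁻¹ • c1)) = 0 := by
    obtain ⟨y, -, rfl, rfl⟩ := h12
    rw [hu0eq, C.prj_smul, Prod.snd_inv, app_herm, prj_mk, prj_mk, Prod.snd_mul, app_mul, C.wh_e,
      app_herm]
    exact (herm_bas_tail C.D.hF C.lt0 (bas_mem_tail C.lt1.le le_rfl)).1
  have hd2 : x⁻¹ • c2 = C.gA u0 :=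
    C.adj_unique (c := x⁻¹ • c1) (h12.smul hxi)
      (e1 ▸ C.adj_symm (C.edge_W hU0 hA0 hW1 hperp1)) (by rw [C.gA_prj hU0 hA0])
  have hfin := (C.adj_symm (C.edge_W hU0 hA0 hW3 hperp3)).smul hx
  rw [← e3, ← hd2, smul_inv_smul, smul_inv_smul] at hfin
  exact hfin

theorem link_step {v a : Fin (n + 1) → F} (hv : C.Unit' v)
    (hw : herm q (offPart n C.k v) (offPart n C.k v) = 0) (hw0 : offPart n C.k v ≠ 0)
    (hq : 4 ≤ q) (ha : C.Good' v a) {μ : F} (hμ : μ ^ (q + 1) = 1) :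
    C.Link v a (a + μ • offPart n C.k v) := by
  set w := offPart n C.k v with hwdef
  have hF := C.D.hF
  have hwW : w ∈ supp (tailT n (C.k + 1)) := offPart_mem C.lt0.le hv.1
  have haw : herm q a w = 0 := by rw [← C.herm_W hv.1 ha.1.1]; exact ha.2
  have hwa : herm q w a = 0 := herm_comm_zero hF haw
  -- suitable values
  obtain ⟨D, c, hD, hc, hD0, hD1, hc1, hc2, hc3⟩ : ∃ D c : F, D ^ q = D ∧ c ^ q = c ∧ D ≠ 0 ∧
      D ≠ 1 ∧ (1 + c) * (1 + c) ≠ D - D * D ∧ c * c ≠ D - D * D ∧ 1 + (c + c) ≠ 0 := by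
    obtain ⟨t, ht, ht0, hts⟩ := exists_fixed_avoid hF {1} (by rw [Finset.card_singleton]; omega)
    rw [Finset.mem_singleton] at hts
    by_cases hr : ∃ r : F, r * r - r + 1 = 0
    · obtain ⟨r, hr⟩ := hr
      by_cases h5 : 5 ≤ q
      · obtain ⟨t, ht, ht0, hts⟩ := exists_fixed_avoid hF {1, r, 1 - r} (by
          have := Finset.card_le_three (a := (1 : F)) (b := r) (c := 1 - r)
          omega)
        simp only [Finset.mem_insert, Finset.mem_singleton, not_or] at hts
        refine ⟨t, 0, ht, zero_pow hF.q_ne_zero, ht0, hts.1, fun e => ?_, fun e => ?_, by simp⟩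
        · have h1 : (t - r) * (t - (1 - r)) = 0 := by linear_combination e - hr
          rcases mul_eq_zero.mp h1 with h2 | h2
          · exact hts.2.1 (sub_eq_zero.mp h2)
          · exact hts.2.2 (sub_eq_zero.mp h2)
        · have h1 : t * (t - 1) = 0 := by linear_combination e
          rcases mul_eq_zero.mp h1 with h2 | h2
          · exact ht0 h2
          · exact hts.1 (sub_eq_zero.mp h2)
      · -- four elements
        have h4 : q = 4 := by omega
        obtain ⟨p, k, hp, hcp, hpk⟩ := hF.exists_char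
        have hp2 : p = 2 := by
          rw [h4] at hpk
          have h : p ∣ 2 ^ 2 := by
            show p ∣ 4
            rw [hpk]
            refine dvd_pow_self p ?_
            rintro rfl
            simp at hpk
          exact (Nat.prime_dvd_prime_iff_eq hp Nat.prime_two).1 (hp.dvd_of_dvd_pow h)
        subst hp2
        have h2 : (2 : F) = 0 := CharP.cast_eq_zero F 2
        have ht3 : t ^ 3 = 1 := by
          have := (hF.fixed_iff ht0).1 ht
          rwa [show q - 1 = 3 by omega] at this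
        have h3 : t * t + t + 1 = 0 := by
          have h : (t - 1) * (t * t + t + 1) = 0 := by linear_combination ht3
          exact (mul_eq_zero.mp h).resolve_left (sub_ne_zero.mpr hts)
        refine ⟨t, t, ht, ht, ht0, hts, fun e => ht0 ?_, fun e => ht0 ?_, ?_⟩
        · exact mul_self_eq_zero.1 (by linear_combination e - h3)
        · linear_combination t * t * h2 - e
        · rw [show (1 : F) + (t + t) = 1 by linear_combination t * h2]
          exact one_ne_zero
    · refine ⟨t, 0, ht, zero_pow hF.q_ne_zero, ht0, hts, fun e => hr ⟨t, ?_⟩, fun e => ?_, by simp⟩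
      · linear_combination e
      · have h1 : t * (t - 1) = 0 := by linear_combination e
        rcases mul_eq_zero.mp h1 with h2 | h2
        · exact ht0 h2
        · exact hts (sub_eq_zero.mp h2)
  obtain ⟨δ, hδ⟩ := hF.exists_norm hD
  rw [pow_succ'] at hδ hμ
  have hδ0 : δ ≠ 0 := by rintro rfl; simp at hδ; exact hD0 hδ.symm
  obtain ⟨y, hyW, hya, hyw, hyy⟩ := exists_prescribed hF (isON_singleton hF ha.1.2)
    (fun p hp => by rw [Finset.mem_singleton.mp hp]; exact ha.1.1) hwW hw0 hw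
    (fun p hp => by rw [Finset.mem_singleton.mp hp]; exact hwa) hδ0
    (t := 1 - D) (by rw [hF.sub_pow, one_pow, hD])
  replace hya : herm q y a = 0 := hya a (Finset.mem_singleton_self a)
  have hay : herm q a y = 0 := herm_comm_zero hF hya
  have hwy : herm q w y = δ ^ q := by rw [← hF.herm_symm, hyw]
  set x := herm q v (bas F n C.k) with hxdef
  have hxx : x * x ^ q = 1 := by
    have h1 := herm_decomp hF C.lt0 hv.1 hv.1
    rw [hv.2, hw, add_zero] at h1
    exact h1.symm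
  set Y := (-(μ ^ q * δ)) • a + y + (c / δ ^ q) • w with hY
  have hYW : Y ∈ supp (tailT n (C.k + 1)) :=
    (supp _).add_mem ((supp _).add_mem ((supp _).smul_mem _ ha.1.1) hyW) ((supp _).smul_mem _ hwW)
  have hYw : herm q Y w = δ := by
    simp only [hY, herm_add_left, herm_smul_left, hyw, haw, hw]; ring
  have hYa : herm q Y a = -(μ ^ q * δ) := by
    simp only [hY, herm_add_left, herm_smul_left, hya, hwa, ha.1.2]; ring
  have hYy : herm q Y y = 1 - D + c := by
    simp only [hY, herm_add_left, herm_smul_left, hyy, hay, hwy]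
    rw [div_mul_cancel₀ _ (pow_ne_zero _ hδ0)]
    ring
  have hYY : herm q Y Y = 1 + (c + c) := by
    have e1 : herm q Y Y = (-(μ ^ q * δ)) ^ q * herm q Y a + herm q Y y
        + (c / δ ^ q) ^ q * herm q Y w := by
      conv_lhs => arg 3; rw [hY]
      simp only [hF.herm_add_right, herm_smul_right]
    rw [e1, hYy, hYa, hYw, hF.neg_pow, mul_pow, hF.pow_pow, div_pow, hF.pow_pow, hc,
      div_mul_cancel₀ _ hδ0]
    linear_combination (μ * μ ^ q) * hδ + D * hμ
  set γ := x * ((1 - D + c) / δ ^ q) with hγ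
  have key : ∀ (t : F) (yy : Fin (n + 1) → F), yy ∈ supp (tailT n (C.k + 1)) →
      ∀ z, z = t • bas F n C.k + yy → z ∈ supp (tailT n C.k) ∧ offPart n C.k z = yy ∧
        herm q z (bas F n C.k) = t ∧ ∀ p ∈ supp (tailT n (C.k + 1)), herm q z p = herm q yy p := by
    intro t yy hyy z hz
    have h0 := herm_bas_tail hF C.lt0 hyy
    have hzb : herm q z (bas F n C.k) = t := by
      rw [hz, herm_add_left, herm_smul_left, bas_unit hF C.lt0.le, h0.1, add_zero, mul_one]
    refine ⟨hz ▸ (supp _).add_mem ((supp _).smul_mem _ (bas_mem_tail C.lt0.le le_rfl))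
        (supp_mono (tailT_antitone C.k.le_succ) hyy), ?_, hzb, fun p hp => ?_⟩
    · rw [offPart_eq' hF C.lt0.le, hzb, hz, add_sub_cancel_left]
    · rw [hz, herm_add_left, herm_smul_left, (herm_bas_tail hF C.lt0 hp).2, mul_zero, zero_add]
  obtain ⟨hzm, hzo, hzb, hzp⟩ := key (-(x * δ)) y hyW _ rfl
  obtain ⟨hum, huo, hub, hup⟩ := key γ Y hYW _ rfl
  set z := (-(x * δ)) • bas F n C.k + y with hzdef
  set u := γ • bas F n C.k + Y with hudef
  have hzU : C.Unit' z := ⟨hzm, by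
    rw [herm_decomp hF C.lt0 hzm hzm, hzo, hzb, hyy, hF.neg_pow, mul_pow]
    linear_combination δ * δ ^ q * hxx + hδ⟩
  have hzA : PData.IsA n C.k q z :=
    Or.inr (by rw [hzo, hyy]; exact sub_ne_zero.mpr (Ne.symm hD1))
  have hzv : herm q z v = 0 := by
    rw [herm_decomp hF C.lt0 hzm hv.1, hzo, hzb, ← hxdef, ← hwdef, hyw]
    linear_combination (-δ) * hxx
  have hdq : δ ^ q ≠ 0 := pow_ne_zero _ hδ0
  have huv : herm q u v = (1 + c) / δ ^ q := by
    rw [herm_decomp hF C.lt0 hum hv.1, huo, hub, hYw, ← hxdef, hγ]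
    field_simp
    linear_combination (1 - D + c) * hxx + hδ
  have huz : herm q u z = 0 := by
    rw [herm_decomp hF C.lt0 hum hzm, huo, hzo, hub, hzb, hYy, hγ, hF.neg_pow, mul_pow]
    field_simp
    linear_combination (-(1 - D + c)) * hxx
  have huu : herm q u u = ((1 + c) * (1 + c) - (D - D * D)) / D := by
    rw [herm_decomp hF C.lt0 hum hum, huo, hub, hYY, hγ, mul_pow, div_pow, hF.pow_pow, hF.add_pow,
      hF.sub_pow, one_pow, hD, hc]
    field_simp
    linear_combination D * (1 - D + c) * (1 - D + c) * hxx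
      + (-((1 + c) * (1 + c) - (D - D * D))) * hδ + D * (1 + (c + c)) * hδ
  have huu0 : herm q u u ≠ 0 := by
    rw [huu]; exact div_ne_zero (sub_ne_zero.mpr hc1) hD0
  obtain ⟨s, hs, hs1⟩ := exists_scale hF huu0
  set u' := s • u with hu'def
  have hu'U : C.Unit' u' := ⟨(supp _).smul_mem s hum, hs1⟩
  have hu'o : offPart n C.k u' = s • Y := by
    rw [offPart_eq' hF C.lt0.le, hu'def, herm_smul_left, ← smul_smul, ← smul_sub, hub,
      hudef, add_sub_cancel_left]
  have hu'A : PData.IsA n C.k q u' := Or.inr (by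
    rw [hu'o, herm_smul_left, herm_smul_right, hYY]
    exact mul_ne_zero hs (mul_ne_zero (pow_ne_zero _ hs) hc3))
  obtain ⟨p, hp, hp1, hpY, hpy⟩ := exists_unit_perp_pair hF (T := tailT n (C.k + 1))
    (by rw [card_tailT _ C.lt1.le]; have := C.hk; omega) hYW hyW
    (by rw [hyy]; exact sub_ne_zero.mpr (Ne.symm hD1)) (by
      rw [hYY, hyy, ← hF.herm_symm Y y, hYy, hF.add_pow, hF.sub_pow, one_pow, hD, hc]
      intro e
      exact hc2 (by linear_combination -e))
  set b := a + μ • w with hb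
  have hbG : C.UnitW b := ⟨(supp _).add_mem ha.1.1 ((supp _).smul_mem _ hwW), by
    simp only [hb, herm_add_left, hF.herm_add_right, herm_smul_left, herm_smul_right, haw, hwa,
      hw, ha.1.2, mul_zero, add_zero]⟩
  have hbv : herm q b v = 0 := by
    rw [hb, herm_add_left, herm_smul_left, ha.2, C.herm_W hv.1 hwW, hw, mul_zero, add_zero]
  have hub' : herm q u' b = 0 := by
    rw [hu'def, herm_smul_left, hup b hbG.1, hb, hF.herm_add_right, herm_smul_right, hYa, hYw]
    ring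
  have hu'z : herm q u' z = 0 := by rw [hu'def, herm_smul_left, huz, mul_zero]
  have e1 : C.Adj (C.gA a) (C.gA z) :=
    C.adj_symm (C.edge_W hzU hzA ha.1 (by rw [hzp a ha.1.1, hya]))
  have e2 : C.Adj (C.gA u') (C.gA z) := C.adj_symm
    (C.edge_witness hzU hzA hu'U hu'A ⟨hp, hp1⟩
      (by rw [hzp p hp]; exact herm_comm_zero hF hpy)
      (by rw [hu'def, herm_smul_left, hup p hp, herm_comm_zero hF hpY, mul_zero]) hu'z)
  have e3 : C.Adj (C.gA u') (C.gA b) := C.edge_W hu'U hu'A hbG hub'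
  refine (C.link_of_edge hzU hzA e1 (herm_comm_zero hF hzv)).trans fun d hd hp' => ?_
  refine C.adj_square e2 e3 hd (hp'.symm ▸ hv)
    (by rw [hp', C.gA_prj hbG.unit (C.unitW_isA hbG)]; exact herm_comm_zero hF hbv) ?_
  rw [hp', C.gA_prj hu'U hu'A, hu'def, herm_smul_right, ← hF.herm_symm u v, huv]
  intro hN
  have hs1' := hs1
  rw [hu'def, herm_smul_left, herm_smul_right, huu] at hs1'
  simp only [pow_succ', mul_pow, div_pow, hF.pow_pow, hF.add_pow, one_pow, hc] at hN hs1'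
  field_simp at hN hs1'
  have h0 : (s ^ q * s) * (D * (D - 1)) = 0 := by
    linear_combination hs1' - hN - hδ
  exact mul_ne_zero (mul_ne_zero (pow_ne_zero _ hs) hs) (mul_ne_zero hD0 (sub_ne_zero.mpr hD1)) h0

end Ctx

end

end Cfsg.Agent.PhanSU
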