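import Cfsg.Agent.PhanSU.CoverThree

/-!
The induction step, concluded: the section of the coset graph is equivariant.
-/

set_option autoImplicit false
set_option linter.style.haveILetI false

open scoped Classical

namespace Cfsg.Agent.PhanSU

open Cfsg.Agent.Classical.U

universe u v

noncomputable section

variable {F : Type u} [Field F] {n q : ℕ} {H : Type v} [Group H]

namespace Ctx

variable (C : Ctx F q n H)

theorem link_all {v a a' : Fin (n + 1) → F} (hv : C.Unit' v)
    (hnA : ¬ PData.IsA n C.k q v) (ha : C.Good' v a) (ha' : C.Good' v a') : C.Link v a a' := by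
  rw [PData.IsA, not_or, not_not] at hnA
  obtain ⟨hw0, hw⟩ := hnA
  have hF := C.D.hF
  have hcardW : (tailT n (C.k + 1)).card = n - C.k := by
    rw [card_tailT _ C.lt1.le]; omega
  have hON := isON_singleton hF ha.1.2
  have hPT : ∀ p ∈ ({a} : Finset (Fin (n + 1) → F)), p ∈ supp (tailT n (C.k + 1)) :=
    fun p hp => by rw [Finset.mem_singleton.mp hp]; exact ha.1.1
  by_cases hbig : C.k + 4 ≤ n
  · obtain ⟨y, hy, hy1, hyP, hya'⟩ := exists_unit_perp_two hF hON hPT ha'.1.1
      (by rw [Finset.card_singleton, hcardW]; omega)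
    exact C.link_generic hv hw ha ha' ⟨hy, hy1⟩ (hyP a (Finset.mem_singleton_self a)) hya'
  have hsmall := C.big.resolve_left hbig
  set w := offPart n C.k v with hwdef
  have hwW : w ∈ supp (tailT n (C.k + 1)) := offPart_mem C.lt0.le hv.1
  have haw : ∀ b, C.Good' v b → herm q b w = 0 := fun b hb => by
    rw [← C.herm_W hv.1 hb.1.1]; exact hb.2
  set ρ := proj q {a} a' with hρ
  by_cases hres : ρ = 0 ∨ herm q ρ ρ ≠ 0
  · obtain ⟨y, hy, hy1, hyP, hya'⟩ := exists_unit_perp_one hF hON hPT ha'.1.1 hres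
      (by rw [Finset.card_singleton, hcardW]; have := C.hk; omega)
    exact C.link_generic hv hw ha ha' ⟨hy, hy1⟩ (hyP a (Finset.mem_singleton_self a)) hya'
  push Not at hres
  set lam := herm q a' a with hlam
  have hρe : ρ = a' - lam • a := by rw [hρ, proj, Finset.sum_singleton]
  have hρa : herm q ρ a = 0 := proj_perp hON _ (Finset.mem_singleton_self a)
  have hρw : herm q ρ w = 0 := by
    rw [hρe, herm_sub_left, herm_smul_left, haw a' ha', haw a ha, mul_zero, sub_zero]
  obtain ⟨y, hyW, hyP, hyw, hy1⟩ := exists_prescribed hF hON hPT hwW hw0 hw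
    (fun p hp => by rw [Finset.mem_singleton.mp hp]; exact herm_comm_zero hF (haw a ha))
    one_ne_zero (one_pow q)
  have hya := hyP a (Finset.mem_singleton_self a)
  have hwy : herm q w y = 1 := by rw [← hF.herm_symm, hyw, one_pow]
  have hne : herm q (w - y) (w - y) ≠ 0 := by
    rw [herm_sub_left, hF.herm_sub_right, hF.herm_sub_right, hw, hyw, hwy, hy1]
    norm_num
  obtain ⟨c, hc, hc1⟩ := exists_scale hF hne
  have hON2 := isON_insert hF hON hy1 hyP
  have hperp2 : ∀ p ∈ insert y ({a} : Finset (Fin (n + 1) → F)),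
      herm q (c • (w - y)) p = 0 := fun p hp => by
    rw [herm_smul_left, herm_sub_left]
    rcases Finset.mem_insert.mp hp with h | h
    · rw [h, hwy, hy1, sub_self, mul_zero]
    · rw [Finset.mem_singleton.mp h, herm_comm_zero hF (haw a ha), hya, sub_self, mul_zero]
  have hON3 := isON_insert hF hON2 hc1 hperp2
  set P3 := insert (c • (w - y)) (insert y ({a} : Finset (Fin (n + 1) → F))) with hP3
  have hcard3 : P3.card = 3 := by
    have h1 : y ∉ ({a} : Finset (Fin (n + 1) → F)) := fun h => by
      rw [Finset.mem_singleton] at h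
      rw [h, ha.1.2] at hya
      exact one_ne_zero hya
    have h2 : c • (w - y) ∉ insert y ({a} : Finset (Fin (n + 1) → F)) := fun h => by
      have := hperp2 _ h
      rw [hc1] at this
      exact one_ne_zero this
    rw [hP3, Finset.card_insert_of_notMem h2, Finset.card_insert_of_notMem h1,
      Finset.card_singleton]
  set μ := herm q ρ y with hμ
  have hr0 : ρ - μ • w = 0 := by
    refine eq_zero_of_full hF hON3 (T := tailT n (C.k + 1)) (fun p hp => ?_)
      (by rw [hcardW, hcard3]; omega)
      (sub_mem (proj_mem hPT ha'.1.1) (Submodule.smul_mem _ _ hwW)) (fun p hp => ?_)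
    · rcases Finset.mem_insert.mp hp with h | h
      · rw [h]; exact Submodule.smul_mem _ _ (sub_mem hwW hyW)
      rcases Finset.mem_insert.mp h with h | h
      · rw [h]; exact hyW
      · exact hPT p h
    · rw [herm_sub_left, herm_smul_left]
      rcases Finset.mem_insert.mp hp with h | h
      · rw [h, herm_smul_right, herm_smul_right, hF.herm_sub_right, hF.herm_sub_right, hρw, hw,
          hwy]
        ring
      rcases Finset.mem_insert.mp h with h | h
      · rw [h, hwy, mul_one, sub_self]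
      · rw [Finset.mem_singleton.mp h, hρa, herm_comm_zero hF (haw a ha), mul_zero, sub_zero]
  rw [sub_eq_zero] at hr0
  have ha'eq : a' = lam • a + μ • w := by rw [← hr0, hρe, add_sub_cancel]
  have hlaG : C.Good' v (lam • a) := by
    refine ⟨⟨(supp _).smul_mem _ ha.1.1, ?_⟩, by rw [herm_smul_left, ha.2, mul_zero]⟩
    have h1 := ha'.1.2
    rw [ha'eq] at h1
    simp only [herm_add_left, hF.herm_add_right, herm_smul_left, herm_smul_right, haw a ha,
      herm_comm_zero hF (haw a ha), hw, mul_zero, add_zero] at h1 ⊢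
    exact h1
  have h1 : C.Link v a (lam • a) := by
    obtain ⟨y', hy', hy'1, hy'P⟩ := exists_unit_perp hF hON hPT
      (by rw [Finset.card_singleton, hcardW]; have := C.hk; omega)
    have hy'a := hy'P a (Finset.mem_singleton_self a)
    exact C.link_generic hv hw ha hlaG ⟨hy', hy'1⟩ hy'a (by rw [herm_smul_right, hy'a, mul_zero])
  have hclos : ∀ ν ∈ AddSubgroup.closure {z : F | z ^ (q + 1) = 1},
      ∀ b, C.Good' v b → C.Good' v (b + ν • w) ∧ C.Link v b (b + ν • w) := by
    have hG : ∀ (ν : F) b, C.Good' v b → C.Good' v (b + ν • w) := fun ν b hb => by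
      refine ⟨⟨(supp _).add_mem hb.1.1 ((supp _).smul_mem _ hwW), ?_⟩, ?_⟩
      · simp only [herm_add_left, hF.herm_add_right, herm_smul_left, herm_smul_right, haw b hb,
          herm_comm_zero hF (haw b hb), hw, hb.1.2, mul_zero, add_zero]
      · rw [herm_add_left, herm_smul_left, hb.2, C.herm_W hv.1 hwW, hw, mul_zero, add_zero]
    intro ν hν
    refine AddSubgroup.closure_induction'' (p := fun ν _ => ∀ b, C.Good' v b →
      C.Good' v (b + ν • w) ∧ C.Link v b (b + ν • w)) ?_ ?_ ?_ ?_ hν
    · intro z hz b hb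
      exact ⟨hG z b hb, hsmall.elim (fun hq => C.link_step hv hw hw0 hq hb hz)
        (fun h3 => C.link_step_three hv hw hw0 h3.1 h3.2 hb hz)⟩
    · intro z hz b hb
      have hnz : (-z) ^ (q + 1) = 1 := by
        rw [pow_succ, hF.neg_pow, neg_mul_neg, ← pow_succ]; exact hz
      exact ⟨hG _ b hb, hsmall.elim (fun hq => C.link_step hv hw hw0 hq hb hnz)
        (fun h3 => C.link_step_three hv hw hw0 h3.1 h3.2 hb hnz)⟩
    · intro b hb
      rw [zero_smul, add_zero]
      exact ⟨hb, fun c hc _ => hc⟩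
    · intro x y _ _ hx hy b hb
      obtain ⟨g1, l1⟩ := hx b hb
      obtain ⟨g2, l2⟩ := hy _ g1
      rw [add_smul, ← add_assoc]
      exact ⟨g2, l1.trans l2⟩
  rw [ha'eq]
  exact h1.trans (hclos μ (mem_addClosure_norm_one hF μ) _ hlaG).2

theorem exists_good {v : Fin (n + 1) → F} (hv : C.Unit' v) : ∃ a, C.Good' v a := by
  obtain ⟨y, hy, hy1, -, hyx⟩ := exists_unit_perp_two C.D.hF (isON_empty C.D.hF)
    (T := tailT n (C.k + 1)) (fun p hp => absurd hp (Finset.notMem_empty p))
    (offPart_mem C.lt0.le hv.1)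
    (by rw [Finset.card_empty, card_tailT _ C.lt1.le]; have := C.hk; omega)
  exact ⟨y, ⟨hy, hy1⟩, (C.herm_W hv.1 hy).trans hyx⟩

theorem exists_lift {v : Fin (n + 1) → F} (hv : C.Unit' v) :
    ∃ c, C.Adj (C.gA (Classical.choose (C.exists_good hv))) c ∧ C.prj c = v := by
  obtain ⟨ha, hav⟩ := Classical.choose_spec (C.exists_good hv)
  obtain ⟨a2, ha2, ha2v⟩ := C.exists_good ha.unit
  exact C.adj_exists (C.edge_W ha.unit (C.unitW_isA ha) ha2 (herm_comm_zero C.D.hF ha2v)) hv
    (by rw [C.gA_prj ha.unit (C.unitW_isA ha)]; exact herm_comm_zero C.D.hF hav)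

/-- The coset attached to a unit. -/
def gam (v : Fin (n + 1) → F) : C.Q :=
  if PData.IsA n C.k q v then C.gA v
  else if h : C.Unit' v then Classical.choose (C.exists_lift h) else QuotientGroup.mk 1

theorem gam_A {v : Fin (n + 1) → F} (h : PData.IsA n C.k q v) : C.gam v = C.gA v := if_pos h

theorem gam_prj {v : Fin (n + 1) → F} (hv : C.Unit' v) : C.prj (C.gam v) = v := by
  by_cases h : PData.IsA n C.k q v
  · rw [C.gam_A h, C.gA_prj hv h]
  · rw [gam, if_neg h, dif_pos hv]
    exact (Classical.choose_spec (C.exists_lift hv)).2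

theorem edge_good {v a : Fin (n + 1) → F} (hv : C.Unit' v) (ha : C.Good' v a) :
    C.Adj (C.gam v) (C.gA a) := by
  by_cases h : PData.IsA n C.k q v
  · rw [C.gam_A h]; exact C.edge_W hv h ha.1 (herm_comm_zero C.D.hF ha.2)
  · rw [gam, if_neg h, dif_pos hv]
    obtain ⟨h1, h2⟩ := Classical.choose_spec (C.exists_lift hv)
    exact C.adj_symm
      (C.link_all hv h (Classical.choose_spec (C.exists_good hv)) ha _ h1 h2)

theorem edge_AB {u v : Fin (n + 1) → F} (hu : C.Unit' u) (hA : PData.IsA n C.k q u)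
    (hv : C.Unit' v) (hnA : ¬ PData.IsA n C.k q v) (h : herm q u v = 0) :
    C.Adj (C.gam u) (C.gam v) := by
  have hF := C.D.hF
  rw [C.gam_A hA]
  rw [PData.IsA, not_or, not_not] at hnA
  obtain ⟨hw0, hw⟩ := hnA
  set w := offPart n C.k v with hwdef
  set u' := offPart n C.k u with hu'def
  have hwW : w ∈ supp (tailT n (C.k + 1)) := offPart_mem C.lt0.le hv.1
  have hu'W : u' ∈ supp (tailT n (C.k + 1)) := offPart_mem C.lt0.le hu.1
  have hdec := herm_decomp hF C.lt0 hu.1 hv.1
  rw [h, ← hwdef, ← hu'def] at hdec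
  have hx : herm q v (bas F n C.k) ≠ 0 := fun e => by
    have h1 := herm_decomp hF C.lt0 hv.1 hv.1
    rw [hv.2, hw, e, zero_mul, add_zero] at h1
    exact one_ne_zero h1
  by_cases hue : herm q u (bas F n C.k) = 0
  · have huW : C.UnitW u := by
      have h1 := offPart_mem C.lt0.le hu.1
      rw [offPart_eq' hF C.lt0.le, hue, zero_smul, sub_zero] at h1
      exact ⟨h1, hu.2⟩
    exact C.adj_symm (C.edge_good hv ⟨huW, h⟩)
  have huw : herm q u' w ≠ 0 := fun e => by
    rw [e, add_zero, eq_comm] at hdec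
    exact mul_ne_zero hue (pow_ne_zero _ hx) hdec
  have hu'0 : herm q u' u' ≠ 0 := hA.resolve_left fun e => huw (by
    rw [show u' = 0 from e, herm_zero_left])
  obtain ⟨z, hz, hz1, hzw, hzu⟩ := exists_unit_perp_pair hF (T := tailT n (C.k + 1))
    (by rw [card_tailT _ C.lt1.le]; have := C.hk; omega) hwW hu'W hu'0 (by
      rw [hw, zero_mul, zero_sub, neg_ne_zero]
      exact mul_ne_zero (fun e => huw (herm_comm_zero hF e)) huw)
  have hzv : C.Good' v z := ⟨⟨hz, hz1⟩, by rw [C.herm_W hv.1 hz]; exact hzw⟩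
  have hzu' : herm q u z = 0 := herm_comm_zero hF (by rw [C.herm_W hu.1 hz]; exact hzu)
  exact C.adj_tri (C.adj_symm (C.edge_W hu hA ⟨hz, hz1⟩ hzu'))
    (C.adj_symm (C.edge_good hv hzv))
    (by rw [C.gam_prj hv, C.gA_prj hu hA]; exact herm_comm_zero hF h)

theorem edge {v v' : Fin (n + 1) → F} (hv : C.Unit' v) (hv' : C.Unit' v')
    (h : herm q v v' = 0) : C.Adj (C.gam v) (C.gam v') := by
  have hF := C.D.hF
  have h' := herm_comm_zero hF h
  by_cases hA : PData.IsA n C.k q v <;> by_cases hA' : PData.IsA n C.k q v'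
  rotate_left
  · exact C.edge_AB hv hA hv' hA' h
  · exact C.adj_symm (C.edge_AB hv' hA' hv hA h')
  all_goals
    have hON : IsON q ({v, v'} : Finset (Fin (n + 1) → F)) :=
      isON_insert hF (isON_singleton hF hv'.2) hv.2
        (fun p hp => by rw [Finset.mem_singleton.mp hp]; exact h)
    have hPT : ∀ p ∈ ({v, v'} : Finset (Fin (n + 1) → F)), p ∈ supp (tailT n C.k) := fun p hp => by
      rcases Finset.mem_insert.mp hp with h | h
      · rw [h]; exact hv.1
      · rw [Finset.mem_singleton.mp h]; exact hv'.1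
    have hne : v ≠ v' := fun e => by
      rw [← e, hv.2] at h
      exact one_ne_zero h
    have hcard2 : ({v, v'} : Finset (Fin (n + 1) → F)).card = 2 := Finset.card_pair hne
    have hcardT : (tailT n C.k).card = n + 1 - C.k := card_tailT _ C.lt0.le
    set ρ := proj q {v, v'} (bas F n C.k) with hρ
    have hρeq : ρ = bas F n C.k - herm q (bas F n C.k) v • v - herm q (bas F n C.k) v' • v' := by
      rw [hρ, proj, Finset.sum_pair hne]; abel
    have hρρ : herm q ρ ρ = 1 - herm q v (bas F n C.k) ^ (q + 1)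
        - herm q v' (bas F n C.k) ^ (q + 1) := by
      conv_lhs => arg 3; rw [hρ]
      rw [herm_proj_right hF (fun p hp => proj_perp hON _ hp), ← hρ, hρeq, herm_sub_left,
        herm_sub_left, herm_smul_left, herm_smul_left, bas_unit hF C.lt0.le,
        ← hF.herm_symm v (bas F n C.k), ← hF.herm_symm v' (bas F n C.k), ← pow_succ, ← pow_succ]
    have finish : ∀ z, z ∈ supp (tailT n C.k) → herm q z z = 1 →
        (∀ p ∈ ({v, v'} : Finset (Fin (n + 1) → F)), herm q z p = 0) →
        herm q z (bas F n C.k) = 0 → C.Adj (C.gam v) (C.gam v') := by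
      intro z hz hz1 hzP hze
      have hzW : C.UnitW z := by
        have h1 := offPart_mem C.lt0.le hz
        rw [offPart_eq' hF C.lt0.le, hze, zero_smul, sub_zero] at h1
        exact ⟨h1, hz1⟩
      exact C.adj_tri (C.adj_symm (C.edge_good hv ⟨hzW, hzP v (Finset.mem_insert_self _ _)⟩))
        (C.adj_symm (C.edge_good hv'
          ⟨hzW, hzP v' (Finset.mem_insert_of_mem (Finset.mem_singleton_self _))⟩))
        (by rw [C.gam_prj hv, C.gam_prj hv']; exact h')
  · -- both special
    have hx : ∀ {u : Fin (n + 1) → F}, C.Unit' u → ¬ PData.IsA n C.k q u →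
        herm q u (bas F n C.k) ^ (q + 1) = 1 := fun hu hn => by
      rw [PData.IsA, not_or, not_not] at hn
      have h1 := herm_decomp hF C.lt0 hu.1 hu.1
      rw [hu.2, hn.2, add_zero] at h1
      rw [pow_succ']
      exact h1.symm
    obtain ⟨z, hz, hz1, hzP, hze⟩ := exists_unit_perp_one hF hON hPT
      (bas_mem_tail C.lt0.le le_rfl)
      (Or.inr (by
        show herm q ρ ρ ≠ 0
        rw [hρρ, hx hv hA, hx hv' hA', sub_self, zero_sub, neg_ne_zero]
        exact one_ne_zero)) (by rw [hcard2, hcardT]; have := C.hk; omega)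
    exact finish z hz hz1 hzP hze
  · -- both generic
    by_cases hres : ρ = 0 ∨ herm q ρ ρ ≠ 0
    · obtain ⟨z, hz, hz1, hzP, hze⟩ := exists_unit_perp_one hF hON hPT
        (bas_mem_tail C.lt0.le le_rfl) hres (by rw [hcard2, hcardT]; have := C.hk; omega)
      exact finish z hz hz1 hzP hze
    push Not at hres
    have hρP : ∀ p ∈ ({v, v'} : Finset (Fin (n + 1) → F)), herm q ρ p = 0 :=
      fun p hp => proj_perp hON _ hp
    obtain ⟨z, hz, hzP, hzρ, hz1⟩ := exists_prescribed hF hON hPT
      (proj_mem hPT (bas_mem_tail C.lt0.le le_rfl)) hres.1 hres.2 hρP one_ne_zero (one_pow q)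
    have hze : herm q z (bas F n C.k) = 1 := by
      rw [← herm_proj_right hF hzP]; exact hzρ
    have hzU : C.Unit' z := ⟨hz, hz1⟩
    have hzv := hzP v (Finset.mem_insert_self _ _)
    have hzv' := hzP v' (Finset.mem_insert_of_mem (Finset.mem_singleton_self _))
    have hznA : ¬ PData.IsA n C.k q z := by
      rintro (h0 | hne')
      · rw [offPart_eq' hF C.lt0.le, hze, one_smul, sub_eq_zero] at h0
        rw [h0] at hzv hzv'
        apply one_ne_zero (α := F)
        have h2 := hres.2
        rw [hρeq, hzv, hzv', zero_smul, zero_smul, sub_zero, sub_zero,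
          bas_unit hF C.lt0.le] at h2
        exact h2
      · apply hne'
        have h1 := herm_decomp hF C.lt0 hz hz
        rw [hz1, hze, one_pow, one_mul] at h1
        linear_combination (-1 : F) * h1
    exact C.adj_tri (C.adj_symm (C.edge_AB hv hA hzU hznA (herm_comm_zero hF hzv)))
      (C.adj_symm (C.edge_AB hv' hA' hzU hznA (herm_comm_zero hF hzv')))
      (by rw [C.gam_prj hv, C.gam_prj hv']; exact h')

theorem gam_e : C.gam C.e = QuotientGroup.mk 1 := by
  rw [C.gam_A C.e_isA, C.gA_eq C.unit_e C.e_isA (one_mem _) (one_mem _) (by simp), one_mul]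

theorem equivariant_of_base {x : H × Sug (n + 1) F q} (hx : x ∈ C.L0)
    (h0 : x • C.gam C.e = C.gam (app x.2 C.e)) {v : Fin (n + 1) → F} (hv : C.Unit' v) :
    x • C.gam v = C.gam (app x.2 v) := by
  have step : ∀ {p r : Fin (n + 1) → F}, C.Unit' p → C.Unit' r → herm q p r = 0 →
      x • C.gam p = C.gam (app x.2 p) → x • C.gam r = C.gam (app x.2 r) := by
    intro p r hp hr hpr hxp
    refine C.adj_unique (c := x • C.gam p) ((C.edge hp hr hpr).smul hx) ?_ ?_
    · rw [hxp]; exact C.edge (C.unit_app hx hp) (C.unit_app hx hr) (by rw [app_herm]; exact hpr)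
    · rw [C.prj_smul, C.gam_prj hr, C.gam_prj (C.unit_app hx hr)]
  obtain ⟨a, ha, hav⟩ := C.exists_good hv
  exact step ha.unit hv hav
    (step C.unit_e ha.unit (herm_bas_tail C.D.hF C.lt0 ha.1).2 h0)

theorem Lk_equivariant {x : H × Sug (n + 1) F q} (hx : x ∈ C.L0) :
    ∀ {v : Fin (n + 1) → F}, C.Unit' v → x • C.gam v = C.gam (app x.2 v) := by
  induction hx using Subgroup.closure_induction with
  | mem y hy =>
    intro v hv
    obtain ⟨i, hi, hin, hy⟩ := hy
    refine C.equivariant_of_base (C.D.GU_le_Lk hi hin hy) ?_ hv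
    rw [C.gam_e, MulAction.Quotient.smul_coe, smul_eq_mul, mul_one]
    by_cases h : i = C.k
    · subst h
      set u := app y.2 C.e with hu
      have hus : u ∈ supp (pairT n C.k) :=
        app_mem_supp C.D.hF (C.D.GU_mem _ C.lt0 _ hy) (bas_mem_pair C.lt0.le (Or.inl rfl))
      have huU : C.Unit' u := C.unit_app (C.GU0_le hy) C.unit_e
      have huA : PData.IsA n C.k q u := by
        have hoff : offPart n C.k u = herm q u C.e1 • C.e1 := by
          rw [offPart_eq' C.D.hF C.lt0.le]
          conv_lhs => arg 1; rw [C.pair_decomp hus]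
          rw [add_sub_cancel_left]
        by_cases hb : herm q u C.e1 = 0
        · exact Or.inl (by rw [hoff, hb, zero_smul])
        · refine Or.inr ?_
          rw [hoff, herm_smul_left, herm_smul_right, bas_unit C.D.hF C.lt1.le, mul_one]
          exact mul_ne_zero hb (pow_ne_zero _ hb)
      rw [C.gam_A huA, C.gA_eq huU huA (one_mem _) hy (by rw [one_mul]), one_mul]
    · have hL1 : y ∈ C.L1 := C.D.GU_le_Lk (by omega) hin hy
      rw [C.L1_fix hL1, C.gam_e]
      simpa using C.mk_mul_L1 1 hL1
  | one => intro v _; rw [one_smul]; rfl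
  | mul a b ha hb iha ihb =>
    intro v hv
    rw [mul_smul, ihb hv, iha (C.unit_app hb hv), Prod.snd_mul, app_mul]
  | inv a ha iha =>
    intro v hv
    rw [inv_smul_eq_iff, iha (C.unit_app (inv_mem ha) hv), Prod.snd_inv, app_app_inv]

theorem good_step : C.D.Good C.k := by
  refine ⟨fun x hx h1 => ?_, C.D.surj_of_good C.lt1 C.good1⟩
  have h := C.Lk_equivariant hx C.unit_e
  rw [h1, app_one, C.gam_e, MulAction.Quotient.smul_coe, smul_eq_mul, mul_one] at h
  have hx1 : x ∈ C.L1 := by simpa using inv_mem (QuotientGroup.eq.mp h)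
  exact C.good1.func x hx1 h1

end Ctx

end

end Cfsg.Agent.PhanSU
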