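import Cfsg.Agent.PhanSU.Cover
import Cfsg.Agent.PhanSU.AutTwo

/-!
The linking step over the field with nine elements: the monodromy along an edge of the graph of
units is an element of order three centralising the stabiliser of the base vertex.
-/

set_option autoImplicit false
set_option linter.style.haveILetI false

open scoped Classical

namespace Cfsg.Agent.PhanSU

open Cfsg.Agent.Classical.U

universe u v

noncomputable section

variable {F : Type u} [Field F] {n q : ℕ} {H : Type v} [Group H]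

theorem three_eq_zero (hF : SqField F q) (hq : q = 3) : (3 : F) = 0 := by
  obtain ⟨p, k, hp, hcp, hpk⟩ := hF.exists_char
  rw [hq] at hpk
  have h3 : p = 3 := by
    refine (Nat.prime_dvd_prime_iff_eq hp Nat.prime_three).1 ?_
    rw [hpk]
    refine dvd_pow_self p ?_
    rintro rfl
    simp at hpk
  subst h3
  exact CharP.cast_eq_zero F 3

theorem two_ne_zero_three (hF : SqField F q) (hq : q = 3) : (2 : F) ≠ 0 := by
  intro h
  have h3 := three_eq_zero hF hq
  exact one_ne_zero (α := F) (by linear_combination h3 - h)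

theorem skew_facts (hF : SqField F q) (hq : q = 3) {d : F} (hd : d ≠ 0) (hdq : d ^ q = -d) :
    d * d = -1 ∧ d * d ^ q = 1 := by
  have h3 := three_eq_zero hF hq
  have h2 := two_ne_zero_three hF hq
  rw [hq] at hdq ⊢
  have h4 : d * d + 1 = 0 := by
    have : d * (d * d + 1) = 0 := by linear_combination hdq
    exact (mul_eq_zero.mp this).resolve_left hd
  constructor
  · linear_combination h4
  · linear_combination d * hdq - h4

/-- The transvection with a given isotropic centre, inside a coordinate subspace. -/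
theorem exists_transvection (hF : SqField F q) {m : ℕ} {T : Finset (Fin m)} {z : Fin m → F}
    (hz : z ∈ supp T) (hzz : herm q z z = 0) {c : F} (hc : c ^ q = -c) :
    ∃ t ∈ (fixT T : Subgroup (Sug m F q)), ∀ w, app t w = w + (c * herm q w z) • z := by
  have h : c + c ^ q + c * c ^ q * herm q z z = 0 := by rw [hc, hzz]; ring
  have hdet : href hF h ∈ SUG m F q := by
    rw [mem_SUG]
    apply Units.ext
    rw [det_href hF h, hzz, mul_zero, add_zero, Units.val_one]
  exact ⟨⟨href hF h, hdet⟩, href_mem_fixG hF hz h, fun w => href_apply hF h w⟩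

/-- The negation of two coordinates. -/
theorem exists_negation (hF : SqField F q) {m : ℕ} {T : Finset (Fin m)} {a b : Fin m}
    (ha : a ∈ T) (hb : b ∈ T) (hab : a ≠ b) (hTab : ∀ l ∈ T, l = a ∨ l = b) :
    ∃ t ∈ (fixT T : Subgroup (Sug m F q)), ∀ w ∈ supp T, app t w = -w := by
  have h : ∀ l : Fin m, (-2 : F) + (-2 : F) ^ q + (-2 : F) * (-2 : F) ^ q * herm q (dd l) (dd l) = 0 := by
    intro l
    have h2 : ((2 : F)) ^ q = 2 := by
      rw [show (2 : F) = 1 + 1 by norm_num, hF.add_pow, one_pow]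
    rw [dd_unit hF, hF.neg_pow, h2]
    ring
  have hdet : href hF (h a) * href hF (h b) ∈ SUG m F q := by
    rw [mem_SUG]
    apply Units.ext
    rw [Subgroup.coe_mul, map_mul, Units.val_mul, det_href hF (h a), det_href hF (h b), dd_unit hF,
      dd_unit hF, Units.val_one]
    ring
  refine ⟨⟨href hF (h a) * href hF (h b), hdet⟩,
    mul_mem (href_mem_fixG hF (dd_mem_supp ha) (h a)) (href_mem_fixG hF (dd_mem_supp hb) (h b)),
    fun w hw => ?_⟩
  show (href hF (h a) * href hF (h b)).1 w = -w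
  rw [Subgroup.coe_mul, LinearEquiv.mul_apply, href_apply, href_apply]
  funext l
  simp only [Pi.add_apply, Pi.smul_apply, smul_eq_mul, herm_dd hF, Pi.neg_apply, dd_ne hab]
  by_cases hla : l = a
  · subst hla
    rw [dd_self, dd_ne hab]
    ring
  by_cases hlb : l = b
  · subst hlb
    rw [dd_self, dd_ne hla]
    ring
  rw [dd_ne hla, dd_ne hlb, hw l (fun hl => (hTab l hl).elim hla hlb)]
  ring

/-- A group of order twenty-four generated by elements of order three is generated by any two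
noncommuting ones. -/
theorem eq_top_of_two_three {P : Type v} [Group P] [Finite P] (hcard : Nat.card P = 24)
    (hgen : ∀ K : Subgroup P, (∀ y : P, y ^ 3 = 1 → y ∈ K) → K = ⊤) (T : Subgroup P) {x y : P}
    (hx : x ∈ T) (hy : y ∈ T) (hx3 : x ^ 3 = 1) (hy3 : y ^ 3 = 1) (hne : x * y ≠ y * x) :
    T = ⊤ := by
  have hinj : Function.Injective (fun ij : Fin 3 × Fin 3 =>
      (⟨x ^ (ij.1 : ℕ) * y ^ (ij.2 : ℕ), mul_mem (pow_mem hx _) (pow_mem hy _)⟩ : T)) := by
    rintro ⟨i, j⟩ ⟨i', j'⟩ h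
    have h' : x ^ (i : ℕ) * y ^ (j : ℕ) = x ^ (i' : ℕ) * y ^ (j' : ℕ) := congrArg Subtype.val h
    have h1 : x ^ ((i : ℕ) + (3 - (i' : ℕ))) = y ^ ((j' : ℕ) + (3 - (j : ℕ))) := by
      have ea : x ^ (3 - (i' : ℕ)) * x ^ (i' : ℕ) = 1 := by
        rw [← pow_add, Nat.sub_add_cancel i'.2.le, hx3]
      have eb : y ^ (j : ℕ) * y ^ (3 - (j : ℕ)) = 1 := by
        rw [← pow_add, Nat.add_sub_cancel' j.2.le, hy3]
      calc x ^ ((i : ℕ) + (3 - (i' : ℕ)))
          = x ^ (3 - (i' : ℕ)) * (x ^ (i : ℕ) * y ^ (j : ℕ)) * y ^ (3 - (j : ℕ)) := by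
            rw [mul_assoc, mul_assoc, eb, mul_one, add_comm, pow_add]
        _ = x ^ (3 - (i' : ℕ)) * (x ^ (i' : ℕ) * y ^ (j' : ℕ)) * y ^ (3 - (j : ℕ)) := by rw [h']
        _ = y ^ ((j' : ℕ) + (3 - (j : ℕ))) := by
            rw [← mul_assoc (x ^ (3 - (i' : ℕ))), ea, one_mul, pow_add]
    have hi : i = i' := by
      by_contra hii
      apply hne
      obtain ⟨a, ha⟩ : ∃ a : ℕ, x = (x ^ ((i : ℕ) + (3 - (i' : ℕ)))) ^ a := by
        have hm : ((i : ℕ) + (3 - (i' : ℕ))) % 3 = 1 ∨ ((i : ℕ) + (3 - (i' : ℕ))) % 3 = 2 := by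
          have := i.2; have := i'.2
          have : (i : ℕ) ≠ i' := fun e => hii (Fin.ext e)
          omega
        rcases hm with hm | hm
        · exact ⟨1, by rw [pow_one, pow_eq_pow_mod _ hx3, hm, pow_one]⟩
        · exact ⟨2, by rw [← pow_mul, pow_eq_pow_mod _ hx3, Nat.mul_mod, hm, pow_one]⟩
      rw [h1] at ha
      rw [ha]
      exact ((Commute.refl y).pow_left _).pow_left _
    subst hi
    have h2 : y ^ (j : ℕ) = y ^ (j' : ℕ) := mul_left_cancel h'
    have hy1 : y ≠ 1 := fun e => hne (by rw [e, mul_one, one_mul])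
    have hord : orderOf y = 3 := by
      have := (Nat.dvd_prime Nat.prime_three).1 (orderOf_dvd_of_pow_eq_one hy3)
      exact this.resolve_left fun e => hy1 (orderOf_eq_one_iff.1 e)
    have h3 := pow_inj_mod.1 h2
    rw [hord, Nat.mod_eq_of_lt j.2, Nat.mod_eq_of_lt j'.2] at h3
    rw [Fin.ext h3]
  have h9 := Nat.card_le_card_of_injective _ hinj
  simp only [Nat.card_eq_fintype_card (α := Fin 3 × Fin 3), Fintype.card_prod, Fintype.card_fin] at h9
  have hidx := T.index_mul_card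
  rw [hcard] at hidx
  have hle : T.index ≤ 2 := by
    by_contra hcon
    have := Nat.mul_le_mul (Nat.lt_of_not_le hcon) h9
    omega
  by_cases h1 : T.index = 1
  · exact Subgroup.index_eq_one.1 h1
  have hne0 : T.index ≠ 0 := fun e => by rw [e, zero_mul] at hidx; omega
  have h2 : T.index = 2 := by omega
  haveI := Subgroup.normal_of_index_eq_two h2
  exfalso
  have htop := hgen T fun z hz => by
    have hz2 : z ^ 2 ∈ T := by
      have := Subgroup.pow_index_mem T z
      rwa [h2] at this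
    have : z = z ^ 2 * z ^ 2 := by rw [← pow_add, show 2 + 2 = 3 + 1 by rfl, pow_succ, hz, one_mul]
    rw [this]
    exact mul_mem hz2 hz2
  exact h1 (Subgroup.index_eq_one.2 htop)

/-- The two-dimensional groups over nine elements are generated by their elements of order three. -/
theorem su2_three_generate (hF : SqField F q) (hq : q = 3)
    (K : Subgroup (Cfsg.SU 2 F q)) (h : ∀ y : Cfsg.SU 2 F q, y ^ 3 = 1 → y ∈ K) : K = ⊤ := by
  obtain ⟨hfin, -⟩ := id hF
  obtain ⟨L, hcard, hL⟩ := exists_fixed_subfield hF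
  obtain ⟨e⟩ := SU_two_equiv hF hcard
  haveI : Nontrivial (Fin 2) := inferInstance
  refine top_unique fun y _ => ?_
  suffices hs : ∀ m : Matrix.SpecialLinearGroup (Fin 2) L, e.symm m ∈ K by
    simpa using hs (e y)
  intro m
  induction m using Cfsg.Agent.Linear.transvection_induction with
  | hmul A B hA hB => rw [map_mul]; exact mul_mem hA hB
  | htransvec i j hij c =>
    refine h _ ?_
    have h3 : (3 : L) = 0 := Subtype.ext (three_eq_zero hF hq)
    rw [← map_pow, pow_succ, pow_two, ← Matrix.SpecialLinearGroup.transvection_add,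
      ← Matrix.SpecialLinearGroup.transvection_add,
      show c + c + c = 0 by linear_combination c * h3,
      Matrix.SpecialLinearGroup.transvection_coeff_zero, map_one]

namespace Ctx

variable (C : Ctx F q n H)

theorem exists_L1_of_fix {g : Sug (n + 1) F q} (hg : g ∈ fixT (tailT n C.k))
    (he : app g C.e = C.e) : ∃ z ∈ C.L1, z.2 = g := by
  refine C.good1.surj g fun l hl => ?_
  rw [mem_tailT, not_le] at hl
  by_cases hlk : (l : ℕ) = C.k
  · have : dd l = C.e := by rw [Ctx.e, bas_eq C.lt0.le]; congr 1; exact Fin.ext hlk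
    rw [this]; exact he
  · exact hg l (by rw [mem_tailT]; omega)

theorem kernel_free {k : H × Sug (n + 1) F q} (hk : k ∈ C.L0) (hk2 : k.2 = 1) {c : C.Q}
    (h : k • c = c) : k = 1 := by
  induction c using QuotientGroup.induction_on with
  | _ x =>
    rw [MulAction.Quotient.smul_coe, smul_eq_mul] at h
    have h1 := C.good1.func _ (QuotientGroup.eq.mp h)
      (by rw [Prod.snd_mul, Prod.snd_inv, Prod.snd_mul, hk2, one_mul, inv_mul_cancel])
    rw [inv_mul_eq_one] at h1
    exact mul_eq_right.mp h1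

/-- The generic vertices used in the step. -/
def mv (s : F) (y : Fin (n + 1) → F) : Fin (n + 1) → F := s • (C.e + y)

/-- A pair of units spanning an edge without witness. -/
def IsPair (y y' : Fin (n + 1) → F) : Prop :=
  C.UnitW y ∧ C.UnitW y' ∧ herm q y y' = -1 ∧ y + y' ≠ 0

theorem IsPair.symm {C : Ctx F q n H} {y y' : Fin (n + 1) → F} (h : C.IsPair y y') :
    C.IsPair y' y := by
  refine ⟨h.2.1, h.1, ?_, fun e => h.2.2.2 ((add_comm _ _).trans e)⟩
  rw [← C.D.hF.herm_symm, h.2.2.1, C.D.hF.neg_pow, one_pow]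

/-- The element carrying the standard lift of one end to the lift adjacent to the other end. -/
def Shift (s : F) (k : H × Sug (n + 1) F q) (y y' : Fin (n + 1) → F) : Prop :=
  k ∈ C.L0 ∧ k.2 = 1 ∧ C.Adj (k • C.gA (C.mv s y)) (C.gA (C.mv s y'))

variable {s : F}

theorem mv_herm {y z : Fin (n + 1) → F} (hy : C.UnitW y) (hz : C.UnitW z) :
    herm q (C.mv s y) (C.mv s z) = s * s ^ q * (1 + herm q y z) := by
  have hF := C.D.hF
  simp only [mv, herm_smul_left, herm_smul_right, herm_add_left, hF.herm_add_right,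
    bas_unit hF C.lt0.le, (herm_bas_tail hF C.lt0 hy.1).1, (herm_bas_tail hF C.lt0 hz.1).2,
    add_zero, zero_add]
  ring

section

variable (hq : q = 3) (hs : s * s ^ q = -1)
include hq hs

theorem mv_unit {y : Fin (n + 1) → F} (hy : C.UnitW y) : C.Unit' (C.mv s y) := by
  refine ⟨(supp _).smul_mem _ ((supp _).add_mem (bas_mem_tail C.lt0.le le_rfl)
    (supp_mono (tailT_antitone C.k.le_succ) hy.1)), ?_⟩
  rw [C.mv_herm hy hy, hy.2, hs]
  linear_combination (-1 : F) * three_eq_zero C.D.hF hq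

theorem mv_isA {y : Fin (n + 1) → F} (hy : C.UnitW y) : PData.IsA n C.k q (C.mv s y) := by
  have hoff : offPart n C.k (C.mv s y) = s • y := by
    rw [offPart_eq' C.D.hF C.lt0.le, mv, herm_smul_left, herm_add_left, bas_unit C.D.hF C.lt0.le,
      (herm_bas_tail C.D.hF C.lt0 hy.1).1, add_zero, mul_one, smul_add, add_sub_cancel_left]
  refine Or.inr ?_
  rw [hoff, herm_smul_left, herm_smul_right, hy.2, mul_one, hs]
  exact neg_ne_zero.mpr one_ne_zero

theorem mv_prj {y : Fin (n + 1) → F} (hy : C.UnitW y) : C.prj (C.gA (C.mv s y)) = C.mv s y :=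
  C.gA_prj (C.mv_unit hq hs hy) (C.mv_isA hq hs hy)

omit hq hs in
theorem app_mv {h : H × Sug (n + 1) F q} (hh : h ∈ C.L1) (y : Fin (n + 1) → F) :
    app h.2 (C.mv s y) = C.mv s (app h.2 y) := by
  rw [mv, mv, app_smul, app_add, C.L1_fix hh]

omit hq hs in
theorem app_unitW {h : H × Sug (n + 1) F q} (hh : h ∈ C.L1) {y : Fin (n + 1) → F}
    (hy : C.UnitW y) : C.UnitW (app h.2 y) :=
  ⟨app_mem_supp C.D.hF (C.D.snd_mem hh) hy.1, by rw [app_herm]; exact hy.2⟩

omit hq hs in
theorem app_pair {h : H × Sug (n + 1) F q} (hh : h ∈ C.L1) {y y' : Fin (n + 1) → F}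
    (hp : C.IsPair y y') : C.IsPair (app h.2 y) (app h.2 y') :=
  ⟨C.app_unitW hh hp.1, C.app_unitW hh hp.2.1, by rw [app_herm]; exact hp.2.2.1,
    fun e => hp.2.2.2 (by rw [← app_inv_app h.2 (y + y'), app_add, e, app_zero])⟩

theorem gA_mv_equivariant {h : H × Sug (n + 1) F q} (hh : h ∈ C.L1) {y : Fin (n + 1) → F}
    (hy : C.UnitW y) : h • C.gA (C.mv s y) = C.gA (C.mv s (app h.2 y)) := by
  obtain ⟨g, hg, t, ht, he⟩ :=
    C.D.exists_rep C.lt1 C.good1 (C.mv_unit hq hs hy).1 (C.mv_unit hq hs hy).2 (C.mv_isA hq hs hy)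
  rw [C.gA_eq (C.mv_unit hq hs hy) (C.mv_isA hq hs hy) hg ht he,
    C.gA_eq (C.mv_unit hq hs (C.app_unitW hh hy)) (C.mv_isA hq hs (C.app_unitW hh hy))
      (mul_mem hh hg) ht (by rw [mul_assoc, Prod.snd_mul, app_mul, he, C.app_mv hh]),
    MulAction.Quotient.smul_coe, smul_eq_mul, mul_assoc]

theorem shift_conj {h : H × Sug (n + 1) F q} (hh : h ∈ C.L1) {k : H × Sug (n + 1) F q}
    {y y' : Fin (n + 1) → F} (hp : C.IsPair y y') (hk : C.Shift s k y y') :
    C.Shift s (h * k * h⁻¹) (app h.2 y) (app h.2 y') := by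
  refine ⟨mul_mem (mul_mem (C.L1_le hh) hk.1) (inv_mem (C.L1_le hh)), ?_, ?_⟩
  · rw [Prod.snd_mul, Prod.snd_mul, Prod.snd_inv, hk.2.1, mul_one, mul_inv_cancel]
  · have := hk.2.2.smul (C.L1_le hh)
    rwa [C.gA_mv_equivariant hq hs hh hp.2.1, ← mul_smul,
      show h * k = h * k * h⁻¹ * h by group, mul_smul, C.gA_mv_equivariant hq hs hh hp.1] at this

theorem shift_symm {k : H × Sug (n + 1) F q} {y y' : Fin (n + 1) → F}
    (hk : C.Shift s k y y') : C.Shift s k⁻¹ y' y := by
  refine ⟨inv_mem hk.1, by rw [Prod.snd_inv, hk.2.1, inv_one], ?_⟩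
  have h := C.adj_symm (hk.2.2.smul (inv_mem hk.1))
  rwa [inv_smul_smul] at h

theorem shift_unique {k k' : H × Sug (n + 1) F q} {y y' : Fin (n + 1) → F}
    (hk : C.Shift s k y y') (hk' : C.Shift s k' y y') : k = k' := by
  have h := C.adj_unique (C.adj_symm hk.2.2) (C.adj_symm hk'.2.2)
    (by rw [C.prj_smul, C.prj_smul, hk.2.1, hk'.2.1])
  have h2 := C.kernel_free (mul_mem (inv_mem hk'.1) hk.1)
    (by rw [Prod.snd_mul, Prod.snd_inv, hk.2.1, hk'.2.1, inv_one, one_mul])
    (c := C.gA (C.mv s y)) (by rw [mul_smul, h, inv_smul_smul])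
  exact (inv_mul_eq_one.mp h2).symm

theorem mv_perp {y y' : Fin (n + 1) → F} (hp : C.IsPair y y') :
    herm q (C.mv s y) (C.mv s y') = 0 := by
  rw [C.mv_herm hp.1 hp.2.1, hp.2.2.1, add_neg_cancel, mul_zero]

theorem exists_neighbour {y : Fin (n + 1) → F} (hy : C.UnitW y) :
    ∃ c, C.Adj (C.gA (C.mv s y)) c := by
  obtain ⟨b, hb, hb1, hbP⟩ := exists_unit_perp C.D.hF (isON_singleton C.D.hF hy.2)
    (T := tailT n (C.k + 1)) (fun p hp => by rw [Finset.mem_singleton.mp hp]; exact hy.1)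
    (by rw [Finset.card_singleton, card_tailT _ C.lt1.le]; have := C.hk; omega)
  refine ⟨C.gA b, C.edge_W (C.mv_unit hq hs hy) (C.mv_isA hq hs hy) ⟨hb, hb1⟩ ?_⟩
  rw [mv, herm_smul_left, herm_add_left, (herm_bas_tail C.D.hF C.lt0 hb).2, zero_add,
    herm_comm_zero C.D.hF (hbP y (Finset.mem_singleton_self y)), mul_zero]

theorem exists_shift {y y' : Fin (n + 1) → F} (hp : C.IsPair y y') :
    ∃ k, C.Shift s k y y' := by
  obtain ⟨c0, hc0⟩ := C.exists_neighbour hq hs hp.2.1
  obtain ⟨c, hc, hcp⟩ := C.adj_exists hc0 (C.mv_unit hq hs hp.1)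
    (by rw [C.mv_prj hq hs hp.2.1]; exact C.mv_perp hq hs hp)
  obtain ⟨c1, hc1⟩ := C.exists_neighbour hq hs hp.1
  obtain ⟨x', hx', hgx', -⟩ := hc1
  obtain ⟨x, hx, hgx, -⟩ := C.adj_symm hc
  subst hgx
  rw [prj_mk] at hcp
  have hx'e : app x'.2 C.e = C.mv s y := by
    rw [← prj_mk, ← hgx', C.mv_prj hq hs hp.1]
  obtain ⟨z, hz, hz2⟩ := C.exists_L1_of_fix
    (g := x'.2⁻¹ * x.2) (mul_mem (inv_mem (C.D.snd_mem hx')) (C.D.snd_mem hx))
    (by rw [app_mul, hcp, ← hx'e, app_inv_app])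
  refine ⟨x * z⁻¹ * x'⁻¹, mul_mem (mul_mem hx (inv_mem (C.L1_le hz))) (inv_mem hx'), ?_, ?_⟩
  · rw [Prod.snd_mul, Prod.snd_mul, Prod.snd_inv, Prod.snd_inv, hz2]; group
  · rw [hgx', MulAction.Quotient.smul_coe, smul_eq_mul,
      show x * z⁻¹ * x'⁻¹ * x' = x * z⁻¹ by group, C.mk_mul_L1 _ (inv_mem hz)]
    exact C.adj_symm hc

theorem shift_square {k : H × Sug (n + 1) F q} {y y' y'' : Fin (n + 1) → F}
    (hp : C.IsPair y y') (hp' : C.IsPair y'' y') (hk : C.Shift s k y y')
    (h1 : herm q y'' y ^ (q + 1) ≠ 1) (h2 : (1 + herm q y'' y) ^ (q + 1) ≠ 1) :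
    C.Shift s k y'' y' := by
  have hF := C.D.hF
  obtain ⟨b, hb, hb1, hby, hby'⟩ := exists_unit_perp_pair hF (T := tailT n (C.k + 1))
    (by rw [card_tailT _ C.lt1.le]; have := C.hk; omega) hp'.1.1 hp.1.1
    (by rw [hp.1.2]; exact one_ne_zero) (by
      rw [hp'.1.2, hp.1.2, ← hF.herm_symm y'' y, ← pow_succ']
      intro e
      exact h1 (by linear_combination -e))
  have he : ∀ v, C.UnitW v → herm q b v = 0 → C.Adj (C.gA (C.mv s v)) (C.gA b) :=
    fun v hv hbv => C.edge_W (C.mv_unit hq hs hv) (C.mv_isA hq hs hv) ⟨hb, hb1⟩ (by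
      rw [mv, herm_smul_left, herm_add_left, (herm_bas_tail hF C.lt0 hb).2, zero_add,
        herm_comm_zero hF hbv, mul_zero])
  have hprj : ∀ v, C.UnitW v → C.prj (k • C.gA (C.mv s v)) = C.mv s v := fun v hv => by
    rw [C.prj_smul, hk.2.1, app_one, C.mv_prj hq hs hv]
  refine ⟨hk.1, hk.2.1, C.adj_symm (C.adj_square (c := k • C.gA (C.mv s y))
    ((he y hp.1 hby').smul hk.1) hk.2.2 ((C.adj_symm (he y'' hp'.1 hby)).smul hk.1)
    ?_ ?_ ?_)⟩
  · rw [hprj y'' hp'.1]; exact C.mv_unit hq hs hp'.1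
  · rw [hprj y'' hp'.1, C.mv_prj hq hs hp.2.1]; exact C.mv_perp hq hs hp'
  · rw [hprj y'' hp'.1, hprj y hp.1, C.mv_herm hp'.1 hp.1, hs]
    intro e
    apply h2
    rw [neg_one_mul, pow_succ, hF.neg_pow, neg_mul_neg, ← pow_succ] at e
    exact e

/-- A second pair with the same second end, joined to a given one by a square. -/
theorem exists_square {y y' : Fin (n + 1) → F} (hp : C.IsPair y y') :
    ∃ z' d, C.IsPair (-y' + d • z') y' ∧ d * d = -1 ∧ d ^ q = -d ∧
      z' ∈ supp (tailT n (C.k + 1)) ∧ herm q z' y' = 0 ∧ herm q z' z' = 0 ∧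
      herm q z' (y + y') = 1 ∧
      herm q (-y' + d • z') y = 1 + d ∧ (-y' + d • z') + y' = d • z' := by
  have hF := C.D.hF
  obtain ⟨d, hd, hdq⟩ := hF.exists_skew
  obtain ⟨hdd, hdN⟩ := skew_facts hF hq hd hdq
  have hy' : herm q y' y = -1 := by rw [← hF.herm_symm, hp.2.2.1, hF.neg_pow, one_pow]
  have hzz : herm q (y + y') (y + y') = 0 := by
    rw [herm_add_left, hF.herm_add_right, hF.herm_add_right, hp.1.2, hp.2.1.2, hp.2.2.1, hy']
    ring
  have hzy : herm q (y + y') y' = 0 := by rw [herm_add_left, hp.2.2.1, hp.2.1.2]; ring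
  obtain ⟨z', hz', hz'P, hz'z, hz'z'⟩ := exists_prescribed hF (isON_singleton hF hp.2.1.2)
    (T := tailT n (C.k + 1)) (fun p hp' => by rw [Finset.mem_singleton.mp hp']; exact hp.2.1.1)
    ((supp _).add_mem hp.1.1 hp.2.1.1) hp.2.2.2 hzz
    (fun p hp' => by rw [Finset.mem_singleton.mp hp']; exact hzy) one_ne_zero
    (t := 0) (zero_pow hF.q_ne_zero)
  have hz'y' := hz'P y' (Finset.mem_singleton_self y')
  have hy'z' := herm_comm_zero hF hz'y'
  have hne : z' ≠ 0 := by rintro rfl; simp at hz'z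
  have hsum : -y' + d • z' + y' = d • z' := by abel
  refine ⟨z', d, ⟨⟨(supp _).add_mem (neg_mem hp.2.1.1) ((supp _).smul_mem _ hz'), ?_⟩,
    hp.2.1, ?_, ?_⟩, hdd, hdq, hz', hz'y', hz'z', hz'z, ?_, hsum⟩
  · simp only [herm_add_left, hF.herm_add_right, herm_neg_left, hF.herm_neg_right, herm_smul_left,
      herm_smul_right, hp.2.1.2, hz'y', hy'z', hz'z']
    ring
  · rw [herm_add_left, herm_neg_left, herm_smul_left, hp.2.1.2, hz'y', mul_zero, add_zero]
  · rw [hsum]; exact smul_ne_zero hd hne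
  · have hz'y : herm q z' y = 1 := by
      have := hz'z
      rw [hF.herm_add_right, hz'y', add_zero] at this
      exact this
    rw [herm_add_left, herm_neg_left, herm_smul_left, hy', hz'y]
    ring

theorem comm_pair_block (hn : n = C.k + 3) {k : H × Sug (n + 1) F q} {y : Fin (n + 1) → F}
    (hp : C.IsPair y C.e1) (hk : C.Shift s k y C.e1) :
    ∀ t ∈ C.D.GU (C.k + 2), Commute k t := by
  have hF := C.D.hF
  have h3 := three_eq_zero hF hq
  obtain ⟨z', d, hp', hdd, hdq, hz', hz'e, hz'z', hz'z, hyy'', hsum⟩ := C.exists_square hq hs hp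
  set z := y + C.e1 with hz
  have hN : (1 + d) * (1 + d) ^ q = 2 := by
    rw [hF.add_pow, one_pow, hdq]; linear_combination -hdd
  have hk' : C.Shift s k (-C.e1 + d • z') C.e1 := by
    refine C.shift_square hq hs hp hp' hk ?_ ?_
    · rw [hyy'', pow_succ', hN]
      intro e
      exact one_ne_zero (α := F) (by linear_combination e)
    · rw [hyy'', pow_succ', ← add_assoc, hF.add_pow, hF.add_pow, one_pow, hdq]
      intro e
      exact one_ne_zero (α := F) (by linear_combination e + hdd - h3)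
  have htail : ∀ w ∈ supp (tailT n (C.k + 1)), herm q w C.e1 = 0 →
      w ∈ supp (tailT n (C.k + 1 + 1)) := fun w hw hwe => by
    have h := offPart_mem C.lt1.le hw
    rwa [offPart_eq' hF C.lt1.le, show herm q w (bas F n (C.k + 1)) = 0 from hwe, zero_smul,
      sub_zero] at h
  have he1y : herm q C.e1 y = -1 := by rw [← hF.herm_symm, hp.2.2.1, hF.neg_pow, one_pow]
  have hze : herm q z C.e1 = 0 := by rw [hz, herm_add_left, hp.2.2.1, hp.2.1.2]; ring
  have hzz : herm q z z = 0 := by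
    rw [hz, herm_add_left, hF.herm_add_right, hF.herm_add_right, hp.1.2, hp.2.1.2, hp.2.2.1, he1y]
    ring
  have hzy : herm q y z = 0 := by rw [hz, hF.herm_add_right, hp.1.2, hp.2.2.1]; ring
  have hzT : z ∈ supp (tailT n (C.k + 1 + 1)) :=
    htail z ((supp _).add_mem hp.1.1 hp.2.1.1) hze
  obtain ⟨t1, ht1, ht1e⟩ := exists_transvection hF hzT hzz hdq
  obtain ⟨t2, ht2, ht2e⟩ := exists_transvection hF (htail z' hz' hz'e) hz'z' hdq
  have hle : C.D.Lk (C.k + 2) ≤ C.D.GU (C.k + 2) :=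
    (Subgroup.closure_le _).mpr fun x ⟨i, hi, hin, hx⟩ => by
      obtain rfl : i = C.k + 2 := by omega
      exact hx
  have hup : C.D.GU (C.k + 2) ≤ C.L1 := C.D.GU_le_Lk (Nat.le_succ _) C.lt2
  have hT : tailT n (C.k + 1 + 1) = pairT n (C.k + 2) := by
    ext l; rw [mem_tailT, mem_pairT]; omega
  -- elements of the block fixing both ends centralise
  have key : ∀ (v : Fin (n + 1) → F), C.IsPair v C.e1 → C.Shift s k v C.e1 →
      ∀ h ∈ C.D.GU (C.k + 2), app h.2 v = v → Commute k h := by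
    intro v hv hkv h hh hhv
    have hhe : app h.2 C.e1 = C.e1 :=
      fix_bas (C.D.GU_mem _ C.lt2 h hh) C.lt1.le (by simp [mem_pairT])
    have hc := C.shift_conj hq hs (hup hh) hv hkv
    rw [hhv, hhe] at hc
    have := C.shift_unique hq hs hc hkv
    show k * h = h * k
    conv_lhs => rw [← this]
    group
  obtain ⟨x1, hx1, hx1e⟩ := C.good2.surj t1 ht1
  obtain ⟨x2, hx2, hx2e⟩ := C.good2.surj t2 ht2
  have c1 : Commute k x1 := key y hp hk x1 (hle hx1) (by
    rw [hx1e, ht1e, hzy, mul_zero, zero_smul, add_zero])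
  have c2 : Commute k x2 := key _ hp' hk' x2 (hle hx2) (by
    rw [hx2e, ht2e, herm_add_left, herm_neg_left, herm_smul_left, hz'z', mul_zero, add_zero,
      herm_comm_zero hF hz'e, neg_zero, mul_zero, zero_smul, add_zero])
  -- transfer to the matrix group
  have hi2 : C.k + 2 + 2 ≤ n + 1 := by omega
  let f : Fin 2 → Fin (n + 1) := fun j => ⟨C.k + 2 + j, by omega⟩
  have hf : Function.Injective f := fun a b e => Fin.ext (by simpa [f] using congrArg Fin.val e)
  have himg : Finset.univ.image f = pairT n (C.k + 2) := by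
    ext l
    simp only [Finset.mem_image, Finset.mem_univ, true_and, mem_pairT, f]
    constructor
    · rintro ⟨j, rfl⟩
      show C.k + 2 + (j : ℕ) = C.k + 2 ∨ C.k + 2 + (j : ℕ) = C.k + 2 + 1
      omega
    · rintro (e | e)
      · exact ⟨0, Fin.ext (by simp [e])⟩
      · exact ⟨1, Fin.ext (by simp [e])⟩
  obtain ⟨hfin, -⟩ := id hF
  let T : Subgroup (Cfsg.SU 2 F q) :=
    { carrier := {a | ∃ x ∈ C.D.GU (C.k + 2), x.2 = embS hf a ∧ Commute k x}
      one_mem' := ⟨1, one_mem _, (map_one (embS hf)).symm, Commute.one_right k⟩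
      mul_mem' := fun ⟨x, hx, e, c⟩ ⟨x', hx', e', c'⟩ =>
        ⟨x * x', mul_mem hx hx', by rw [Prod.snd_mul, e, e', map_mul], c.mul_right c'⟩
      inv_mem' := fun ⟨x, hx, e, c⟩ =>
        ⟨x⁻¹, inv_mem hx, by rw [Prod.snd_inv, e, map_inv], c.inv_right⟩ }
  have hpre : ∀ t ∈ (fixT (pairT n (C.k + 2)) : Subgroup (Sug (n + 1) F q)),
      ∃ a, embS hf a = t := fun t ht => by
    rw [← himg, ← range_embS hf hF] at ht
    exact ht
  obtain ⟨a1, ha1⟩ := hpre t1 (hT ▸ ht1)
  obtain ⟨a2, ha2⟩ := hpre t2 (hT ▸ ht2)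
  have hcube : ∀ (t : Sug (n + 1) F q) (w0 : Fin (n + 1) → F), herm q w0 w0 = 0 →
      (∀ w, app t w = w + (d * herm q w w0) • w0) → t ^ 3 = 1 := fun t w0 h0 ht => by
    refine ext_basis fun l => ?_
    simp only [pow_succ, pow_zero, one_mul, app_mul, app_one, ht, herm_add_left, herm_smul_left,
      h0, mul_zero, add_zero, add_assoc, ← add_smul]
    rw [show d * herm q (dd l) w0 + (d * herm q (dd l) w0 + d * herm q (dd l) w0) = 0 by
      linear_combination (d * herm q (dd l) w0) * h3, zero_smul, add_zero]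
  have hTop : T = ⊤ := by
    refine eq_top_of_two_three ?_ (su2_three_generate hF hq) T (x := a1) (y := a2)
      ⟨x1, hle hx1, hx1e.trans ha1.symm, c1⟩ ⟨x2, hle hx2, hx2e.trans ha2.symm, c2⟩
      (embS_injective hf (by rw [map_pow, ha1, map_one]; exact hcube t1 z hzz ht1e))
      (embS_injective hf (by rw [map_pow, ha2, map_one]; exact hcube t2 z' hz'z' ht2e)) ?_
    · have h1 := card_SUG hF (n := 2) (by norm_num)
      have h2 := card_UG hF 2
      rw [← Nat.card_congr (suEquiv 2 F q).toEquiv, h2, hq] at h1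
      simp [Finset.prod_range_succ] at h1
      rw [hq]
      omega
    · intro e
      have e' := congrArg (embS hf) e
      rw [map_mul, map_mul, ha1, ha2] at e'
      have h := congrArg (fun t => app t z) e'
      have hzz' : herm q z z' = 1 := by rw [← hF.herm_symm, hz'z, one_pow]
      simp only [app_mul, ht1e, ht2e, hzz, mul_zero, zero_smul, add_zero, herm_add_left,
        herm_smul_left, hz'z, hzz', mul_one, zero_add] at h
      have h' := congrArg (fun w => herm q w z') h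
      simp only [herm_add_left, herm_smul_left, hz'z', hzz', mul_zero, add_zero, mul_one] at h'
      have hd2 : d * d = 0 := by linear_combination h'
      rw [hdd] at hd2
      exact neg_ne_zero.mpr one_ne_zero hd2
  intro t ht
  obtain ⟨a, ha⟩ := hpre t.2 (C.D.GU_mem _ C.lt2 t ht)
  obtain ⟨x, hx, hxe, hxc⟩ : a ∈ T := hTop ▸ Subgroup.mem_top a
  rwa [(C.D.funcU C.lt2).eq ht hx (by rw [hxe, ha])]

theorem comm_stab (hn : n = C.k + 3) {k : H × Sug (n + 1) F q} {y y' : Fin (n + 1) → F}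
    (hp : C.IsPair y y') (hk : C.Shift s k y y') {h : H × Sug (n + 1) F q} (hh : h ∈ C.L1)
    (hfix : app h.2 y' = y') : Commute k h := by
  obtain ⟨g, hg, hge⟩ := C.D.exists_tail_lift C.lt1 C.good1 hp.2.1.1 hp.2.1.2
  have hgi : g⁻¹ ∈ C.L1 := inv_mem hg
  have he : app g.2⁻¹ y' = C.e1 := by rw [← hge, app_inv_app]
  have hp' := C.app_pair hgi hp
  have hk' := C.shift_conj hq hs hgi hp hk
  rw [Prod.snd_inv, he] at hp' hk'
  set h' := g⁻¹ * h * g with hh'
  have hh1 : h' ∈ C.L1 := mul_mem (mul_mem hgi hh) hg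
  have hh2 : app h'.2 C.e1 = C.e1 := by
    rw [hh', Prod.snd_mul, Prod.snd_mul, app_mul, app_mul, show app g.2 C.e1 = y' from hge, hfix,
      Prod.snd_inv, he]
  have hle : C.D.Lk (C.k + 2) ≤ C.D.GU (C.k + 2) :=
    (Subgroup.closure_le _).mpr fun x ⟨i, hi, hin, hx⟩ => by
      obtain rfl : i = C.k + 2 := by omega
      exact hx
  have hc := C.comm_pair_block hq hs hn hp' hk' h' (hle (C.mem_L2_of_fix hh1 hh2))
  show k * h = h * k
  have e : g⁻¹ * (k * h) * g = g⁻¹ * (h * k) * g :=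
    calc g⁻¹ * (k * h) * g = g⁻¹ * k * g⁻¹⁻¹ * h' := by rw [hh']; group
      _ = h' * (g⁻¹ * k * g⁻¹⁻¹) := hc
      _ = g⁻¹ * (h * k) * g := by rw [hh']; group
  exact mul_left_cancel (mul_right_cancel e)

theorem central (hn : n = C.k + 3) {k : H × Sug (n + 1) F q} {y y' : Fin (n + 1) → F}
    (hp : C.IsPair y y') (hk : C.Shift s k y y') {h : H × Sug (n + 1) F q} (hh : h ∈ C.L1) :
    Commute k h := by
  have hF := C.D.hF
  have h3 := three_eq_zero hF hq
  obtain ⟨z', d, hp', hdd, hdq, hz', hz'e, hz'z', hz'z, hy''y, hsum⟩ := C.exists_square hq hs hp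
  set y2 := -y' + d • z' with hy2
  have hN : (1 + d) * (1 + d) ^ q = 2 := by
    rw [hF.add_pow, one_pow, hdq]; linear_combination -hdd
  have hk2 : C.Shift s k y2 y' := by
    refine C.shift_square hq hs hp hp' hk ?_ ?_
    · rw [hy''y, pow_succ', hN]
      intro e
      exact one_ne_zero (α := F) (by linear_combination e)
    · rw [hy''y, pow_succ', ← add_assoc, hF.add_pow, hF.add_pow, one_pow, hdq]
      intro e
      exact one_ne_zero (α := F) (by linear_combination e + hdd - h3)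
  have cy : ∀ t ∈ C.L1, app t.2 y = y → Commute k t := fun t ht htf =>
    Commute.inv_left_iff.mp (C.comm_stab hq hs hn hp.symm (C.shift_symm hq hs hk) ht htf)
  have cy2 : ∀ t ∈ C.L1, app t.2 y2 = y2 → Commute k t := fun t ht htf =>
    Commute.inv_left_iff.mp (C.comm_stab hq hs hn hp'.symm (C.shift_symm hq hs hk2) ht htf)
  -- the involution fixing the first pole
  obtain ⟨g, hg, hge⟩ := C.D.exists_tail_lift C.lt1 C.good1 hp.1.1 hp.1.2
  obtain ⟨t0, ht0, ht0e⟩ := exists_negation hF (T := pairT n (C.k + 2))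
    (a := ⟨C.k + 2, by omega⟩) (b := ⟨C.k + 3, by omega⟩) (mem_pairT.mpr (Or.inl rfl))
    (mem_pairT.mpr (Or.inr rfl)) (by simp [Fin.ext_iff])
    (fun l hl => by
      rcases mem_pairT.mp hl with e | e
      · exact Or.inl (Fin.ext e)
      · exact Or.inr (Fin.ext e))
  obtain ⟨i0, hi0, hi0e⟩ := C.D.GU_lift _ C.lt2 t0 ht0
  have hi1 : i0 ∈ C.L1 := C.D.GU_le_Lk (Nat.le_succ _) C.lt2 hi0
  set ι := g * i0 * g⁻¹ with hι
  have hιL : ι ∈ C.L1 := mul_mem (mul_mem hg hi1) (inv_mem hg)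
  have hgy : app g.2⁻¹ y = C.e1 := by rw [← hge, app_inv_app]
  have hi0e1 : app i0.2 C.e1 = C.e1 :=
    fix_bas (C.D.GU_mem _ C.lt2 i0 hi0) C.lt1.le (by simp [mem_pairT])
  have hιy : app ι.2 y = y := by
    rw [hι, Prod.snd_mul, Prod.snd_mul, app_mul, app_mul, Prod.snd_inv, hgy, hi0e1]
    exact hge
  set a := herm q y2 y with ha
  set r := y2 - a • y with hr
  have hry : herm q r y = 0 := by
    rw [hr, herm_sub_left, herm_smul_left, hp.1.2, mul_one, sub_self]
  have hrP : app g.2⁻¹ r ∈ supp (pairT n (C.k + 2)) := by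
    have hW : app g.2⁻¹ r ∈ supp (tailT n (C.k + 1)) :=
      app_mem_supp hF (inv_mem (C.D.snd_mem hg)) (sub_mem hp'.1.1 ((supp (tailT n (C.k + 1))).smul_mem _ hp.1.1))
    intro l hl
    rw [mem_pairT] at hl
    by_cases h1 : (l : ℕ) = C.k + 1
    · have : dd l = C.e1 := by rw [Ctx.e1, bas_eq C.lt1.le]; congr 1; exact Fin.ext h1
      rw [← herm_dd hF l (app g.2⁻¹ r), this, ← hgy, app_herm]
      exact hry
    · exact hW l (by rw [mem_tailT]; omega)
  have hιr : app ι.2 r = -r := by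
    rw [hι, Prod.snd_mul, Prod.snd_mul, app_mul, app_mul, Prod.snd_inv, hi0e, ht0e _ hrP,
      show -app g.2⁻¹ r = (-1 : F) • app g.2⁻¹ r by rw [neg_one_smul], app_smul, app_app_inv,
      neg_one_smul]
  set y1 := app ι.2 y2 with hy1
  have hy1e : y1 = a • y - r := by
    rw [hy1, show y2 = a • y + r by rw [hr]; abel, app_add, app_smul, hιy, hιr, sub_eq_add_neg]
  have horth : herm q y1 y2 = 0 := by
    have hyy2 : herm q y y2 = a ^ q := by rw [ha, hF.herm_symm]
    rw [hy1e, hr, herm_sub_left, herm_sub_left, herm_smul_left, hyy2, hp'.1.2, hy''y]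
    linear_combination 2 * hN + h3
  have hy1W : C.UnitW y1 := C.app_unitW hιL hp'.1
  have cι : Commute k ι := cy ι hιL hιy
  have cy1 : ∀ t ∈ C.L1, app t.2 y1 = y1 → Commute k t := by
    intro t ht htf
    have h1 := cy2 (ι⁻¹ * t * ι) (mul_mem (mul_mem (inv_mem hιL) ht) hιL) (by
      rw [Prod.snd_mul, Prod.snd_mul, app_mul, app_mul, ← hy1, htf, hy1, Prod.snd_inv, app_inv_app])
    have h2 := (cι.mul_right h1).mul_right cι.inv_right
    rwa [show ι * (ι⁻¹ * t * ι) * ι⁻¹ = t by group] at h2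
  -- a frame with these poles
  obtain ⟨g1, hg1, hg1e⟩ := C.D.exists_tail_lift C.lt1 C.good1 hy1W.1 hy1W.2
  set w := app g1.2⁻¹ y2 with hw
  have hwT : w ∈ supp (tailT n (C.k + 2)) := by
    have h0 := offPart_mem C.lt1.le
      (app_mem_supp hF (inv_mem (C.D.snd_mem hg1)) hp'.1.1)
    have h1 : herm q w (bas F n (C.k + 1)) = 0 := by
      rw [← app_herm g1.2, hw, app_app_inv, hg1e]
      exact herm_comm_zero hF horth
    rwa [offPart_eq' hF C.lt1.le, ← hw, h1, zero_smul, sub_zero] at h0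
  obtain ⟨g2, hg2, hg2e⟩ := C.D.exists_tail_lift C.lt2 C.good2 hwT
    (by rw [hw, app_herm]; exact hp'.1.2)
  obtain ⟨t, ht, hte⟩ := C.D.exists_plane_lift C.lt2
    (bas_mem_pair (F := F) (n := n) (i := C.k + 2) (k := C.k + 3) (by omega) (Or.inr rfl))
    (bas_unit hF (by omega))
  have hg2L : g2 ∈ C.L1 := C.D.Lk_antitone (Nat.le_succ _) hg2
  have htL : t ∈ C.L1 := C.D.GU_le_Lk (Nat.le_succ _) C.lt2 ht
  set g3 := g1 * g2 * t⁻¹ with hg3
  have hg3L : g3 ∈ C.L1 := mul_mem (mul_mem hg1 hg2L) (inv_mem htL)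
  have e_first : app g3.2 C.e1 = y1 := by
    rw [hg3, Prod.snd_mul, Prod.snd_mul, app_mul, app_mul, Prod.snd_inv]
    have h1 : app t.2⁻¹ C.e1 = C.e1 :=
      fix_bas (inv_mem (C.D.GU_mem _ C.lt2 t ht)) C.lt1.le (by simp [mem_pairT])
    rw [h1, show app g2.2 C.e1 = C.e1 from fix_bas (C.D.snd_mem hg2) C.lt1.le (by simp [mem_tailT])]
    exact hg1e
  have e_last : app g3.2 (bas F n (C.k + 3)) = y2 := by
    rw [hg3, Prod.snd_mul, Prod.snd_mul, app_mul, app_mul, Prod.snd_inv, ← hte, app_inv_app,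
      hg2e, hw, app_app_inv]
  have hgens : ∀ i, C.k + 1 ≤ i → i < n → ∀ x ∈ C.D.GU i, Commute (g3⁻¹ * k * g3) x := by
    intro i hi hin x hx
    have hxL : x ∈ C.L1 := C.D.GU_le_Lk hi hin hx
    have hcase : i = C.k + 1 ∨ i = C.k + 2 := by omega
    have hfix : Commute k (g3 * x * g3⁻¹) := by
      have hL : g3 * x * g3⁻¹ ∈ C.L1 := mul_mem (mul_mem hg3L hxL) (inv_mem hg3L)
      rcases hcase with rfl | rfl
      · refine cy2 _ hL ?_
        rw [Prod.snd_mul, Prod.snd_mul, app_mul, app_mul, Prod.snd_inv, ← e_last, app_inv_app,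
          fix_bas (C.D.GU_mem _ hin x hx) (by omega) (by simp [mem_pairT])]
      · refine cy1 _ hL ?_
        rw [Prod.snd_mul, Prod.snd_mul, app_mul, app_mul, Prod.snd_inv, ← e_first, app_inv_app,
          show app x.2 C.e1 = C.e1 from
            fix_bas (C.D.GU_mem _ hin x hx) C.lt1.le (by simp [mem_pairT])]
    show g3⁻¹ * k * g3 * x = x * (g3⁻¹ * k * g3)
    calc g3⁻¹ * k * g3 * x = g3⁻¹ * (k * (g3 * x * g3⁻¹)) * g3 := by group
      _ = g3⁻¹ * (g3 * x * g3⁻¹ * k) * g3 := by rw [hfix.eq]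
      _ = x * (g3⁻¹ * k * g3) := by group
  have hc := commute_of_closure (x := g3⁻¹ * k * g3)
    (s := {x | ∃ i, C.k + 1 ≤ i ∧ i < n ∧ x ∈ C.D.GU i})
    (fun x ⟨i, hi, hin, hx⟩ => hgens i hi hin x hx)
    (mul_mem (mul_mem (inv_mem hg3L) hh) hg3L)
  calc k * h = g3 * (g3⁻¹ * k * g3 * (g3⁻¹ * h * g3)) * g3⁻¹ := by group
    _ = g3 * (g3⁻¹ * h * g3 * (g3⁻¹ * k * g3)) * g3⁻¹ := by rw [hc.eq]
    _ = h * k := by group

end

theorem link_step_three {v a : Fin (n + 1) → F} (hv : C.Unit' v)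
    (hw : herm q (offPart n C.k v) (offPart n C.k v) = 0) (hw0 : offPart n C.k v ≠ 0)
    (hq : q = 3)
    (kill : ∀ x ∈ C.D.Lk C.k, x.2 = 1 → x ^ 3 = 1 →
      (∀ h ∈ C.D.Lk (C.k + 1), Commute x h) → x = 1)
    (ha : C.Good' v a) {μ : F} (hμ : μ ^ (q + 1) = 1) :
    C.Link v a (a + μ • offPart n C.k v) := by
  have hF := C.D.hF
  have h3 := three_eq_zero hF hq
  set w := offPart n C.k v with hwdef
  by_cases hbig : C.k + 4 ≤ n
  · have hb : C.Good' v (a + μ • w) := by
      have hwW : w ∈ supp (tailT n (C.k + 1)) := offPart_mem C.lt0.le hv.1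
      have haw : herm q a w = 0 := by rw [← C.herm_W hv.1 ha.1.1]; exact ha.2
      refine ⟨⟨(supp _).add_mem ha.1.1 ((supp _).smul_mem _ hwW), ?_⟩, ?_⟩
      · simp only [herm_add_left, hF.herm_add_right, herm_smul_left, herm_smul_right, haw,
          herm_comm_zero hF haw, hw, ha.1.2, mul_zero, add_zero]
      · rw [herm_add_left, herm_smul_left, ha.2, C.herm_W hv.1 hwW, hw, mul_zero, add_zero]
    obtain ⟨b, hb1, hb2, hbP, hba'⟩ := exists_unit_perp_two hF (isON_singleton hF ha.1.2)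
      (T := tailT n (C.k + 1)) (fun p hp => by rw [Finset.mem_singleton.mp hp]; exact ha.1.1)
      hb.1.1 (by rw [Finset.card_singleton, card_tailT _ C.lt1.le]; omega)
    exact C.link_generic hv hw ha hb ⟨hb1, hb2⟩ (hbP a (Finset.mem_singleton_self a)) hba'
  have hn : n = C.k + 3 := by have := C.hk; omega
  have hwW : w ∈ supp (tailT n (C.k + 1)) := offPart_mem C.lt0.le hv.1
  have haw : herm q a w = 0 := by rw [← C.herm_W hv.1 ha.1.1]; exact ha.2
  have hwa : herm q w a = 0 := herm_comm_zero hF haw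
  obtain ⟨s, hs⟩ := hF.exists_norm (c := (-1 : F)) (by rw [hF.neg_pow, one_pow])
  rw [pow_succ'] at hs hμ
  set x := herm q v (bas F n C.k) with hxdef
  have hxx : x * x ^ q = 1 := by
    have h1 := herm_decomp hF C.lt0 hv.1 hv.1
    rw [hv.2, hw, add_zero] at h1
    exact h1.symm
  have hxq0 : x ^ q ≠ 0 := right_ne_zero_of_mul (hxx.trans_ne one_ne_zero)
  obtain ⟨y, hyW, hyP, hyw, hyy⟩ := exists_prescribed hF (isON_singleton hF ha.1.2)
    (fun p hp => by rw [Finset.mem_singleton.mp hp]; exact ha.1.1) hwW hw0 hw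
    (fun p hp => by rw [Finset.mem_singleton.mp hp]; exact hwa)
    (δ := -(x ^ q)) (neg_ne_zero.mpr hxq0) (one_pow q)
  have hya := hyP a (Finset.mem_singleton_self a)
  have hay : herm q a y = 0 := herm_comm_zero hF hya
  have hwy : herm q w y = -x := by rw [← hF.herm_symm, hyw, hF.neg_pow, hF.pow_pow]
  set r := μ ^ q * x ^ q with hr
  have hrr : r * r ^ q = 1 := by
    rw [hr, mul_pow, hF.pow_pow, hF.pow_pow]
    linear_combination (μ ^ q * μ) * hxx + hμ
  set y2 := r • a + y + (-(x ^ q)) • w with hy2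
  set y3 := (-r) • a + y + (-(x ^ q)) • w with hy3
  have hmem : ∀ c : F, c • a + y + (-(x ^ q)) • w ∈ supp (tailT n (C.k + 1)) := fun c =>
    (supp _).add_mem ((supp _).add_mem ((supp _).smul_mem _ ha.1.1) hyW) ((supp _).smul_mem _ hwW)
  have hprod : ∀ c e : F, herm q (c • a + y + (-(x ^ q)) • w) (e • a + y + (-(x ^ q)) • w)
      = c * e ^ q := fun c e => by
    simp only [herm_add_left, hF.herm_add_right, herm_smul_left, herm_smul_right, ha.1.2, hyy, hya,
      hay, hyw, hwy, hw, haw, hwa, hF.neg_pow, hF.pow_pow]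
    linear_combination 2 * hxx + h3
  have hone : ∀ c : F, herm q y (c • a + y + (-(x ^ q)) • w) = -1 := fun c => by
    simp only [hF.herm_add_right, herm_smul_right, hya, hyy, hyw, hF.neg_pow, hF.pow_pow]
    linear_combination hxx + h3
  have hyU : C.UnitW y := ⟨hyW, hyy⟩
  have hy2U : C.UnitW y2 := ⟨hmem r, (hprod r r).trans hrr⟩
  have hy3U : C.UnitW y3 := ⟨hmem (-r), by
    rw [hy3, hprod, hF.neg_pow, neg_mul_neg]; exact hrr⟩
  have hr0 : r ≠ 0 := left_ne_zero_of_mul (hrr.trans_ne one_ne_zero)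
  have hne1 : ∀ c : F, c ≠ 0 → y + (c • a + y + (-(x ^ q)) • w) ≠ 0 := fun c hc e => by
    have h := congrArg (fun u => herm q u a) e
    simp only [herm_add_left, herm_smul_left, hya, hwa, ha.1.2, herm_zero_left] at h
    exact hc (by linear_combination h)
  have p12 : C.IsPair y y2 := ⟨hyU, hy2U, hone r, hne1 r hr0⟩
  have p31 : C.IsPair y3 y := IsPair.symm ⟨hyU, hy3U, hone (-r), hne1 _ (neg_ne_zero.mpr hr0)⟩
  have p23 : C.IsPair y2 y3 := by
    refine ⟨hy2U, hy3U, ?_, fun e => ?_⟩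
    · rw [hy2, hy3, hprod, hF.neg_pow, mul_neg, hrr]
    · have h := congrArg (fun u => herm q u w) e
      simp only [hy2, hy3, herm_add_left, herm_smul_left, haw, hyw, hw, herm_zero_left] at h
      exact hxq0 (by linear_combination h + (x ^ q) * h3)
  -- the permutation of the three poles
  have hsub : ∀ {p p' : Fin (n + 1) → F}, C.IsPair p p' → herm q (p - p') (p - p') = 1 := by
    intro p p' hp
    rw [herm_sub_left, hF.herm_sub_right, hF.herm_sub_right, hp.1.2, hp.2.1.2, hp.2.2.1,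
      hp.symm.2.2.1]
    linear_combination h3
  have hcond : ∀ {p p' : Fin (n + 1) → F}, C.IsPair p p' →
      (1 : F) + 1 ^ q + 1 * 1 ^ q * herm q (p - p') (p - p') = 0 := fun hp => by
    rw [one_pow, hsub hp]; linear_combination h3
  have hdet : href hF (hcond p12) * href hF (hcond p23) ∈ SUG (n + 1) F q := by
    rw [mem_SUG]
    apply Units.ext
    rw [Subgroup.coe_mul, map_mul, Units.val_mul, det_href hF, det_href hF, hsub p12, hsub p23,
      Units.val_one]
    linear_combination h3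
  obtain ⟨h, hh, hhe⟩ := C.good1.surj ⟨href hF (hcond p12) * href hF (hcond p23), hdet⟩
    (mul_mem (href_mem_fixG hF (sub_mem p12.1.1 p12.2.1.1) (hcond p12))
      (href_mem_fixG hF (sub_mem p23.1.1 p23.2.1.1) (hcond p23)))
  have happ : ∀ u, app h.2 u =
      (u + (1 * herm q u (y2 - y3)) • (y2 - y3))
        + (1 * herm q (u + (1 * herm q u (y2 - y3)) • (y2 - y3)) (y - y2)) • (y - y2) := fun u => by
    rw [hhe]
    show (href hF (hcond p12) * href hF (hcond p23)).1 u = _
    rw [Subgroup.coe_mul, LinearEquiv.mul_apply, href_apply, href_apply]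
  have q21 := p12.symm.2.2.1
  have q32 := p23.symm.2.2.1
  have q13 := p31.symm.2.2.1
  have hkey : ∀ P Q : Fin (n + 1) → F, P + (2 : F) • (P - Q) = Q := fun P Q => by
    rw [← sub_eq_zero, show P + (2 : F) • (P - Q) - Q = (3 : F) • (P - Q) by module, h3, zero_smul]
  have m1 : app h.2 y = y2 := by
    rw [happ, show herm q y (y2 - y3) = 0 by
        rw [hF.herm_sub_right, p12.2.2.1, q13, sub_self],
      mul_zero, zero_smul, add_zero, show herm q y (y - y2) = 2 by
        rw [hF.herm_sub_right, hyy, p12.2.2.1]; ring,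
      one_mul, hkey]
  have m2 : app h.2 y2 = y3 := by
    rw [happ, show herm q y2 (y2 - y3) = 2 by
        rw [hF.herm_sub_right, hy2U.2, p23.2.2.1]; ring,
      one_mul, hkey, show herm q y3 (y - y2) = 0 by
        rw [hF.herm_sub_right, p31.2.2.1, q32, sub_self],
      mul_zero, zero_smul, add_zero]
  obtain ⟨k, hk⟩ := C.exists_shift hq hs p12
  have hcen : ∀ t ∈ C.L1, Commute k t := fun t ht => C.central hq hs hn p12 hk ht
  have k23 : C.Shift s k y2 y3 := by
    have := C.shift_conj hq hs hh p12 hk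
    rwa [m1, m2, show h * k * h⁻¹ = k by rw [← (hcen h hh).eq]; group] at this
  have m3 : app h.2 y3 = y := by
    rw [happ, show herm q y3 (y2 - y3) = 1 by
        rw [hF.herm_sub_right, q32, hy3U.2]; linear_combination -h3,
      one_mul, one_smul, add_sub_cancel, show herm q y2 (y - y2) = 1 by
        rw [hF.herm_sub_right, q21, hy2U.2]; linear_combination -h3,
      one_mul, one_smul, add_sub_cancel]
  have k31 : C.Shift s k y3 y := by
    have := C.shift_conj hq hs hh p23 k23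
    rwa [m2, m3, show h * k * h⁻¹ = k by rw [← (hcen h hh).eq]; group] at this
  have hk3 : k ^ 3 = 1 := by
    have e1 := hk.2.2.smul hk.1
    have e2 := k23.2.2
    have hprj : ∀ (g : H × Sug (n + 1) F q), g.2 = 1 → ∀ {p}, C.UnitW p →
        C.prj (g • C.gA (C.mv s p)) = C.mv s p := fun g hg p hp => by
      rw [C.prj_smul, hg, app_one, C.mv_prj hq hs hp]
    have ekk : (k * k).2 = 1 := by rw [Prod.snd_mul, hk.2.1, one_mul]
    have e3 : C.Adj (k • k • C.gA (C.mv s y)) (C.gA (C.mv s y3)) := by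
      refine C.adj_tri (C.adj_symm e1) e2 ?_
      rw [C.mv_prj hq hs hy3U, ← mul_smul, hprj _ ekk hyU]
      exact C.mv_perp hq hs p31
    have e4 := C.adj_symm (C.shift_symm hq hs k31).2.2
    have h5 := C.adj_unique (C.adj_symm e3) e4
      (by rw [← mul_smul, hprj _ ekk hyU, hprj _ (by rw [Prod.snd_inv, hk.2.1, inv_one]) hyU])
    refine C.kernel_free (pow_mem hk.1 3) (by rw [Prod.pow_snd, hk.2.1, one_pow])
      (c := C.gA (C.mv s y)) ?_
    rw [pow_succ', pow_two, mul_smul, mul_smul, h5, smul_inv_smul]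
  have hk1 : k = 1 := kill k hk.1 hk.2.1 hk3 hcen
  have emid : C.Adj (C.gA (C.mv s y)) (C.gA (C.mv s y2)) := by
    have := hk.2.2
    rwa [hk1, one_smul] at this
  have hmv : ∀ {p}, C.UnitW p → herm q p w = -(x ^ q) → herm q (C.mv s p) v = 0 := by
    intro p hp hpw
    rw [mv, herm_smul_left, herm_add_left, C.herm_W hv.1 hp.1, ← hwdef, hpw, ← hF.herm_symm,
      ← hxdef, add_neg_cancel, mul_zero]
  have hmW : ∀ {p c}, C.UnitW p → C.UnitW c → herm q p c = 0 → herm q (C.mv s p) c = 0 := by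
    intro p c hp hc hpc
    rw [mv, herm_smul_left, herm_add_left, (herm_bas_tail hF C.lt0 hc.1).2, hpc, zero_add, mul_zero]
  set b := a + μ • w with hb
  have hbU : C.UnitW b := ⟨(supp _).add_mem ha.1.1 ((supp _).smul_mem _ hwW), by
    simp only [hb, herm_add_left, hF.herm_add_right, herm_smul_left, herm_smul_right, haw, hwa,
      hw, ha.1.2, mul_zero, add_zero]⟩
  have hbv : herm q b v = 0 := by
    rw [hb, herm_add_left, herm_smul_left, ha.2, C.herm_W hv.1 hwW, hw, mul_zero, add_zero]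
  have hy2w : herm q y2 w = -(x ^ q) := by
    simp only [hy2, herm_add_left, herm_smul_left, haw, hyw, hw, mul_zero, zero_add, add_zero]
  have hy2b : herm q y2 b = 0 := by
    rw [hb, hF.herm_add_right, herm_smul_right, hy2w]
    simp only [hy2, herm_add_left, herm_smul_left, ha.1.2, hya, hwa, mul_one, mul_zero, add_zero, hr]
    ring
  refine ((C.link_of_edge (C.mv_unit hq hs hyU) (C.mv_isA hq hs hyU)
    (C.adj_symm (C.edge_W (C.mv_unit hq hs hyU) (C.mv_isA hq hs hyU) ha.1 (hmW hyU ha.1 hya)))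
    (herm_comm_zero hF (hmv hyU hyw))).trans
    (C.link_of_edge (C.mv_unit hq hs hy2U) (C.mv_isA hq hs hy2U) emid
      (herm_comm_zero hF (hmv hy2U hy2w)))).trans ?_
  exact C.link_of_edge hbU.unit (C.unitW_isA hbU)
    (C.edge_W (C.mv_unit hq hs hy2U) (C.mv_isA hq hs hy2U) hbU (hmW hy2U hbU hy2b))
    (herm_comm_zero hF hbv)

end Ctx

end

end Cfsg.Agent.PhanSU
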