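import Cfsg.Agent.Classical.UGroup

/-!
Orthogonal units in coordinate subspaces of a unitary space, and the special unitary elements
supported on sets of coordinates (Phan recognition of unitary groups).
-/

set_option autoImplicit false
set_option linter.style.haveILetI false

open scoped Classical

namespace Cfsg.Agent.PhanSU

open Cfsg.Agent.Classical.U

universe u

variable {F : Type u} [Field F] {m q : ℕ}

/-- The unit basis vector. -/
def dd (l : Fin m) : Fin m → F := Pi.single l (1 : F)

theorem dd_self (l : Fin m) : (dd l : Fin m → F) l = 1 := by simp [dd]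

theorem dd_ne {l i : Fin m} (h : i ≠ l) : (dd l : Fin m → F) i = 0 := by simp [dd, h]

/-- Vectors supported on a set of coordinates. -/
def supp (T : Finset (Fin m)) : Submodule F (Fin m → F) where
  carrier := {v | ∀ l, l ∉ T → v l = 0}
  add_mem' {a b} ha hb l hl := by simp [ha l hl, hb l hl]
  zero_mem' _ _ := rfl
  smul_mem' c a ha l hl := by simp [ha l hl]

theorem mem_supp {T : Finset (Fin m)} {v : Fin m → F} : v ∈ supp T ↔ ∀ l, l ∉ T → v l = 0 :=
  Iff.rfl

theorem dd_mem_supp {T : Finset (Fin m)} {l : Fin m} (h : l ∈ T) : (dd l : Fin m → F) ∈ supp T :=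
  fun _ hi => dd_ne fun e => hi (e ▸ h)

theorem supp_mono {T T' : Finset (Fin m)} (h : T ⊆ T') : (supp T : Submodule F (Fin m → F)) ≤ supp T' :=
  fun _ hv l hl => hv l fun hh => hl (h hh)

theorem card_le_of_dd_mem_span {T : Finset (Fin m)} {P : Finset (Fin m → F)}
    (h : ∀ l ∈ T, (dd l : Fin m → F) ∈ Submodule.span F (P : Set (Fin m → F))) :
    T.card ≤ P.card := by
  have hli : LinearIndependent F (fun l : {x // x ∈ T} => (dd l.1 : Fin m → F)) := by
    have := (Pi.basisFun F (Fin m)).linearIndependent.comp (fun l : {x // x ∈ T} => l.1)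
      Subtype.val_injective
    simpa [Function.comp_def, dd] using this
  have h1 := finrank_span_eq_card hli
  rw [Fintype.card_coe] at h1
  have h2 : Submodule.span F (Set.range fun l : {x // x ∈ T} => (dd l.1 : Fin m → F))
      ≤ Submodule.span F (P : Set (Fin m → F)) :=
    Submodule.span_le.mpr (by rintro _ ⟨l, rfl⟩; exact h l.1 l.2)
  exact h1 ▸ (Submodule.finrank_mono h2).trans (finrank_span_finset_le_card P)

variable (hF : SqField F q)
include hF

theorem herm_dd (l : Fin m) (v : Fin m → F) : herm q v (dd l) = v l :=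
  herm_single_one l hF.q_ne_zero v

theorem dd_unit (l : Fin m) : herm q (dd l : Fin m → F) (dd l) = 1 := by
  rw [herm_dd hF, dd_self]

theorem herm_comm_zero {u v : Fin m → F} (h : herm q u v = 0) : herm q v u = 0 := by
  rw [← hF.herm_symm, h, zero_pow hF.q_ne_zero]

theorem unit_ne_zero {u : Fin m → F} (h : herm q u u = 1) : u ≠ 0 := by
  rintro rfl; simp at h

theorem exists_tr_ne {z : F} (hz : z ≠ 0) : ∃ c : F, c * z + (c * z) ^ q ≠ 0 := by
  obtain ⟨d, hd⟩ := hF.exists_trace (c := (1 : F)) (one_pow q)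
  refine ⟨d / z, ?_⟩
  rw [div_mul_cancel₀ _ hz, hd]
  exact one_ne_zero

theorem herm_polar {S : Submodule F (Fin m → F)} (h : ∀ z ∈ S, herm q z z = 0) {x y : Fin m → F}
    (hx : x ∈ S) (hy : y ∈ S) : herm q x y = 0 := by
  by_contra hne
  obtain ⟨c, hc⟩ := exists_tr_ne hF hne
  apply hc
  have h1 := h _ (S.add_mem (S.smul_mem c hx) hy)
  simp only [herm_add_left, hF.herm_add_right, herm_smul_left, herm_smul_right, h x hx, h y hy,
    mul_zero, zero_add, add_zero] at h1
  rw [mul_pow, hF.herm_symm]
  linear_combination h1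

theorem exists_scale {z : Fin m → F} (h : herm q z z ≠ 0) :
    ∃ c : F, c ≠ 0 ∧ herm q (c • z) (c • z) = 1 := by
  have hfix : (herm q z z)⁻¹ ^ q = (herm q z z)⁻¹ := by rw [inv_pow, hF.herm_symm]
  obtain ⟨c, hc⟩ := hF.exists_norm hfix
  have h1 : herm q (c • z) (c • z) = 1 := by
    rw [herm_smul_left, herm_smul_right, ← mul_assoc, ← pow_succ', hc, inv_mul_cancel₀ h]
  refine ⟨c, ?_, h1⟩
  rintro rfl
  simp at h1

omit hF in
/-- A finite orthonormal family. -/
def IsON (q : ℕ) (P : Finset (Fin m → F)) : Prop :=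
  (∀ p ∈ P, herm q p p = 1) ∧ ∀ p ∈ P, ∀ p' ∈ P, p ≠ p' → herm q p p' = 0

omit hF in
/-- The projection orthogonal to an orthonormal family. -/
def proj (q : ℕ) (P : Finset (Fin m → F)) (y : Fin m → F) : Fin m → F :=
  y - ∑ p ∈ P, herm q y p • p

omit hF in
theorem proj_mem {P : Finset (Fin m → F)} {S : Submodule F (Fin m → F)} (hP : ∀ p ∈ P, p ∈ S)
    {y : Fin m → F} (hy : y ∈ S) : proj q P y ∈ S :=
  S.sub_mem hy (S.sum_mem fun p hp => S.smul_mem _ (hP p hp))

omit hF in
theorem herm_sum_left {ι : Type*} (s : Finset ι) (f : ι → Fin m → F) (v : Fin m → F) :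
    herm q (∑ i ∈ s, f i) v = ∑ i ∈ s, herm q (f i) v := by
  induction s using Finset.induction with
  | empty => simp
  | insert a s ha ih => rw [Finset.sum_insert ha, Finset.sum_insert ha, herm_add_left, ih]

omit hF in
theorem proj_perp {P : Finset (Fin m → F)} (hP : IsON q P) (y : Fin m → F) {p : Fin m → F}
    (hp : p ∈ P) : herm q (proj q P y) p = 0 := by
  rw [proj, herm_sub_left, herm_sum_left, Finset.sum_eq_single p]
  · rw [herm_smul_left, hP.1 p hp, mul_one, sub_self]
  · intro b hb hne
    rw [herm_smul_left, hP.2 b hb p hp hne, mul_zero]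
  · exact fun h => absurd hp h

theorem herm_proj_right {P : Finset (Fin m → F)} {x : Fin m → F}
    (hx : ∀ p ∈ P, herm q x p = 0) (y : Fin m → F) : herm q x (proj q P y) = herm q x y := by
  rw [proj, hF.herm_sub_right, ← hF.herm_symm (∑ p ∈ P, herm q y p • p) x, herm_sum_left,
    Finset.sum_eq_zero, zero_pow hF.q_ne_zero, sub_zero]
  intro p hp
  rw [herm_smul_left, herm_comm_zero hF (hx p hp), mul_zero]

theorem isON_insert {P : Finset (Fin m → F)} (hP : IsON q P) {u : Fin m → F}
    (hu : herm q u u = 1) (hperp : ∀ p ∈ P, herm q u p = 0) : IsON q (insert u P) := by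
  refine ⟨fun p hp => ?_, fun p hp p' hp' hne => ?_⟩
  · rcases Finset.mem_insert.mp hp with rfl | hp
    · exact hu
    · exact hP.1 p hp
  · rcases Finset.mem_insert.mp hp with h1 | h1 <;>
      rcases Finset.mem_insert.mp hp' with h2 | h2
    · exact absurd (h1.trans h2.symm) hne
    · exact h1 ▸ hperp p' h2
    · exact h2 ▸ herm_comm_zero hF (hperp p h1)
    · exact hP.2 p h1 p' h2 hne

theorem isON_empty : IsON q (∅ : Finset (Fin m → F)) :=
  ⟨fun p hp => absurd hp (Finset.notMem_empty p), fun p hp => absurd hp (Finset.notMem_empty p)⟩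

theorem isON_singleton {u : Fin m → F} (hu : herm q u u = 1) :
    IsON q ({u} : Finset (Fin m → F)) := by
  rw [← insert_empty_eq u]
  exact isON_insert hF (isON_empty hF) hu fun p hp => absurd hp (Finset.notMem_empty p)

/-- A unit orthogonal to a small orthonormal family inside a coordinate subspace. -/
theorem exists_unit_perp {T : Finset (Fin m)} {P : Finset (Fin m → F)} (hP : IsON q P)
    (hPT : ∀ p ∈ P, p ∈ supp T) (hcard : P.card < T.card) :
    ∃ y ∈ supp T, herm q y y = 1 ∧ ∀ p ∈ P, herm q y p = 0 := by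
  by_contra hcon
  push Not at hcon
  let S : Submodule F (Fin m → F) :=
    { carrier := {y | y ∈ supp T ∧ ∀ p ∈ P, herm q y p = 0}
      add_mem' := fun {a b} ha hb => ⟨(supp T).add_mem ha.1 hb.1,
        fun p hp => by rw [herm_add_left, ha.2 p hp, hb.2 p hp, add_zero]⟩
      zero_mem' := ⟨(supp T).zero_mem, fun p _ => herm_zero_left p⟩
      smul_mem' := fun c a ha => ⟨(supp T).smul_mem c ha.1,
        fun p hp => by rw [herm_smul_left, ha.2 p hp, mul_zero]⟩ }
  have hiso : ∀ z ∈ S, herm q z z = 0 := by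
    intro z hz
    by_contra hne
    obtain ⟨c, -, hc⟩ := exists_scale hF hne
    obtain ⟨p, hp, hpne⟩ := hcon _ (S.smul_mem c hz).1 hc
    exact hpne ((S.smul_mem c hz).2 p hp)
  refine absurd (card_le_of_dd_mem_span (T := T) (P := P) fun l hl => ?_) (not_le.mpr hcard)
  have hmem : ∀ i ∈ T, proj q P (dd i) ∈ S := fun i hi =>
    ⟨proj_mem hPT (dd_mem_supp hi), fun p hp => proj_perp hP _ hp⟩
  have h0 : proj q P (dd l) = 0 := by
    funext i
    by_cases hi : i ∈ T
    · rw [← herm_dd hF i (proj q P (dd l)), ← herm_proj_right hF (hmem l hl).2,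
        herm_polar hF hiso (hmem l hl) (hmem i hi)]
      rfl
    · exact (hmem l hl).1 i hi
  rw [proj, sub_eq_zero] at h0
  rw [h0]
  exact Submodule.sum_mem _ fun p hp => Submodule.smul_mem _ _ (Submodule.subset_span hp)

/-- A vector orthogonal to a family with prescribed value against an isotropic vector and
prescribed norm. -/
theorem exists_prescribed {T : Finset (Fin m)} {P : Finset (Fin m → F)} (hP : IsON q P)
    (hPT : ∀ p ∈ P, p ∈ supp T) {ρ : Fin m → F} (hρ : ρ ∈ supp T) (h0 : ρ ≠ 0)
    (hiso : herm q ρ ρ = 0) (hperp : ∀ p ∈ P, herm q ρ p = 0) {δ t : F} (hδ : δ ≠ 0)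
    (ht : t ^ q = t) :
    ∃ y ∈ supp T, (∀ p ∈ P, herm q y p = 0) ∧ herm q y ρ = δ ∧ herm q y y = t := by
  obtain ⟨i, hi, hne⟩ : ∃ i ∈ T, herm q (proj q P (dd i)) ρ ≠ 0 := by
    by_contra hcon
    push Not at hcon
    apply h0
    funext i
    by_cases hi : i ∈ T
    · rw [← herm_dd hF i ρ, ← herm_proj_right hF hperp]
      exact herm_comm_zero hF (hcon i hi)
    · exact hρ i hi
  set z := proj q P (dd i) with hz
  set y0 := (δ / herm q z ρ) • z with hy0
  have h1 : herm q y0 ρ = δ := by rw [hy0, herm_smul_left, div_mul_cancel₀ _ hne]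
  obtain ⟨x, hx⟩ := hF.exists_trace (c := t - herm q y0 y0) (by rw [hF.sub_pow, ht, hF.herm_symm])
  refine ⟨y0 + (x / δ ^ q) • ρ, ?_, fun p hp => ?_, ?_, ?_⟩
  · exact (supp T).add_mem ((supp T).smul_mem _ (proj_mem hPT (dd_mem_supp hi)))
      ((supp T).smul_mem _ hρ)
  · rw [herm_add_left, hy0, herm_smul_left, hz, proj_perp hP _ hp, herm_smul_left, hperp p hp,
      mul_zero, mul_zero, add_zero]
  · rw [herm_add_left, h1, herm_smul_left, hiso, mul_zero, add_zero]
  · have h2 : herm q ρ y0 = δ ^ q := by rw [← hF.herm_symm, h1]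
    simp only [herm_add_left, hF.herm_add_right, herm_smul_left, herm_smul_right, hiso, h1, h2,
      div_pow, hF.pow_pow, mul_zero, add_zero]
    rw [div_mul_cancel₀ _ hδ, div_mul_cancel₀ _ (pow_ne_zero _ hδ)]
    linear_combination hx

/-- A unit orthogonal to an orthonormal family and one more vector with anisotropic or zero
residue. -/
theorem exists_unit_perp_one {T : Finset (Fin m)} {P : Finset (Fin m → F)} (hP : IsON q P)
    (hPT : ∀ p ∈ P, p ∈ supp T) {x : Fin m → F} (hx : x ∈ supp T)
    (hres : proj q P x = 0 ∨ herm q (proj q P x) (proj q P x) ≠ 0) (hcard : P.card + 1 < T.card) :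
    ∃ y ∈ supp T, herm q y y = 1 ∧ (∀ p ∈ P, herm q y p = 0) ∧ herm q y x = 0 := by
  rcases hres with h0 | hne
  · obtain ⟨y, hy, hy1, hyP⟩ := exists_unit_perp hF hP hPT (by omega)
    refine ⟨y, hy, hy1, hyP, ?_⟩
    rw [← herm_proj_right hF hyP, h0, hF.herm_zero_right]
  · obtain ⟨c, hc, hc1⟩ := exists_scale hF hne
    have hON := isON_insert hF hP hc1 fun p hp => by
      rw [herm_smul_left, proj_perp hP _ hp, mul_zero]
    obtain ⟨y, hy, hy1, hyP⟩ := exists_unit_perp hF hON (fun p hp => by
        rcases Finset.mem_insert.mp hp with rfl | hp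
        · exact (supp T).smul_mem c (proj_mem hPT hx)
        · exact hPT p hp) ((Finset.card_insert_le _ _).trans_lt hcard)
    have hy2 : ∀ p ∈ P, herm q y p = 0 := fun p hp => hyP p (Finset.mem_insert_of_mem hp)
    refine ⟨y, hy, hy1, hy2, ?_⟩
    have h := hyP _ (Finset.mem_insert_self (c • proj q P x) P)
    rw [herm_smul_right, herm_proj_right hF hy2] at h
    exact (mul_eq_zero.mp h).resolve_left (pow_ne_zero _ hc)

/-- A unit orthogonal to an orthonormal family and one arbitrary further vector. -/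
theorem exists_unit_perp_two {T : Finset (Fin m)} {P : Finset (Fin m → F)} (hP : IsON q P)
    (hPT : ∀ p ∈ P, p ∈ supp T) {x : Fin m → F} (hx : x ∈ supp T) (hcard : P.card + 2 < T.card) :
    ∃ y ∈ supp T, herm q y y = 1 ∧ (∀ p ∈ P, herm q y p = 0) ∧ herm q y x = 0 := by
  set ρ := proj q P x with hρ
  by_cases hres : ρ = 0 ∨ herm q ρ ρ ≠ 0
  · exact exists_unit_perp_one hF hP hPT hx hres (by omega)
  push Not at hres
  have hρP : ∀ p ∈ P, herm q ρ p = 0 := fun p hp => proj_perp hP _ hp
  obtain ⟨u, hu, huP, huρ, hu1⟩ := exists_prescribed hF hP hPT (proj_mem hPT hx) hres.1 hres.2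
    hρP one_ne_zero (one_pow q)
  have hρu : herm q ρ u = 1 := by rw [← hF.herm_symm, huρ, one_pow]
  have hON := isON_insert hF hP hu1 huP
  have hPT' : ∀ p ∈ insert u P, p ∈ supp T := fun p hp => by
    rcases Finset.mem_insert.mp hp with rfl | hp
    · exact hu
    · exact hPT p hp
  have hproj : proj q (insert u P) ρ = ρ - u := by
    have hnot : u ∉ P := fun hh => by
      have := huP u hh
      rw [hu1] at this
      exact one_ne_zero this
    rw [proj, Finset.sum_insert hnot, hρu, one_smul, Finset.sum_eq_zero fun p hp => by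
      rw [hρP p hp, zero_smul], add_zero]
  have hne : herm q (ρ - u) (ρ - u) ≠ 0 := by
    rw [herm_sub_left, hF.herm_sub_right, hF.herm_sub_right, hres.2, huρ, hρu, hu1]
    norm_num
  obtain ⟨y, hy, hy1, hyP, hyρ⟩ := exists_unit_perp_one hF hON hPT' (proj_mem hPT hx)
    (Or.inr (hproj ▸ hne)) (by
      have := Finset.card_insert_le u P
      omega)
  have hy2 : ∀ p ∈ P, herm q y p = 0 := fun p hp => hyP p (Finset.mem_insert_of_mem hp)
  exact ⟨y, hy, hy1, hy2, by rw [← herm_proj_right hF hy2]; exact hyρ⟩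

omit hF in
/-- The special unitary group in working form. -/
abbrev Sug (m : ℕ) (F : Type u) [Field F] (q : ℕ) := ↥(SUG m F q)

omit hF in
/-- The action on vectors. -/
def app (g : Sug m F q) (v : Fin m → F) : Fin m → F := g.1.1 v

omit hF in
@[simp] theorem app_one (v : Fin m → F) : app (1 : Sug m F q) v = v := rfl

omit hF in
theorem app_mul (g h : Sug m F q) (v : Fin m → F) : app (g * h) v = app g (app h v) := rfl

omit hF in
theorem app_add (g : Sug m F q) (u v : Fin m → F) : app g (u + v) = app g u + app g v :=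
  map_add g.1.1 u v

omit hF in
theorem app_sub (g : Sug m F q) (u v : Fin m → F) : app g (u - v) = app g u - app g v :=
  map_sub g.1.1 u v

omit hF in
theorem app_smul (g : Sug m F q) (c : F) (v : Fin m → F) : app g (c • v) = c • app g v :=
  map_smul g.1.1 c v

omit hF in
@[simp] theorem app_zero (g : Sug m F q) : app g (0 : Fin m → F) = 0 := map_zero g.1.1

omit hF in
@[simp] theorem app_inv_app (g : Sug m F q) (v : Fin m → F) : app g⁻¹ (app g v) = v := by
  rw [← app_mul, inv_mul_cancel, app_one]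

omit hF in
@[simp] theorem app_app_inv (g : Sug m F q) (v : Fin m → F) : app g (app g⁻¹ v) = v := by
  rw [← app_mul, mul_inv_cancel, app_one]

omit hF in
theorem app_herm (g : Sug m F q) (u v : Fin m → F) : herm q (app g u) (app g v) = herm q u v :=
  g.1.2 u v

omit hF in
theorem ext_basis {g h : Sug m F q} (h1 : ∀ l, app g (dd l) = app h (dd l)) : g = h := by
  apply Subtype.ext
  apply Subtype.ext
  refine LinearEquiv.toLinearMap_injective ((Pi.basisFun F (Fin m)).ext fun l => ?_)
  simpa [app, dd] using h1 l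

omit hF in
/-- The elements fixing the coordinates outside a set. -/
def fixT (T : Finset (Fin m)) : Subgroup (Sug m F q) where
  carrier := {g | ∀ l, l ∉ T → app g (dd l) = dd l}
  mul_mem' {a b} ha hb l hl := by rw [app_mul, hb l hl, ha l hl]
  one_mem' _ _ := rfl
  inv_mem' {a} ha l hl := by
    conv_lhs => rw [← ha l hl]
    exact app_inv_app a _

omit hF in
theorem mem_fixT {T : Finset (Fin m)} {g : Sug m F q} :
    g ∈ fixT T ↔ ∀ l, l ∉ T → app g (dd l) = dd l := Iff.rfl

omit hF in
theorem fixT_mono {T T' : Finset (Fin m)} (h : T ⊆ T') :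
    (fixT T : Subgroup (Sug m F q)) ≤ fixT T' :=
  fun _ hg l hl => hg l fun hh => hl (h hh)

theorem app_mem_supp {T : Finset (Fin m)} {g : Sug m F q} (hg : g ∈ fixT T) {v : Fin m → F}
    (hv : v ∈ supp T) : app g v ∈ supp T := fun l hl => by
  rw [← herm_dd hF l (app g v), ← hg l hl, app_herm, herm_dd hF, hv l hl]

theorem app_coord_of_fix {g : Sug m F q} {l : Fin m} (h : app g (dd l) = dd l) (v : Fin m → F) :
    app g v l = v l := by
  rw [← herm_dd hF l (app g v), ← h, app_herm, herm_dd hF]

omit hF in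
theorem app_eq_self_of_supp {T : Finset (Fin m)} {g : Sug m F q}
    (hg : ∀ l ∈ T, app g (dd l) = dd l) {v : Fin m → F} (hv : v ∈ supp T) : app g v = v := by
  have hsum : v = ∑ l : Fin m, v l • (dd l : Fin m → F) := by
    funext i; simp [dd, Finset.sum_apply, Pi.single_apply]
  conv_lhs => rw [hsum]
  conv_rhs => rw [hsum]
  simp only [app, map_sum, map_smul]
  refine Finset.sum_congr rfl fun l _ => ?_
  by_cases hl : l ∈ T
  · congr 1; exact hg l hl
  · rw [hv l hl, zero_smul, zero_smul]

theorem commute_fixT {T T' : Finset (Fin m)} (hd : Disjoint T T') {a b : Sug m F q}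
    (ha : a ∈ fixT T) (hb : b ∈ fixT T') : Commute a b := by
  refine ext_basis fun l => ?_
  have hab : ∀ {A B : Finset (Fin m)}, Disjoint A B → ∀ {x y : Sug m F q}, x ∈ fixT A →
      y ∈ fixT B → l ∈ A → app (x * y) (dd l) = app (y * x) (dd l) := by
    intro A B hAB x y hx hy hl
    have hB : ∀ i ∈ A, app y (dd i) = dd i := fun i hi =>
      hy i (Finset.disjoint_left.mp hAB hi)
    rw [app_mul, app_mul, hB l hl, app_eq_self_of_supp hB (app_mem_supp hF hx (dd_mem_supp hl))]
  by_cases h1 : l ∈ T
  · exact hab hd ha hb h1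
  by_cases h2 : l ∈ T'
  · exact (hab hd.symm hb ha h2).symm
  rw [app_mul, app_mul, hb l h2, ha l h1, hb l h2]

theorem det_href {c : F} {x : Fin m → F} (h : c + c ^ q + c * c ^ q * herm q x x = 0) :
    ((LinearEquiv.det (href hF h).1 : Fˣ) : F) = 1 + c * herm q x x := by
  rw [LinearEquiv.coe_det, ← LinearMap.det_toMatrix']
  have hM : LinearMap.toMatrix' ((href hF h).1 : (Fin m → F) →ₗ[F] (Fin m → F))
      = 1 + Matrix.replicateCol Unit (c • x) * Matrix.replicateRow Unit (fun j => x j ^ q) := by
    ext i j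
    simp [LinearMap.toMatrix'_apply, href_apply, Matrix.mul_apply, herm_one_single,
      Matrix.one_apply, Pi.single_apply]
    ring
  rw [hM, Matrix.det_one_add_replicateCol_mul_replicateRow]
  simp only [dotProduct, herm_def, Pi.smul_apply, smul_eq_mul, Finset.mul_sum]
  congr 1
  exact Finset.sum_congr rfl fun i _ => by ring

omit hF in
/-- The unitary elements fixing the coordinates outside a set. -/
def fixG (T : Finset (Fin m)) : Subgroup (UG m F q) where
  carrier := {g | ∀ l, l ∉ T → g.1 (dd l) = dd l}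
  mul_mem' {a b} ha hb l hl := by
    rw [Subgroup.coe_mul, LinearEquiv.mul_apply, hb l hl, ha l hl]
  one_mem' _ _ := rfl
  inv_mem' {a} ha l hl := by
    conv_lhs => rw [← ha l hl]
    simp

theorem href_mem_fixG {T : Finset (Fin m)} {c : F} {x : Fin m → F} (hx : x ∈ supp T)
    (h : c + c ^ q + c * c ^ q * herm q x x = 0) : href hF h ∈ fixG T := fun l hl => by
  rw [href_apply, dd, herm_one_single, hx l hl, zero_pow hF.q_ne_zero, mul_zero, zero_smul,
    add_zero]

theorem exists_fixG_map_ne {T : Finset (Fin m)} {u v : Fin m → F} (hu : u ∈ supp T)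
    (hv : v ∈ supp T) (hu1 : herm q u u = 1) (hv1 : herm q v v = 1) (h : herm q u v ≠ 1) :
    ∃ g ∈ (fixG T : Subgroup (UG m F q)), g.1 u = v := by
  set t := herm q u v with ht
  have hne : t - 1 ≠ 0 := sub_ne_zero.2 h
  have hne' : t ^ q - 1 ≠ 0 := fun h' => hne (by
    have := congrArg (· ^ q) h'
    simpa [hF.sub_pow, hF.pow_pow, hF.q_ne_zero] using this)
  have hxx : herm q (v - u) (v - u) = 2 - t - t ^ q := by
    rw [herm_sub_left, hF.herm_sub_right, hF.herm_sub_right, hu1, hv1, ← hF.herm_symm u v, ← ht]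
    ring
  have hh : (t - 1)⁻¹ + (t - 1)⁻¹ ^ q + (t - 1)⁻¹ * (t - 1)⁻¹ ^ q * herm q (v - u) (v - u) = 0 := by
    rw [hxx, inv_pow, hF.sub_pow, one_pow]
    field_simp
    ring
  refine ⟨href hF hh, href_mem_fixG hF (sub_mem hv hu) hh, ?_⟩
  rw [href_apply, hF.herm_sub_right, ← ht, hu1, inv_mul_cancel₀ hne, one_smul, add_sub_cancel]

theorem exists_fixG_map {T : Finset (Fin m)} {u v : Fin m → F} (hu : u ∈ supp T)
    (hv : v ∈ supp T) (hu1 : herm q u u = 1) (hv1 : herm q v v = 1) :
    ∃ g ∈ (fixG T : Subgroup (UG m F q)), g.1 u = v := by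
  by_cases h : herm q u v = 1
  swap
  · exact exists_fixG_map_ne hF hu hv hu1 hv1 h
  obtain ⟨hfin, -⟩ := id hF
  obtain ⟨c, hc1, hc⟩ : ∃ c : F, c ≠ 1 ∧ c ^ (q + 1) = 1 := by
    by_contra hcon
    push Not at hcon
    have h2 := hF.card_norm_one
    have h3 : Nat.card {x : F // x ^ (q + 1) = 1} = 1 := Nat.card_eq_one_iff_exists.2
      ⟨⟨1, one_pow _⟩, fun x => Subtype.ext (by_contra fun hne => hcon x.1 hne x.2)⟩
    have := hF.one_lt
    omega
  have hw : herm q (c • u) (c • u) = 1 := by
    rw [herm_smul_left, herm_smul_right, hu1, mul_one, ← pow_succ', hc]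
  have hcq : c ^ q ≠ 1 := fun e => hc1 (by simpa [hF.pow_pow] using congrArg (· ^ q) e)
  have hmem := (supp T).smul_mem c hu
  obtain ⟨g1, hg1, e1⟩ := exists_fixG_map_ne hF hu hmem hu1 hw
    (by rw [herm_smul_right, hu1, mul_one]; exact hcq)
  obtain ⟨g2, hg2, e2⟩ := exists_fixG_map_ne hF hmem hv hw hv1
    (by rw [herm_smul_left, h, mul_one]; exact hc1)
  exact ⟨g2 * g1, mul_mem hg2 hg1, by rw [Subgroup.coe_mul, LinearEquiv.mul_apply, e1, e2]⟩

/-- Transitivity of the special unitary group of a coordinate subspace on units. -/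
theorem exists_fixT_map {T : Finset (Fin m)} (hT : 1 < T.card) {u v : Fin m → F}
    (hu : u ∈ supp T) (hv : v ∈ supp T) (hu1 : herm q u u = 1) (hv1 : herm q v v = 1) :
    ∃ g ∈ (fixT T : Subgroup (Sug m F q)), app g u = v := by
  obtain ⟨g, hg, hgu⟩ := exists_fixG_map hF hu hv hu1 hv1
  obtain ⟨z, hz, hz1, hzv⟩ := exists_unit_perp hF (isON_singleton hF hv1)
    (fun p hp => by rw [Finset.mem_singleton.mp hp]; exact hv)
    (by rw [Finset.card_singleton]; exact hT)
  set D := ((LinearEquiv.det g.1 : Fˣ) : F) with hD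
  have hDn : D ^ (q + 1) = 1 := det_norm_one hF g
  have hD0 : D ≠ 0 := (LinearEquiv.det g.1).ne_zero
  have hh : (D⁻¹ - 1) + (D⁻¹ - 1) ^ q + (D⁻¹ - 1) * (D⁻¹ - 1) ^ q * herm q z z = 0 := by
    rw [hz1, hF.sub_pow, one_pow, inv_pow]
    have h2 : D⁻¹ * (D ^ q)⁻¹ = 1 := by rw [← mul_inv, ← pow_succ', hDn, inv_one]
    linear_combination h2
  have hdet : href hF hh * g ∈ SUG m F q := by
    rw [mem_SUG]
    apply Units.ext
    rw [Subgroup.coe_mul, map_mul, Units.val_mul, det_href hF, hz1, ← hD]
    simp [hD0]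
  refine ⟨⟨href hF hh * g, hdet⟩, fun l hl => ?_, ?_⟩
  · exact mul_mem (href_mem_fixG hF hz hh) hg l hl
  · show (href hF hh * g).1 u = v
    rw [Subgroup.coe_mul, LinearEquiv.mul_apply, hgu, href_apply,
      herm_comm_zero hF (hzv v (Finset.mem_singleton_self v)), mul_zero, zero_smul, add_zero]

end Cfsg.Agent.PhanSU

namespace Cfsg.Agent.PhanSU

open Cfsg.Agent.Classical.U

universe u

variable {F : Type u} [Field F] {m q : ℕ} (hF : SqField F q)
include hF

theorem card_le_of_isON {T : Finset (Fin m)} {P : Finset (Fin m → F)} (hP : IsON q P)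
    (hPT : ∀ p ∈ P, p ∈ supp T) : P.card ≤ T.card := by
  let r : (Fin m → F) →ₗ[F] ({x // x ∈ T} → F) :=
    LinearMap.pi fun l => LinearMap.proj l.1
  have hr : ∀ v ∈ supp T, r v = 0 → v = 0 := fun v hv h => by
    funext l
    by_cases hl : l ∈ T
    · exact congrFun h ⟨l, hl⟩
    · exact hv l hl
  have hli : LinearIndependent F (fun p : {x // x ∈ P} => r p.1) := by
    rw [Fintype.linearIndependent_iff]
    intro c hc i
    have hmem : ∑ p : {x // x ∈ P}, c p • p.1 ∈ supp T :=
      (supp T).sum_mem fun p _ => (supp T).smul_mem _ (hPT p.1 p.2)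
    have h0 := hr _ hmem (by rw [map_sum]; simpa [map_smul] using hc)
    have := congrArg (fun v => herm q v i.1) h0
    simp only [herm_sum_left, herm_zero_left] at this
    rwa [Finset.sum_eq_single i (fun b _ hb => by
        rw [herm_smul_left, hP.2 b.1 b.2 i.1 i.2 (fun e => hb (Subtype.ext e)), mul_zero])
      (fun h => absurd (Finset.mem_univ i) h), herm_smul_left, hP.1 i.1 i.2, mul_one] at this
  have := hli.fintype_card_le_finrank
  simpa [Module.finrank_fintype_fun_eq_card] using this

theorem eq_zero_of_full {T : Finset (Fin m)} {P : Finset (Fin m → F)} (hP : IsON q P)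
    (hPT : ∀ p ∈ P, p ∈ supp T) (hcard : T.card ≤ P.card) {r : Fin m → F} (hr : r ∈ supp T)
    (hperp : ∀ p ∈ P, herm q r p = 0) : r = 0 := by
  by_contra h0
  have key : ∀ y ∈ supp T, herm q y y = 1 → (∀ p ∈ P, herm q y p = 0) → False := by
    intro y hy hy1 hyP
    have hnot : y ∉ P := fun hh => by
      have := hyP y hh
      rw [hy1] at this
      exact one_ne_zero this
    have := card_le_of_isON hF (isON_insert hF hP hy1 hyP) (fun p hp => by
      rcases Finset.mem_insert.mp hp with rfl | hp
      · exact hy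
      · exact hPT p hp)
    rw [Finset.card_insert_of_notMem hnot] at this
    omega
  by_cases hiso : herm q r r = 0
  · obtain ⟨y, hy, hyP, -, hy1⟩ :=
      exists_prescribed hF hP hPT hr h0 hiso hperp one_ne_zero (one_pow q)
    exact key y hy hy1 hyP
  · obtain ⟨c, -, hc1⟩ := exists_scale hF hiso
    exact key _ ((supp T).smul_mem c hr) hc1 fun p hp => by
      rw [herm_smul_left, hperp p hp, mul_zero]

theorem exists_unit_perp_pair {T : Finset (Fin m)} (hT : 2 < T.card) {x y : Fin m → F}
    (hx : x ∈ supp T) (hy : y ∈ supp T) (hy0 : herm q y y ≠ 0)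
    (hg : herm q x x * herm q y y - herm q x y * herm q y x ≠ 0) :
    ∃ z ∈ supp T, herm q z z = 1 ∧ herm q z x = 0 ∧ herm q z y = 0 := by
  obtain ⟨c, hc, hc1⟩ := exists_scale hF hy0
  have hON := isON_singleton hF hc1
  set p := proj q {c • y} x with hp
  have hpp : herm q p p ≠ 0 := by
    intro e
    apply hg
    have h1 : herm q p p = herm q p x := by
      conv_lhs => arg 3; rw [hp]
      exact herm_proj_right hF (fun z hz => proj_perp hON x hz) x
    rw [e, hp, proj, Finset.sum_singleton, herm_sub_left, herm_smul_left, herm_smul_left,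
      herm_smul_right] at h1
    rw [herm_smul_left, herm_smul_right] at hc1
    linear_combination (-herm q y y) * h1 + (herm q x y * herm q y x) * hc1
  obtain ⟨z, hz, hz1, hzP, hzx⟩ := exists_unit_perp_one hF hON
    (fun a ha => by rw [Finset.mem_singleton.mp ha]; exact (supp T).smul_mem c hy) hx
    (Or.inr hpp) (by rw [Finset.card_singleton]; exact hT)
  refine ⟨z, hz, hz1, hzx, ?_⟩
  have h := hzP _ (Finset.mem_singleton_self _)
  rw [herm_smul_right] at h
  exact (mul_eq_zero.mp h).resolve_left (pow_ne_zero _ hc)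

/-- The norm-one elements generate the field additively. -/
theorem mem_addClosure_norm_one (x : F) :
    x ∈ AddSubgroup.closure {z : F | z ^ (q + 1) = 1} := by
  obtain ⟨hfin, hcard⟩ := id hF
  set S := {z : F | z ^ (q + 1) = 1}
  have hmulS : ∀ a ∈ S, ∀ y ∈ AddSubgroup.closure S, a * y ∈ AddSubgroup.closure S := by
    intro a ha y hy
    induction hy using AddSubgroup.closure_induction with
    | mem b hb =>
      exact AddSubgroup.subset_closure (show (a * b) ^ (q + 1) = 1 by rw [mul_pow, ha, hb, one_mul])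
    | zero => rw [mul_zero]; exact zero_mem _
    | add b c _ _ h1 h2 => rw [mul_add]; exact add_mem h1 h2
    | neg b _ h1 => rw [mul_neg]; exact neg_mem h1
  have hmul : ∀ a ∈ AddSubgroup.closure S, ∀ y ∈ AddSubgroup.closure S,
      a * y ∈ AddSubgroup.closure S := by
    intro a ha y hy
    induction ha using AddSubgroup.closure_induction with
    | mem b hb => exact hmulS b hb y hy
    | zero => rw [zero_mul]; exact zero_mem _
    | add b c _ _ h1 h2 => rw [add_mul]; exact add_mem h1 h2
    | neg b _ h1 => rw [neg_mul]; exact neg_mem h1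
  have hone : (1 : F) ∈ AddSubgroup.closure S := AddSubgroup.subset_closure (one_pow _)
  have hpow : ∀ a ∈ AddSubgroup.closure S, ∀ k : ℕ, a ^ k ∈ AddSubgroup.closure S := by
    intro a ha k
    induction k with
    | zero => rw [pow_zero]; exact hone
    | succ k ih => rw [pow_succ]; exact hmul _ ih a ha
  have : Fintype F := Fintype.ofFinite F
  let K : Subfield F :=
    { carrier := AddSubgroup.closure S
      mul_mem' := fun ha hb => hmul _ ha _ hb
      one_mem' := hone
      add_mem' := fun ha hb => add_mem ha hb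
      zero_mem' := zero_mem _
      neg_mem' := fun ha => neg_mem ha
      inv_mem' := fun a ha => by
        by_cases h0 : a = 0
        · rw [h0, inv_zero]; exact zero_mem _
        have h2 : 2 ≤ Fintype.card F := Fintype.one_lt_card
        have h1 : a * a ^ (Fintype.card F - 2) = 1 := by
          rw [← pow_succ', show Fintype.card F - 2 + 1 = Fintype.card F - 1 by omega]
          exact FiniteField.pow_card_sub_one_eq_one a h0
        rw [inv_eq_of_mul_eq_one_right h1]
        exact hpow a ha _ }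
  have hbig : q + 2 ≤ Nat.card K := by
    rw [show q + 2 = Nat.card {x : F // x ^ (q + 1) = 1} + 1 by rw [hF.card_norm_one]]
    have h0 : (⟨(0 : F), zero_mem K⟩ : K) ∉ Set.range
        (fun z : {x : F // x ^ (q + 1) = 1} =>
          (⟨z.1, AddSubgroup.subset_closure z.2⟩ : K)) := by
      rintro ⟨z, hz⟩
      have h1 : z.1 = 0 := congrArg Subtype.val hz
      have := z.2
      rw [h1, zero_pow (Nat.succ_ne_zero q)] at this
      exact zero_ne_one this
    rw [Nat.card_eq_fintype_card, Nat.card_eq_fintype_card]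
    exact Nat.succ_le_of_lt (Fintype.card_lt_of_injective_of_notMem _
      (fun a b e => Subtype.ext (congrArg Subtype.val e :)) h0)
  have hpow' := Module.natCard_eq_pow_finrank (K := K) (V := F)
  have hd : Module.finrank K F = 1 := by
    have h0 : 0 < Module.finrank K F := Module.finrank_pos
    by_contra h1
    have h2 : Nat.card K ^ 2 ≤ Nat.card K ^ Module.finrank K F :=
      Nat.pow_le_pow_right (by omega) (by omega)
    rw [← hpow', hcard] at h2
    have := Nat.pow_le_pow_iff_left (n := 2) (by norm_num) |>.mp h2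
    omega
  rw [hd, pow_one] at hpow'
  have hsurj : Function.Surjective (fun y : K => (y : F)) :=
    (Function.Injective.bijective_of_nat_card_le Subtype.val_injective hpow'.le).2
  obtain ⟨y, rfl⟩ := hsurj x
  exact y.2

end Cfsg.Agent.PhanSU
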